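import Cfsg.Agent.H24.CxKit

/-! Tower CX, slot B2U: the two upper layers when a Sylow subgroup is low. -/

set_option autoImplicit false

namespace H11.CxB

open Subgroup Cfsg H98 H24.Cx

universe u

variable {G X W : Type u} [Group G] [MulAction G X] [AddCommGroup W] [DistribMulAction G W]
  {Γ Y S E P : Subgroup G} {D : AddSubgroup W} {j : ℕ} {f : List X → W}

/-- The family `Q P ∧ j ≤ m |J P|`. -/
def CC (D : AddSubgroup W) (Y : Subgroup G) (j m : ℕ) (P : Subgroup G) : Prop :=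
  QJ (AP 2 D) Y P ∧ j ≤ m * Nat.card (JJ (AP 2 D) Y P)

theorem up_CC [Finite G] (hp : Pair 2 Γ Y) (hm : Mod 2 Γ D) (j m : ℕ) : Up 2 Γ Y (CC D Y j m) :=
  ⟨fun P Q a b e h => ⟨(up_QJ hp hm.inv_AP).mono P Q a b e h.1,
      h.2.trans (Nat.mul_le_mul_left _ (card_le_of_le (JJ_mono e)))⟩,
    fun g hg P a h => ⟨(up_QJ hp hm.inv_AP).inv g hg P a h.1, by
      rw [JJ_cj hp hm.inv_AP hg, card_cj]; exact h.2⟩⟩

theorem CC_JJ {m : ℕ} (h : Y ≤ P) : CC D Y j m (JJ (AP 2 D) Y P) ↔ CC D Y j m P := by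
  unfold CC QJ; rw [JJ_JJ h]

theorem CC_two (h : CC D Y j 1 P) : CC D Y j 2 P := ⟨h.1, h.2.trans (by omega)⟩

theorem card_JJ_le [Finite G] (hp : Pair 2 Γ Y) (hm : Mod 2 Γ D) (hS : IsSyl 2 S Γ)
    (hP : Rel 2 Γ Y P) : Nat.card (JJ (AP 2 D) Y P) ≤ Nat.card (JJ (AP 2 D) Y S) := by
  obtain ⟨g, hg, h⟩ := hS.exists_cj_le hP.isP hP.le
  rw [← card_cj g, ← JJ_cj hp hm.inv_AP hg]
  exact card_le_of_le (JJ_mono h)

theorem low_of [Finite G] (hp : Pair 2 Γ Y) (hm : Mod 2 Γ D) (hS : IsSyl 2 S Γ) (hL : Low D Y S)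
    (hP : Rel 2 Γ Y P) : Low D Y P := fun A hA hN => by
  obtain ⟨g, hg, h⟩ := hS.exists_cj_le hP.isP hP.le
  have := hL _ ((cj_mono g hA).trans h) (hm.inv_NP g hg A hN)
  rwa [← cj_eq_self (hp.nor hg), cj_le_cj_iff] at this

theorem two_v {t : G} {v : W} (h : IsTv D t v) : v + v = 0 := by
  obtain ⟨w, hw, h2, h3⟩ := h.ex
  have h4 := (h.act w hw).resolve_left h3
  have h5 : t • (w + w) = 0 := by rw [h2, smul_zero]
  rw [smul_add, h4, add_add_add_comm, h2, zero_add] at h5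
  exact h5

theorem FU_mono {C C' : Subgroup G → Prop} (h : C' P → C P) : FU D C P ≤ FU D C' P := by
  by_cases h1 : C P
  · rw [FU_pos h1]; exact bot_le
  · rw [FU_neg h1, FU_neg (mt h h1)]

theorem eq_zero_of {C : Subgroup G → Prop} {w : W} (h : w ∈ FU D C P) (h' : C P) : w = 0 := by
  rwa [FU_pos h', AddSubgroup.mem_bot] at h

/-- The subgroup generated by `Y` and the transvections at `x` with centre other than `v`. -/
def EE (Γ Y : Subgroup G) (D : AddSubgroup W) (x : X) (v : W) : Subgroup G :=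
  Y ⊔ closure {s | s ∈ st Γ [x] ∧ ∃ v', IsTv D s v' ∧ v' ≠ v}

def SS (Γ Y : Subgroup G) (D : AddSubgroup W) (j : ℕ) (f : List X → W) (x : X) : Set W :=
  {v | (∃ t ∈ st Γ [x], IsTv D t v) ∧ CC D Y j 2 (EE Γ Y D x v) ∧
    ∃ g ∈ Γ ⊓ normalizer (EE Γ Y D x v : Set G), f [x, g • x] ≠ 0}

open Classical in
noncomputable def e2 (Γ Y : Subgroup G) (D : AddSubgroup W) (j : ℕ) (f : List X → W) (x : X) : W :=
  if CC D Y j 1 (st Γ [x]) then ∑ᶠ v ∈ SS Γ Y D j f x, v else 0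

theorem on_two {x y : X} : On Y [x, y] ↔ On Y [x] ∧ On Y [y] := on_cons

theorem EE_le (hp : Pair 2 Γ Y) {x : X} (hx : On Y [x]) (v : W) : EE Γ Y D x v ≤ st Γ [x] :=
  sup_le ((le_st hp.le).2 hx) ((closure_le _).2 fun _ h => h.1)

theorem EE_rel (hX : Good 2 G X) (hp : Pair 2 Γ Y) {x : X} (hx : On Y [x]) (v : W) :
    Rel 2 Γ Y (EE Γ Y D x v) :=
  ⟨le_sup_left, (EE_le hp hx v).trans (st_le _ _),
    (hX.rel hp hx (by simp)).isP.to_le (EE_le hp hx v)⟩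

theorem cj_EE_le (hp : Pair 2 Γ Y) (hm : Mod 2 Γ D) {g : G} (hg : g ∈ Γ) (x : X) (v : W) :
    cj g (EE Γ Y D x v) ≤ EE Γ Y D (g • x) (g • v) := by
  unfold EE
  rw [cj_sup, cj_eq_self (hp.nor hg)]
  refine sup_le_sup_left (map_le_iff_le_comap.2 ((closure_le _).2 fun s h => Subgroup.subset_closure ?_)) _
  obtain ⟨h1, v', h2, h3⟩ := h
  refine ⟨?_, g • v', h2.conj hm hg, fun e => h3 (MulAction.injective g e)⟩
  have := conj_mem_cj (g := g) h1
  rwa [← st_sm hg] at this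

theorem EE_sm (hp : Pair 2 Γ Y) (hm : Mod 2 Γ D) {g : G} (hg : g ∈ Γ) (x : X) (v : W) :
    EE Γ Y D (g • x) (g • v) = cj g (EE Γ Y D x v) := by
  refine le_antisymm (le_cj_iff.2 ?_) (cj_EE_le hp hm hg x v)
  simpa using cj_EE_le hp hm (inv_mem hg) (g • x) (g • v)

theorem on_smul {x : X} (hx : On E [x]) {g : G} (hg : g ∈ normalizer (E : Set G)) : On E [g • x] := by
  have := hx.cj g
  rwa [cj_eq_self hg] at this

section
variable (hX : Good 2 G X) (hp : Pair 2 Γ Y) (hm : Mod 2 Γ D)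
include hX hp

theorem eqv1 {U : Subgroup G → AddSubgroup W} {C : Subgroup G → Prop} (hC : Up 2 Γ Y C)
    (hf : Coch Γ Y U (FU D C) 2 f) {g : G} (hg : g ∈ Γ) {x y : X} (h : On Y [x, y])
    (hc : C (st Γ [x, y])) : f [g • x, g • y] = g • f [x, y] := by
  have := hf.eqv g hg [x, y] rfl h
  rw [st_sm hg] at this
  exact sub_eq_zero.1 (eq_zero_of this (hC.inv g hg _ (hX.rel hp h (by simp)) hc))

/-- A family member below the stabiliser. -/
theorem up_st {C : Subgroup G → Prop} (hC : Up 2 Γ Y C) (hE : Rel 2 Γ Y E) (hc : C E) {l : List X}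
    (h : On E l) (h' : l ≠ []) : C (st Γ l) :=
  hC.mono _ _ hE (hX.rel hp (h.mono hE.ge) h') ((le_st hE.le).2 h) hc

include hm
variable [Finite G]

theorem SS_sm {U : Subgroup G → AddSubgroup W} (hf : Coch Γ Y U (FU D (CC D Y j 2)) 2 f) {g : G}
    (hg : g ∈ Γ) {x : X} (hx : On Y [x]) {v : W} (h : v ∈ SS Γ Y D j f x) :
    g • v ∈ SS Γ Y D j f (g • x) := by
  obtain ⟨⟨t, ht, htv⟩, hc, k, hk, hfk⟩ := h
  have hE := EE_rel (D := D) hX hp hx v
  have hEx : On (EE Γ Y D x v) [x] := (le_st hE.le).1 (EE_le hp hx v)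
  have hEk : On (EE Γ Y D x v) [x, k • x] := on_two.2 ⟨hEx, on_smul hEx hk.2⟩
  refine ⟨⟨g * t * g⁻¹, ?_, htv.conj hm hg⟩, ?_, g * k * g⁻¹,
    ⟨Γ.mul_mem (Γ.mul_mem hg hk.1) (Γ.inv_mem hg), ?_⟩, ?_⟩
  · have := conj_mem_cj (g := g) ht
    rwa [← st_sm hg] at this
  · rw [EE_sm hp hm hg]; exact (up_CC hp hm j 2).inv g hg _ hE hc
  · rw [EE_sm hp hm hg, ← cj_normalizer]; exact conj_mem_cj hk.2
  · rw [mul_smul, inv_smul_smul, mul_smul, eqv1 hX hp (up_CC hp hm j 2) hf hg (hEk.mono hE.ge)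
      (up_st hX hp (up_CC hp hm j 2) hE hc hEk (by simp))]
    exact fun e => hfk ((smul_eq_zero_iff_eq g).1 e)

omit hX hp [Finite G] in
theorem SS_fin (x : X) : (SS Γ Y D j f x).Finite :=
  (Set.finite_coe_iff.1 (show Finite (D : Set W) from hm.fin)).subset
    fun _ h => let ⟨_, _, h⟩ := h.1; h.mem

theorem e2_sm {U : Subgroup G → AddSubgroup W} (hf : Coch Γ Y U (FU D (CC D Y j 2)) 2 f) {g : G}
    (hg : g ∈ Γ) {x : X} (hx : On Y [x]) : e2 Γ Y D j f (g • x) = g • e2 Γ Y D j f x := by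
  have h1 : CC D Y j 1 (st Γ [g • x]) ↔ CC D Y j 1 (st Γ [x]) := by
    rw [← (up_CC hp hm j 1).inv' hp hg (hX.rel hp hx (by simp)), ← st_sm hg]; rfl
  unfold e2
  by_cases h : CC D Y j 1 (st Γ [x])
  · rw [if_pos h, if_pos (h1.2 h)]
    have := (DistribSMul.toAddMonoidHom W g).map_finsum_mem (fun v : W => v)
      (SS_fin (Y := Y) (j := j) (f := f) hm x)
    simp only [DistribSMul.toAddMonoidHom_apply] at this
    rw [this]
    refine (finsum_mem_eq_of_bijOn (g • ·) ⟨fun v hv => SS_sm hX hp hm hf hg hx hv,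
      (MulAction.injective g).injOn, fun v hv => ⟨g⁻¹ • v, ?_, smul_inv_smul g v⟩⟩ fun _ _ => rfl).symm
    simpa using SS_sm hX hp hm hf (inv_mem hg) (on_smul hx (hp.nor hg)) hv
  · rw [if_neg h, if_neg (mt h1.1 h), smul_zero]

omit hX hp hm [Finite G] in
theorem e2_mem (x : X) : e2 Γ Y D j f x ∈ D := by
  unfold e2
  split_ifs
  · exact finsum_mem_induction (· ∈ D) (zero_mem _) (fun _ _ => add_mem) fun _ h =>
      let ⟨_, _, h⟩ := h.1; h.mem
  · exact zero_mem _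

theorem e2_cst (hj : ∀ P, Rel 2 Γ Y P → Nat.card (JJ (AP 2 D) Y P) ≤ j)
    (hf : Coch Γ Y (FU D (CC D Y j 1)) (FU D (CC D Y j 2)) 2 f)
    (hc : Cyc Γ Y (FU D (CC D Y j 2)) 1 f) {x y : X} (h : On Y [x, y])
    (h0 : CC D Y j 1 (st Γ [x, y])) : e2 Γ Y D j f x = e2 Γ Y D j f y := by
  have hr := hX.rel hp h (by simp)
  have key : ∀ z ∈ [x, y], CC D Y j 1 (st Γ [z]) ∧ ∀ s v, IsTv D s v → (s ∈ st Γ [z] ↔ s ∈ st Γ [x, y]) := by
    intro z hz
    have hle : st Γ [x, y] ≤ st Γ [z] := st_anti (by simpa using hz)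
    have hz' := hX.rel hp (h.subset (m := [z]) (by simpa using hz)) (by simp)
    refine ⟨(up_CC hp hm j 1).mono _ _ hr hz' hle h0, fun s v hs => ⟨fun a => ?_, fun a => hle a⟩⟩
    have e : JJ (AP 2 D) Y (st Γ [x, y]) = JJ (AP 2 D) Y (st Γ [z]) :=
      eq_of_le_of_card_ge (JJ_mono hle) ((hj _ hz').trans (by simpa using h0.2))
    exact JJ_le hr.ge (e.ge (le_JJ' (Or.inr ⟨rfl, s, v, hs, rfl⟩) (zpowers_le.2 a) Y (mem_zpowers s)))
  obtain ⟨x0, x1⟩ := key x (by simp)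
  obtain ⟨y0, y1⟩ := key y (by simp)
  have hE : ∀ v, EE Γ Y D x v = EE Γ Y D y v := fun v => by
    unfold EE
    congr 2
    ext s
    exact ⟨fun ⟨a, v', b, c⟩ => ⟨(y1 s v' b).2 ((x1 s v' b).1 a), v', b, c⟩,
      fun ⟨a, v', b, c⟩ => ⟨(x1 s v' b).2 ((y1 s v' b).1 a), v', b, c⟩⟩
  have hF : ∀ v, CC D Y j 2 (EE Γ Y D x v) → ∀ g ∈ Γ ⊓ normalizer (EE Γ Y D x v : Set G),
      f [x, g • x] = f [y, g • y] := fun v hv g hg => by
    have hR := EE_rel (D := D) hX hp (on_two.1 h).1 v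
    have ex : On (EE Γ Y D x v) [x] := (le_st hR.le).1 (EE_le hp (on_two.1 h).1 v)
    have ey : On (EE Γ Y D x v) [y] := (le_st hR.le).1 ((hE v).le.trans (EE_le hp (on_two.1 h).2 v))
    have o1 : On (EE Γ Y D x v) [x, y, g • y] := on_cons.2 ⟨ex, on_two.2 ⟨ey, on_smul ey hg.2⟩⟩
    have o2 : On (EE Γ Y D x v) [x, g • x, g • y] :=
      on_cons.2 ⟨ex, on_two.2 ⟨on_smul ex hg.2, on_smul ey hg.2⟩⟩
    have c1 := eq_zero_of (hc _ rfl (o1.mono hR.ge)) (up_st hX hp (up_CC hp hm j 2) hR hv o1 (by simp))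
    have c2 := eq_zero_of (hc _ rfl (o2.mono hR.ge)) (up_st hX hp (up_CC hp hm j 2) hR hv o2 (by simp))
    have z1 := eq_zero_of (hf.mem _ rfl h) h0
    have z2 := eqv1 hX hp (up_CC hp hm j 2) hf hg.1 h (CC_two h0)
    rw [z1, smul_zero] at z2
    rw [d_three] at c1 c2
    rw [z1, add_zero, sub_eq_zero] at c1
    rw [z2, zero_sub, neg_add_eq_zero] at c2
    rw [c1, c2]
  have hS : SS Γ Y D j f x = SS Γ Y D j f y := by
    ext v
    refine ⟨fun ⟨⟨t, a, b⟩, c, g, hg, e⟩ => ⟨⟨t, (y1 t v b).2 ((x1 t v b).1 a), b⟩, hE v ▸ c, g,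
        hE v ▸ hg, hF v c g hg ▸ e⟩,
      fun ⟨⟨t, a, b⟩, c, g, hg, e⟩ => ⟨⟨t, (x1 t v b).2 ((y1 t v b).1 a), b⟩, (hE v).symm ▸ c, g,
        (hE v).symm ▸ hg, ?_⟩⟩
    rwa [hF v ((hE v).symm ▸ c) g ((hE v).symm ▸ hg)]
  unfold e2
  rw [if_pos x0, if_pos y0, hS]

end

/-- A function on points as a cochain. -/
def one (F : X → W) : List X → W
  | [x] => F x
  | _ => 0

theorem len_one {l : List X} (h : l.length = 1) : ∃ x, l = [x] := List.length_eq_one_iff.1 h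

theorem len_two {l : List X} (h : l.length = 1 + 1) : ∃ x y, l = [x, y] := List.length_eq_two.1 h

theorem ne_nil {l : List X} {n : ℕ} (h : l.length = n + 1) : l ≠ [] := by
  rintro rfl; simp at h

variable [Finite G]

/-- The local families at `E`. -/
theorem loc (hp : Pair 2 Γ Y) (hm : Mod 2 Γ D) (hE : Rel 2 Γ Y E) (hJ : JJ (AP 2 D) Y E = E)
    (h2 : CC D Y j 2 E) (h1 : ¬ CC D Y j 1 E) (hP : Rel 2 (Γ ⊓ normalizer (E : Set G)) E P) :
    CC D Y j 2 P ∧ (CC D Y j 1 P ↔ QJ (AP 2 D) E P) := by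
  have h3 := (up_CC hp hm j 2).mono _ _ hE (hE.of_loc hP) hP.ge h2
  have e := JJ_base hE.ge hJ hP.ge
  have le : E ≤ JJ (AP 2 D) Y P := e ▸ le_JJ _ _ _
  refine ⟨h3, fun h a => h1 ⟨h2.1, ?_⟩, fun h => ⟨h3.1, ?_⟩⟩
  · rw [hJ]
    exact h.2.trans (Nat.mul_le_mul_left _ (card_le_of_le (e ▸ a)))
  · obtain ⟨k, hk⟩ := card_dvd_of_le le
    have h4 := h2.2
    rw [hJ] at h4
    have : k ≠ 1 := fun a => h (e ▸ (eq_of_le_of_card_ge le (by simp [hk, a])).ge)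
    have : k ≠ 0 := fun a => Nat.card_pos.ne' (by rw [hk, a, mul_zero])
    have : 2 ≤ k := by omega
    nlinarith

theorem bad (hO : JobO.{u}) (hPL : PL.{u}) (hST : H24.Cx.ST.{u}) (hX : Good 2 G X) (hs : Set2 Γ Y D)
    (hj : ∀ P, Rel 2 Γ Y P → Nat.card (JJ (AP 2 D) Y P) ≤ j)
    (hf : Coch Γ Y (FU D (CC D Y j 1)) (FU D (CC D Y j 2)) 2 f)
    (hc : Cyc Γ Y (FU D (CC D Y j 2)) 1 f) (hE : Rel 2 Γ Y E) (hJ : JJ (AP 2 D) Y E = E)
    (hL : Low D Y E) (h2 : CC D Y j 2 E) (h1 : ¬ CC D Y j 1 E) (F : X → W)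
    (hF : Eqv (Γ ⊓ normalizer (E : Set G)) E D (QJ (AP 2 D) E) F)
    (hd : ∀ x y, On E [x, y] → f [x, y] - d (one (e2 Γ Y D j f)) [x, y] = F y - F x) :
    Const (Γ ⊓ normalizer (E : Set G)) E D (QJ (AP 2 D) E) F := by
  have hp := hs.pair
  have hm := hs.mod
  refine (hPL G X W Γ Y E D F hX hs hE hJ hL hF).resolve_right ?_
  rintro ⟨hB, c, hcN, hcF⟩
  set e := e2 Γ Y D j f with he
  have hG : Eqv (Γ ⊓ normalizer (E : Set G)) E D (QJ (AP 2 D) E) fun x => F x + e x := by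
    refine ⟨fun x hx => add_mem (hF.mem x hx) (e2_mem x), fun g hg x hx => ?_, fun x y h q => ?_⟩
    · rw [hF.eqv g hg x hx, he, e2_sm hX hp hm hf hg.1 (hx.mono hE.ge), smul_add]
    · have hr := hX.rel hE.pair h (by simp)
      rw [hF.cst x y h q, he, e2_cst hX hp hm hj hf hc (h.mono hE.ge) ((up_CC hp hm j 1).mono _ _
        (hE.of_loc hr) (hX.rel hp (h.mono hE.ge) (by simp)) (st_mono inf_le_left _)
        ((loc hp hm hE hJ h2 h1 hr).2.2 q))]
  have hfG : ∀ x, On E [x] → ∀ g ∈ Γ ⊓ normalizer (E : Set G),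
      f [x, g • x] = g • (F x + e x) - (F x + e x) := fun x hx g hg => by
    have := hd x (g • x) (on_two.2 ⟨hx, on_smul hx hg.2⟩)
    rw [d_two, sub_eq_iff_eq_add] at this
    rw [this, ← hG.eqv g hg x hx]
    simp only [one]
    abel
  obtain ⟨S0, t, v, hS, hES, ht, htv, -, hcard, hs1, hs2⟩ := hST G W Γ Y E D hs hE hJ hB
  obtain ⟨x, hx⟩ := hX.exists_on hS.isPGroup
  have hxE : On E [x] := hx.mono hES
  have hst : st Γ [x] = S0 :=
    hS.eq_of_le (hX.isP Γ (by simp)) ((le_st hS.le).2 hx) (st_le _ _)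
  have hEE : EE Γ Y D x v = E := by unfold EE; rw [hst, hs2]
  have hC0 : CC D Y j 1 (st Γ [x]) := by
    refine ⟨(up_st hX hp (up_CC hp hm j 2) hE h2 hxE (by simp)).1, ?_⟩
    have := h2.2
    rw [hJ] at this
    rw [hst, hcard]; omega
  obtain ⟨t', v', ht', hne⟩ := hB.braid t v htv
  have hR : Rel 2 (Γ ⊓ normalizer (E : Set G)) E (E ⊔ zpowers t') :=
    ⟨le_sup_left, sup_le hE.pair.le (zpowers_le.2 ht'.mem),
      hE.isP.to_sup_of_normal_left' ht'.two (zpowers_le.2 ht'.mem.2)⟩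
  have hfix : ∀ w ∈ SS Γ Y D j f x \ {v}, t' • w = w := fun w ⟨⟨⟨s, a, b⟩, _⟩, hw⟩ =>
    hO G W Γ Y _ D hs (hE.of_loc hR) (hB.low _ hR) t' (mem_sup_right (mem_zpowers _)) s
      (mem_sup_left ((hs1 s (hst ▸ a) w b).2 hw)) v' w ht'.tv b
  have hsum : t' • ∑ᶠ w ∈ SS Γ Y D j f x \ {v}, w = ∑ᶠ w ∈ SS Γ Y D j f x \ {v}, w :=
    finsum_mem_induction (fun w => t' • w = w) (smul_zero _)
      (fun a b ha hb => by rw [smul_add, ha, hb]) hfix
  have hFx : F x = c + v := hcF x hxE t v htv (hx t ht x (by simp))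
  have hc' : t' • c = c := hcN.2 t' ht'.mem
  have hex : e x = ∑ᶠ w ∈ SS Γ Y D j f x, w := if_pos hC0
  by_cases hv : v ∈ SS Γ Y D j f x
  · have hex' : e x = v + ∑ᶠ w ∈ SS Γ Y D j f x \ {v}, w := by
      rw [hex, ← finsum_mem_insert (fun w : W => w) (by simp) ((SS_fin hm x).subset Set.sdiff_subset)]
      simp [hv]
    obtain ⟨-, -, g, hg, hg'⟩ := hv
    rw [hEE] at hg
    rcases hPL G X W Γ Y E D _ hX hs hE hJ hL hG with ⟨c', a, b⟩ | ⟨-, c', a, b⟩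
    · have q : QJ (AP 2 D) E (st (Γ ⊓ normalizer (E : Set G)) [x]) := fun q => htv.out
        (q (le_JJ' (Or.inr ⟨rfl, t, v, htv.tv, rfl⟩) (zpowers_le.2 (mem_st.2 ⟨htv.mem, hx t ht⟩)) E
          (mem_zpowers t)))
      have b' : F x + e x = c' := b x hxE q
      exact hg' (by rw [hfG x hxE g hg, b', a.2 g hg, sub_self])
    · have b' : F x + e x = c' + v := b x hxE t v htv (hx t ht x (by simp))
      have : t' • (F x + e x) = F x + e x := by
        rw [hFx, hex', add_assoc, ← add_assoc v, two_v htv.tv, zero_add, smul_add, hc', hsum]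
      rw [b', smul_add, a.2 t' ht'.mem] at this
      exact hne (add_left_cancel this)
  · have h0 : f [x, t' • x] = 0 := by
      by_contra h0
      exact hv ⟨⟨t, hst ▸ ht, htv.tv⟩, hEE ▸ h2, t', hEE ▸ ht'.mem, h0⟩
    rw [Set.sdiff_singleton_eq_self hv] at hsum
    rw [hfG x hxE t' ht'.mem, sub_eq_zero, hFx, hex, smul_add, smul_add, hc', hsum] at h0
    exact hne (add_left_cancel (add_right_cancel h0))

/-- A cocycle of the second layer is the coboundary of a cochain of both layers. -/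
theorem layer (hO : JobO.{u}) (hPL : PL.{u}) (hST : H24.Cx.ST.{u}) (hX : Good 2 G X) (hs : Set2 Γ Y D)
    (hj : ∀ P, Rel 2 Γ Y P → Nat.card (JJ (AP 2 D) Y P) ≤ j) (hL : ∀ P, Rel 2 Γ Y P → Low D Y P)
    (hf : Coch Γ Y (FU D (CC D Y j 1)) (FU D (CC D Y j 2)) 2 f)
    (hc : Cyc Γ Y (FU D (CC D Y j 2)) 1 f) :
    Cob Γ Y (FU D fun _ => False) (FU D (CC D Y j 2)) 1 f := by
  have hp := hs.pair
  have hm := hs.mod
  have u1 := up_CC hp hm j 1
  have u2 := up_CC hp hm j 2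
  have s0 : Sys 2 Γ Y (FU D fun _ => False) (FU D (CC D Y j 2)) :=
    sys_FU hp hm u2 up_false fun _ _ h => h.elim
  have s1 : Sys 2 Γ Y (FU D (CC D Y j 1)) (FU D (CC D Y j 2)) :=
    sys_FU hp hm u2 u1 fun _ _ => CC_two
  have he : Coch Γ Y (FU D fun _ => False) (FU D (CC D Y j 2)) 1 (one (e2 Γ Y D j f)) := by
    refine ⟨fun l h1 h2 => ?_, fun g hg l h1 h2 => ?_, fun _ => rfl⟩
    · obtain ⟨x, rfl⟩ := len_one h1
      rw [FU_false]
      refine ⟨e2_mem x, fun g hg => ?_⟩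
      have := e2_sm hX hp hm hf hg.1 h2
      rw [hg.2 x (by simp)] at this
      exact this.symm
    · obtain ⟨x, rfl⟩ := len_one h1
      exact (sub_eq_zero.2 (e2_sm hX hp hm hf hg h2)).symm ▸ zero_mem _
  have hde := he.d hX hp s0
  have hf' : Coch Γ Y (FU D (CC D Y j 1)) (FU D (CC D Y j 2)) 2
      fun l => f l - d (one (e2 Γ Y D j f)) l := by
    refine ⟨fun l h1 h2 => ?_, fun g hg l h1 h2 => ?_, fun h => by omega⟩
    · by_cases h0 : CC D Y j 1 (st Γ l)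
      · obtain ⟨x, y, rfl⟩ := len_two h1
        refine sub_mem (hf.mem _ h1 h2) ?_
        rw [d_two]
        exact (sub_eq_zero.2 (e2_cst hX hp hm hj hf hc h2 h0).symm).symm ▸ zero_mem _
      · exact sub_mem (hf.mem _ h1 h2) (FU_mono (fun h => absurd h h0) (hde.mem _ h1 h2))
    · have := sub_mem (hf.eqv g hg l h1 h2) (hde.eqv g hg l h1 h2)
      rwa [sub_sub_sub_comm, ← smul_sub] at this
  have hc' : Cyc Γ Y (FU D (CC D Y j 2)) 1 fun l => f l - d (one (e2 Γ Y D j f)) l := fun l h1 h2 => by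
    rw [d_sub, dd, sub_zero]; exact hc l h1 h2
  have sup : ∀ P, ¬ FU D (CC D Y j 1) P ≤ FU D (CC D Y j 2) P → CC D Y j 2 P ∧ ¬ CC D Y j 1 P :=
    fun P h => ⟨by_contra fun a => h (FU_mono fun b => absurd b a), fun a => h (FU_mono fun _ => a)⟩
  obtain ⟨e, h1, h2⟩ := cob_loc hX hp s1 (JJ (AP 2 D) Y) (fun P a _ => ⟨le_JJ _ _ _, JJ_le a.ge⟩)
    (fun g hg P _ _ => JJ_cj hp hm.inv_AP hg P) (fun P Q a b c c' h => by
      have hle : JJ (AP 2 D) Y P ≤ JJ (AP 2 D) Y Q := JJ_JJ a.ge ▸ JJ_mono h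
      obtain ⟨k, hk⟩ := card_dvd_of_le hle
      have h3 := (sup P c).1.2
      have h4 : ¬ j ≤ 1 * Nat.card (JJ (AP 2 D) Y Q) := fun h => (sup Q c').2 ⟨(sup Q c').1.1, h⟩
      have : k < 2 := by
        by_contra h5
        nlinarith
      exact (eq_of_le_of_card_ge hle (by rw [hk]; nlinarith)).symm) hf' fun P a b => by
      have hE := a.JJ (AP 2 D)
      have hJ := JJ_JJ (C := AP 2 D) a.ge
      have h2 := (CC_JJ a.ge).2 (sup P b).1
      have h1 := mt (CC_JJ a.ge).1 (sup P b).2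
      generalize JJ (AP 2 D) Y P = E at *
      have hU : ∀ l : List X, l ≠ [] → On E l →
          FU D (CC D Y j 1) (st (Γ ⊓ normalizer (E : Set G)) l) =
            FU D (QJ (AP 2 D) E) (st (Γ ⊓ normalizer (E : Set G)) l) ∧
          FU D (CC D Y j 2) (st (Γ ⊓ normalizer (E : Set G)) l) = ⊥ := fun l h h' => by
        have := loc hp hm hE hJ h2 h1 (hX.rel hE.pair h' h)
        exact ⟨le_antisymm (FU_mono this.2.2) (FU_mono this.2.1), FU_pos this.1⟩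
      have sN : ∀ {g : G} {l : List X}, l ≠ [] → sm g l ≠ [] := fun h => by simpa [sm] using h
      have k1 := hf'.res hX hp s1 inf_le_left hE.ge hE.pair.le
      have k2 := hc'.res hX hp s1 inf_le_left hE.ge hE.pair.le
      obtain ⟨e, h3, h4⟩ := cob_one hX hE.pair (hm.mono inf_le_left)
        (up_QJ hE.pair (hm.inv_AP.mono inf_le_left))
        ⟨fun l a b => (hU l (ne_nil a) b).1 ▸ k1.mem l a b, fun g hg l a b =>
          (hU _ (sN (ne_nil a)) (b.sm hE.pair hg)).2 ▸ k1.eqv g hg l a b, k1.nil⟩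
        (fun l a b => (hU l (ne_nil a) b).2 ▸ k2 l a b)
        (bad hO hPL hST hX hs hj hf hc hE hJ (hL E hE) h2 h1)
      exact ⟨e, ⟨fun l a b => (hU l (ne_nil a) b).1.symm ▸ h3.mem l a b, fun g hg l a b =>
          (hU _ (sN (ne_nil a)) (b.sm hE.pair hg)).2.symm ▸ h3.eqv g hg l a b, h3.nil⟩,
        fun l a b => (hU l (ne_nil a) b).2.symm ▸ h4 l a b⟩
  refine ⟨fun l => one (e2 Γ Y D j f) l + e l,
    he.add ⟨fun l a b => FU_mono False.elim (h1.mem l a b), h1.eqv, h1.nil⟩, fun l a b => ?_⟩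
  rw [d_add, ← sub_sub]
  exact h2 l a b

theorem jobB2U : JobB2U.{u} := by
  intro hStep hO hPL hST G X W _ _ _ _ _ Γ Y S D hX hs hS hL f hf hc
  have hp := hs.pair
  have hm := hs.mod
  set j := Nat.card (JJ (AP 2 D) Y S)
  have hj : ∀ P, Rel 2 Γ Y P → Nat.card (JJ (AP 2 D) Y P) ≤ j := fun P => card_JJ_le hp hm hS
  have u1 := up_CC hp hm j 1
  have u2 := up_CC hp hm j 2
  have s0 : Sys 2 Γ Y (FU D fun _ => False) (FU D (CC D Y j 2)) :=
    sys_FU hp hm u2 up_false fun _ _ h => h.elim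
  have s1 : Sys 2 Γ Y (FU D fun _ => False) (FU D (CC D Y j 1)) :=
    sys_FU hp hm u1 up_false fun _ _ h => h.elim
  have v1 : Van X Γ Y (FU D fun _ => False) (FU D (CC D Y j 1)) 1 :=
    hStep 2 G X W Γ Y D (AP 2 D) _ _ 1 hX hp hm hm.inv_AP u1 up_false (fun _ _ h => h.elim)
      (fun P a => (CC_JJ a.ge).2) (fun _ _ h => h) fun E hE hJ h1 _ =>
      van_one hX hE.pair (hm.mono inf_le_left) (up_QJ hE.pair (hm.inv_AP.mono inf_le_left))
        fun F _ => ⟨0, zero_mem _, fun x hx q => absurd (by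
          have hr := hX.rel hE.pair hx (by simp)
          have h2 := h1.2
          rw [hJ] at h2
          refine (eq_of_le_of_card_ge (le_JJ _ _ _) ?_).ge
          rw [JJ_base hE.ge hJ hr.ge]
          exact (hj _ (hE.of_loc hr)).trans (by simpa using h2)) q⟩
  change Coch Γ Y _ (FU D (CC D Y j 2)) 2 f at hf
  change Cyc Γ Y (FU D (CC D Y j 2)) 1 f at hc
  obtain ⟨e0, a0, b0⟩ := v1 f ⟨hf.mem, fun g hg l a b => FU_mono CC_two (hf.eqv g hg l a b), hf.nil⟩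
    fun l a b => FU_mono CC_two (hc l a b)
  obtain ⟨e1, a1, b1⟩ := a0.lift hX hp s0 s1
  have k := hf.sub (a1.d hX hp s0)
  obtain ⟨e, a, b⟩ := layer (f := fun l => f l - d e1 l) hO hPL hST hX hs hj
    (fun P => low_of hp hm hS hL) ⟨fun l h1 h2 => by
      obtain ⟨x, y, rfl⟩ := len_two h1
      have hr := hX.rel hp h2 (by simp)
      have m : ∀ z ∈ [x, y], e0 [z] - e1 [z] ∈ FU D (CC D Y j 1) (st Γ [x, y]) := fun z hz =>
        have hz' : On Y [z] := h2.subset (by simpa using hz)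
        s1.antiV _ _ hr (hX.rel hp hz' (by simp)) (st_anti (by simpa using hz)) (b1 _ rfl hz')
      have := add_mem (b0 _ h1 h2) (sub_mem (m y (by simp)) (m x (by simp)))
      rw [d_two] at this ⊢
      convert this using 1
      abel, k.eqv, k.nil⟩
    fun l h1 h2 => by rw [d_sub, dd, sub_zero]; exact hc l h1 h2
  refine ⟨fun l => e1 l + e l, a1.add a, fun l h1 h2 => ?_⟩
  rw [d_add, ← sub_sub]
  exact b l h1 h2

end H11.CxB
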