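import Cfsg.Agent.H11.CT2
import Cfsg.Agent.H1.D4Spec
import Cfsg.Agent.H38.LxBase

/-! LX-D4, job C: the Steinberg relations in a frame and the recognition of `Ω₈⁺(2)`. -/

set_option autoImplicit false
set_option linter.unusedSectionVars false

namespace H11.D4

open Cfsg H78 H1.LX H38.Lx Equiv

universe u

variable {G : Type*} [Group G]

/-- `S₃` permutes the three involutions of a four-group. -/
structure Line (ν : Perm (Fin 3) →* G) (A : Fin 3 → G) : Prop where
  equi : ∀ σ i, ν σ * A i * (ν σ)⁻¹ = A (σ i)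
  sq : ∀ i, A i * A i = 1
  prod : A 0 * A 1 * A 2 = 1

namespace Line
variable {ν : Perm (Fin 3) →* G} {A B : Fin 3 → G}

theorem mul (h : Line ν A) {i j k : Fin 3} (h1 : i ≠ j) (h2 : j ≠ k) (h3 : i ≠ k) :
    A i * A j = A k := by
  obtain ⟨σ, rfl, rfl, rfl⟩ : ∃ σ : Perm (Fin 3), i = σ 0 ∧ j = σ 1 ∧ k = σ 2 := by
    revert i j k; decide
  have := congrArg (fun x => ν σ * x * (ν σ)⁻¹) h.prod
  simp only [← conj_mul, h.equi, mul_one, mul_inv_cancel] at this
  rw [eq_inv_of_mul_eq_one_left this, inv_eq_of_mul_eq_one_right (h.sq _)]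

theorem swap_mul (h : Line ν A) (σ : Perm (Fin 3)) (i : Fin 3) : ν σ * A i = A (σ i) * ν σ := by
  rw [← h.equi, inv_mul_cancel_right]

theorem conj (h : Line ν A) {n : G} (hn : ∀ σ, n * ν σ = ν σ * n) :
    Line ν fun i => n * A i * n⁻¹ where
  equi σ i := by
    rw [← h.equi, ← mul_assoc, ← mul_assoc, ← hn, ← mul_assoc n, ← mul_assoc n, mul_assoc _ n⁻¹,
      ← mul_inv_rev, ← hn, mul_inv_rev, ← mul_assoc]
  sq i := by rw [conj_mul, h.sq, mul_one, mul_inv_cancel]
  prod := by rw [conj_mul, conj_mul, h.prod, mul_one, mul_inv_cancel]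

end Line

/-- The root elements. -/
def rt (ν : Perm (Fin 3) →* G) (A B : Fin 3 → G) : Fin 3 → Fin 3 → G :=
  ![![1, ν (swap 1 2), A 0], ![ν (swap 0 2), 1, A 1], ![B 1, B 0, 1]]

theorem stA_of_inv {x : Fin 3 → Fin 3 → G} (sq : ∀ i j, x i j * x i j = 1)
    (comm : ∀ i j k l, i ≠ j → k ≠ l → i ≠ l → j ≠ k → x i j * x k l = x k l * x i j)
    (tri : ∀ i j k, i ≠ j → j ≠ k → i ≠ k → x i j * x j k * x i j * x j k = x i k) :
    H57.StA fun i j (t : ZMod 2) => x i j ^ t.val := by
  have c : ∀ t : ZMod 2, t = 0 ∨ t = 1 := by decide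
  refine ⟨fun i j _ s t => ?_, fun i j k l a b d e s t => Commute.pow_pow (comm i j k l a b d e) _ _,
    fun i j k a b d s t => ?_⟩
  · rcases c s with rfl | rfl <;> rcases c t with rfl | rfl
    · simp
    · simp
    · simp
    · show x i j ^ 1 * x i j ^ 1 = x i j ^ 0
      rw [pow_one, pow_zero, sq]
  · rcases c s with rfl | rfl <;> rcases c t with rfl | rfl
    · simp
    · simp
    · simp
    · show x i j ^ 1 * x j k ^ 1 * (x i j ^ 1)⁻¹ * (x j k ^ 1)⁻¹ = x i k ^ 1
      simp only [pow_one]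
      rw [inv_eq_of_mul_eq_one_right (sq i j), inv_eq_of_mul_eq_one_right (sq j k), tri i j k a b d]

theorem stA_rt {ν : Perm (Fin 3) →* G} {A B : Fin 3 → G} (hA : Line ν A) (hB : Line ν B)
    (br : A 1 * B 0 * A 1 = B 0 * A 1 * B 0)
    (hc : A 0 * B 0 = B 0 * A 0 ∨ A 0 * B 0 = B 0 * A 0 * ν (swap 1 2)) (h1 : A 0 ≠ 1) :
    H57.StA fun i j (t : ZMod 2) => rt ν A B i j ^ t.val := by
  have ss : ∀ i j : Fin 3, ν (swap i j) * ν (swap i j) = 1 := fun i j => by
    rw [← map_mul, swap_mul_self, map_one]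
  have cm : ∀ {A : Fin 3 → G}, Line ν A → A 0 * A 1 = A 1 * A 0 := fun h => by
    rw [h.mul (k := 2) (by decide) (by decide) (by decide),
      h.mul (k := 2) (by decide) (by decide) (by decide)]
  have a0 : ν (swap 1 2) * A 0 = A 0 * ν (swap 1 2) := hA.swap_mul _ 0
  have b0 : ν (swap 1 2) * B 0 = B 0 * ν (swap 1 2) := hB.swap_mul _ 0
  have a1 : ν (swap 0 2) * A 1 = A 1 * ν (swap 0 2) := hA.swap_mul _ 1
  have b1 : ν (swap 0 2) * B 1 = B 1 * ν (swap 0 2) := hB.swap_mul _ 1
  have t1 : ∀ {A : Fin 3 → G}, Line ν A → ∀ i j k : Fin 3, i ≠ j → j ≠ k → i ≠ k →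
      ν (swap i j) * A i * ν (swap i j) * A i = A k := fun h i j k a b c => by
    rw [h.swap_mul, mul_assoc (_ : G) (ν _) (ν _), ss, mul_one, swap_apply_left, h.mul a.symm c b]
  have t2 : ∀ {A : Fin 3 → G}, Line ν A → ∀ i j k : Fin 3, i ≠ j → j ≠ k → i ≠ k →
      A i * ν (swap i j) * A i * ν (swap i j) = A k := fun h i j k a b c => by
    rw [mul_assoc (_ : G) (ν _), h.swap_mul, mul_assoc, mul_assoc, ss, mul_one, swap_apply_left,
      h.mul a b c]
  have k0 : A 0 * B 0 * A 0 * B 0 = ν (swap 1 2) := by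
    rcases hc with e | e
    · exfalso
      have e1 := t1 hA 1 2 0 (by decide) (by decide) (by decide)
      have c1 : Commute (ν (swap 1 2)) (B 0) := b0
      have c2 : Commute (A 1 * ν (swap 1 2) * A 1) (B 0) := by
        have : A 1 * ν (swap 1 2) * A 1 = ν (swap 1 2) * A 0 := by
          rw [← e1, ← mul_assoc, ← mul_assoc, ← mul_assoc, ss, one_mul]
        rw [this]
        exact c1.mul_left e
      have c3 : Commute (ν (swap 1 2)) (A 1 * B 0 * A 1) := by
        calc _ = A 1 * (A 1 * ν (swap 1 2) * A 1 * B 0) * A 1 := by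
              simp only [← mul_assoc, hA.sq, one_mul]
          _ = A 1 * B 0 * A 1 * ν (swap 1 2) * (A 1 * A 1) := by rw [c2.eq]; simp only [mul_assoc]
          _ = _ := by rw [hA.sq, mul_one]
      rw [br] at c3
      have c4 : Commute (ν (swap 1 2)) (A 1) := by
        have := (c1.mul_right c3).mul_right c1
        rwa [← mul_assoc, ← mul_assoc, hB.sq, one_mul, mul_assoc, hB.sq, mul_one] at this
      rw [mul_assoc (ν _), ← c4.eq, ← mul_assoc, ss, one_mul, hA.sq] at e1
      exact h1 e1.symm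
    · rw [e, mul_assoc (B 0 * A 0), a0, ← mul_assoc, mul_assoc (B 0), hA.sq, mul_one, ← b0, mul_assoc,
        hB.sq, mul_one]
  have k1 : A 1 * B 1 * A 1 * B 1 = ν (swap 0 2) := by
    have := congrArg (fun x => ν (swap 0 1) * x * (ν (swap 0 1))⁻¹) k0
    simp only [← conj_mul, hA.equi, hB.equi, swap_apply_left] at this
    rw [this, ← map_inv, ← map_mul, ← map_mul]
    exact congrArg ν (by decide)
  refine stA_of_inv (fun i j => ?_) (fun i j k l a b c d => ?_) fun i j k a b c => ?_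
  · fin_cases i <;> fin_cases j <;> first | exact one_mul 1 | exact ss _ _ | exact hA.sq _ | exact hB.sq _
  · fin_cases i <;> fin_cases j <;> fin_cases k <;> fin_cases l <;>
      first | exact absurd rfl a | exact absurd rfl b | exact absurd rfl c | exact absurd rfl d |
        rfl | exact a0 | exact a0.symm | exact b0 | exact b0.symm | exact a1 | exact a1.symm |
        exact b1 | exact b1.symm | exact cm hA | exact (cm hA).symm | exact cm hB | exact (cm hB).symm
  · fin_cases i <;> fin_cases j <;> fin_cases k <;>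
      first | exact absurd rfl a | exact absurd rfl b | exact absurd rfl c | skip
    · exact t1 hA 1 2 0 (by decide) (by decide) (by decide)
    · exact k0
    · exact t1 hA 0 2 1 (by decide) (by decide) (by decide)
    · exact k1
    · exact t2 hB 1 2 0 (by decide) (by decide) (by decide)
    · exact t2 hB 0 2 1 (by decide) (by decide) (by decide)

/-- the `k`-th factor of `S₃ × S₃ × S₃` -/
def inc : Fin 3 → Perm (Fin 3) →* S33 :=
  ![MonoidHom.inl _ _, (MonoidHom.inr _ _).comp (MonoidHom.inl _ _),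
    (MonoidHom.inr _ _).comp (MonoidHom.inr _ _)]

/-- the points of the line in direction `k` through `(c, c, c)` -/
def pt (c : Fin 3) : Fin 3 → Fin 3 → X3 :=
  ![fun i => (i, c, c), fun i => (c, i, c), fun i => (c, c, i)]

theorem act_pt (c k : Fin 3) (σ : Perm (Fin 3)) (i : Fin 3) :
    act3 (inc k σ) (pt c k i) = pt c k (σ i) := by fin_cases k <;> rfl

theorem inc_s3 (k : Fin 3) : inc k (swap 1 2) = s3 k := by fin_cases k <;> rfl

theorem pt_self (c k : Fin 3) : pt c k c = (c, c, c) := by fin_cases k <;> rfl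

theorem inc_comm {k l : Fin 3} (h : k ≠ l) (σ τ : Perm (Fin 3)) :
    inc k σ * inc l τ = inc l τ * inc k σ := by
  fin_cases k <;> fin_cases l <;> first | exact absurd rfl h | simp [inc]

theorem inc_prod (g : S33) : g = inc 0 g.1 * inc 1 g.2.1 * inc 2 g.2.2 := by simp [inc]

theorem exists_act (c : Fin 3) (x : X3) : ∃ g, act3 g (c, c, c) = x :=
  ⟨(swap c x.1, swap c x.2.1, swap c x.2.2), by simp [act3]⟩

/-- an element of the factors different from `k` that moves `(0, 0, 0)` along -/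
theorem exists_g (k : Fin 3) : ∃ g : S33, g * s3 k = s3 k * g ∧ ∀ i, act3 g (pt 0 k i) = pt 1 k i := by
  fin_cases k
  exacts [⟨(1, swap 0 1, swap 0 1), by decide⟩, ⟨(swap 0 1, 1, swap 0 1), by decide⟩,
    ⟨(swap 0 1, swap 0 1, 1), by decide⟩]

section Frame
variable [Finite G] {z y : G} {κ : G → S33} {p : X3 → G} {lam : S33 →* G}
  (h : Frame z y κ p lam)
include h

theorem cj_p (x : X3) : Cj z (p x) := ((h.fu _).2 ⟨x, Or.inl rfl⟩).1

theorem p_ne (x : X3) : p x ≠ 1 := (big_conj h.big (cj_p h x)).lx.z_ne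

theorem mem_Q {k : Fin 3} {g : S33} (hg : g * s3 k = s3 k * g) :
    p (act3 g (0, 0, 0)) ∈ O2C (lam (s3 k)) := by
  rw [← h.equi]
  exact (big_conj h.big (h.cjd k)).lx.norm _ (by rw [← map_mul, hg, map_mul]) _ (h.md k).1

theorem line0 (k : Fin 3) : Line (lam.comp (inc k)) fun i => p (pt 0 k i) where
  equi σ i := by rw [MonoidHom.comp_apply, h.equi, act_pt]
  sq i := h.sq _
  prod := by
    obtain ⟨l, hl⟩ := exists_ne k
    have m : ∀ i, p (pt 0 k i) ∈ O2C (lam (s3 l)) := fun i => by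
      have := mem_Q h (k := l) (g := inc k (swap 0 i)) (inc_s3 l ▸ inc_comm hl.symm _ _)
      rwa [← pt_self 0 k, act_pt, swap_apply_left] at this
    have h1 : p (pt 0 k 0) * p (pt 0 k 1) * p (pt 0 k 2) ∈ Subgroup.zpowers z := by
      fin_cases k
      exacts [h.l1 0 0, h.l2 0 0, h.l3 0 0]
    exact ((mem_zpowers_invol h.big.lx.z_sq _).1 h1).resolve_right fun e =>
      (h.md l).2.2 (e ▸ mul_mem (mul_mem (m 0) (m 1)) (m 2))

theorem line1 (k : Fin 3) : Line (lam.comp (inc k)) fun i => p (pt 1 k i) where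
  equi σ i := by rw [MonoidHom.comp_apply, h.equi, act_pt]
  sq i := h.sq _
  prod := by
    obtain ⟨g, -, hg⟩ := exists_g k
    simp only [← hg, ← h.equi]
    rw [conj_mul, conj_mul, (line0 h k).prod, mul_one, mul_inv_cancel]

theorem n_inv : (z * y * z)⁻¹ = z * y * z := by
  rw [mul_inv_rev, mul_inv_rev, h.big.lx.z_inv, (big_conj h.big h.cjy).lx.z_inv, mul_assoc]

theorem n_lam (g : S33) : z * y * z * lam g = lam g * (z * y * z) := by
  rw [mul_assoc, ← h.lamz, ← mul_assoc, mul_assoc z, ← h.lamy, ← mul_assoc, ← h.lamz, mul_assoc,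
    mul_assoc, mul_assoc]

theorem n_z : z * y * z * z * (z * y * z)⁻¹ = y := by
  rw [n_inv h, mul_assoc _ z z, h.big.lx.z_sq, mul_one, h.braid, ← mul_assoc, ← mul_assoc,
    mul_assoc z, (big_conj h.big h.cjy).lx.z_sq, mul_one, h.big.lx.z_sq, one_mul]

theorem stA_frame (k : Fin 3) : ∃ x : Fin 3 → Fin 3 → ZMod 2 → G, H57.StA x ∧
    (x 0 1 = fun t => lam (inc k (swap 1 2)) ^ t.val) ∧
    (x 1 0 = fun t => lam (inc k (swap 0 2)) ^ t.val) ∧ (x 1 2 = fun t => p (1, 1, 1) ^ t.val) ∧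
    x 2 1 = fun t => (z * y * z * p (0, 0, 0) * (z * y * z)⁻¹) ^ t.val := by
  refine ⟨_, stA_rt (line1 h k) ((line0 h k).conj (n := z * y * z) fun σ => n_lam h _) ?_ ?_
    (p_ne h _), rfl, rfl, by rw [← pt_self 1 k]; rfl, by rw [← pt_self 0 k]; rfl⟩
  · rw [pt_self, pt_self]
    refine h.path _ z (p (0, 0, 0)) _ (cj_p h _) (cj_refl z) (cj_p h _) (cj_conj (cj_p h _) _)
      (h.mem _) (h.mem _) (by rw [n_inv h]; exact h.z2.1) (fun e => (h.comm _ _).1 e (by decide))
      (by rw [n_inv h]; exact h.z2.2.symm)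
  · obtain ⟨g, h1, hg⟩ := exists_g k
    rw [pt_self, MonoidHom.comp_apply, inc_s3, n_inv h, ← hg, pt_self]
    exact (big_conj h.big (h.cjd k)).lx.comm _ (mem_Q h h1) _ (h.md k).2.1

end Frame

/-- the direction that belongs to a leaf of the diagram -/
def lf : Fin 4 → Fin 3 := ![0, 0, 1, 2]

theorem jobD4CT : JobD4CT.{u} := by
  intro G _ _ z y κ p lam h
  set w := z * y * z * p (0, 0, 0) * (z * y * z)⁻¹ with hw
  let U : Fin 4 → G := fun i => if i = 1 then p (1, 1, 1) else lam (inc (lf i) (swap 1 2))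
  let V : Fin 4 → G := fun i => if i = 1 then w else lam (inc (lf i) (swap 0 2))
  obtain ⟨φ, hφ, hU, hV⟩ := H64.exists_cSys_of_stA (F := ZMod 2) (Adj := H64.AdjD 4)
    (fun i t => U i ^ t.val) (fun i t => V i ^ t.val) (H64.isTree_D le_rfl).exists_adj
    (fun i j hij => by
      have : (i ≠ 1 ∧ j = 1) ∨ (j ≠ 1 ∧ i = 1) := by
        simp only [H64.AdjD, ne_eq, Fin.ext_iff, Fin.val_one] at hij ⊢; omega
      rcases this with ⟨a, rfl⟩ | ⟨a, rfl⟩
      · left; simpa only [U, V, if_neg a, if_pos] using stA_frame h (lf i)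
      · right; simpa only [U, V, if_neg a, if_pos] using stA_frame h (lf j))
    (fun i j e hij s t => by
      have : i ≠ 1 ∧ j ≠ 1 ∧ lf i ≠ lf j := by
        revert i j; unfold H64.AdjD; decide
      have c : ∀ σ τ, Commute (lam (inc (lf i) σ)) (lam (inc (lf j) τ)) := fun σ τ =>
        Commute.map (inc_comm this.2.2 σ τ) lam
      simp only [U, V, if_neg this.1, if_neg this.2.1]
      exact ⟨(c _ _).pow_pow _ _, (c _ _).pow_pow _ _, (c _ _).pow_pow _ _, (c _ _).pow_pow _ _⟩)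
    (fun i => by
      show U i ^ 1 ≠ 1
      rw [pow_one]
      simp only [U]
      split_ifs
      · exact p_ne h _
      · rw [inc_s3]; exact (big_conj h.big (h.cjd _)).lx.z_ne)
  set M := cen z ⊔ Subgroup.zpowers y with hM
  have cM : ∀ a, a * z = z * a → a ∈ M := fun a ha => Subgroup.mem_sup_left (mem_cen.2 ha)
  have nM : z * y * z ∈ M :=
    mul_mem (mul_mem (cM z rfl) (Subgroup.mem_sup_right (Subgroup.mem_zpowers y))) (cM z rfl)
  have pM : ∀ x, p x ∈ M := fun x => cM _ (h.big.lx.z_comm _ (h.mem x)).symm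
  have wM : w ∈ M := mul_mem (mul_mem nM (pM _)) (inv_mem nM)
  have hK : ∀ i, (φ i).range ≤ M := fun i => H64.range_le_of_UL
    (fun t => by
      rw [hU]
      simp only [U]
      split_ifs
      exacts [pow_mem (pM _) _, pow_mem (cM _ (h.lamz _)) _])
    (fun t => by
      rw [hV]
      simp only [V]
      split_ifs
      exacts [pow_mem wM _, pow_mem (cM _ (h.lamz _)) _])
  have hle : M ≤ ⨆ i, (φ i).range := by
    set K := ⨆ i, (φ i).range
    have uK : ∀ i, U i ∈ K := fun i => le_iSup (fun i => (φ i).range) i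
      ⟨H65.sl2U 1, (hU i 1).trans (pow_one _)⟩
    have vK : ∀ i, V i ∈ K := fun i => le_iSup (fun i => (φ i).range) i
      ⟨H65.sl2L 1, (hV i 1).trans (pow_one _)⟩
    have l1 : ∀ k σ, lam (inc k σ) ∈ K := fun k σ => by
      obtain ⟨i, a, rfl⟩ : ∃ i : Fin 4, i ≠ 1 ∧ lf i = k := by revert k; decide
      have a1 : lam (inc (lf i) (swap 1 2)) ∈ K := by simpa only [U, if_neg a] using uK i
      have a2 : lam (inc (lf i) (swap 0 2)) ∈ K := by simpa only [V, if_neg a] using vK i
      have : σ = 1 ∨ σ = swap 1 2 ∨ σ = swap 0 2 ∨ σ = swap 1 2 * swap 0 2 ∨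
          σ = swap 0 2 * swap 1 2 ∨ σ = swap 1 2 * swap 0 2 * swap 1 2 := by revert σ; decide
      rcases this with rfl | rfl | rfl | rfl | rfl | rfl <;> (try simp only [map_mul, map_one])
      exacts [one_mem _, a1, a2, mul_mem a1 a2, mul_mem a2 a1, mul_mem (mul_mem a1 a2) a1]
    have l2 : ∀ g, lam g ∈ K := fun g => by
      rw [inc_prod g, map_mul, map_mul]
      exact mul_mem (mul_mem (l1 _ _) (l1 _ _)) (l1 _ _)
    have qK : O2C z ≤ K := h.gen.trans ((Subgroup.closure_le _).2 (by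
      rintro _ ⟨x, rfl⟩
      obtain ⟨g, rfl⟩ := exists_act 1 x
      rw [← h.equi]
      exact mul_mem (mul_mem (l2 g) (uK 1)) (inv_mem (l2 g))))
    have qK' : O2C z ≤ K.comap (MulAut.conj (z * y * z)).toMonoidHom :=
      h.gen.trans ((Subgroup.closure_le _).2 (by
        rintro _ ⟨x, rfl⟩
        obtain ⟨g, rfl⟩ := exists_act 0 x
        have : z * y * z * p (act3 g (0, 0, 0)) * (z * y * z)⁻¹ = lam g * w * (lam g)⁻¹ := by
          rw [← h.equi, hw, ← mul_assoc, ← mul_assoc, n_lam h, mul_assoc _ (lam g)⁻¹, ← mul_inv_rev,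
            n_lam h, mul_inv_rev]
          simp only [mul_assoc]
        show z * y * z * p (act3 g (0, 0, 0)) * (z * y * z)⁻¹ ∈ K
        rw [this]
        exact mul_mem (mul_mem (l2 g) (vK 1)) (inv_mem (l2 g))))
    refine sup_le (fun a ha => ?_) (Subgroup.zpowers_le.2 (by rw [← n_z h]; exact qK' h.big.lx.z_mem))
    have h1 := mem_cen.1 ha
    have h2 : a * lam (κ a)⁻¹ ∈ O2C z :=
      (h.ker _ (show Commute _ z from (show Commute a z from h1).mul_left (h.lamz _))).1
        (by rw [h.mul _ _ h1 (h.lamz _), h.kap, mul_inv_cancel])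
    exact (mul_mem_cancel_right (l2 _)).1 (qK h2)
  have : Nontrivial M := ⟨⟨⟨z, cM z rfl⟩, 1, fun e => h.big.lx.z_ne (congrArg Subtype.val e)⟩⟩
  refine CT2.recog_D_two le_rfl (CT2.restrict hφ M fun i g => hK i ⟨g, rfl⟩) ?_ ?_
  · refine Subgroup.map_injective M.subtype_injective ?_
    rw [Subgroup.map_iSup, ← MonoidHom.range_eq_map, Subgroup.range_subtype]
    refine le_antisymm (iSup_le fun i => Subgroup.map_subtype_le _) (hle.trans (iSup_mono fun i => ?_))
    rintro _ ⟨g, rfl⟩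
    exact ⟨_, ⟨g, rfl⟩, rfl⟩
  · refine le_bot_iff.1 fun c hc => Subtype.ext ?_
    have h1 : ∀ a ∈ M, a * c = c * a := fun a ha =>
      congrArg Subtype.val (Subgroup.mem_center_iff.1 hc ⟨a, ha⟩)
    refine (h.big.lx.cent' fun a ha => (h1 a (cM a (h.big.lx.z_comm a ha).symm)).symm).resolve_right
      fun e => h.z2.2 ?_
    have := h1 w wM
    rwa [e, hw, n_inv h] at this

end H11.D4
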