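/- Standard subgroups of type `2·Ω₈⁺(2)`: the action of the centraliser of the central involution;
frames. -/
import Cfsg.Agent.H11.E8Spec
import Cfsg.Agent.H69.Std2

set_option autoImplicit false
set_option linter.unusedSectionVars false

open Cfsg Subgroup H14 H98 H1.Gold H69.Std

namespace H11.E8

universe u

variable {G : Type u} [Group G] [Finite G] {L L' : Subgroup G} {s t x x' n : G} {j : W → G}
  {w w' : W}

/-- `j` is an isomorphism from the rotation subgroup onto `L` -/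
structure Emb (L : Subgroup G) (j : W → G) : Prop where
  mul : ∀ {a b}, dt a = 1 → dt b = 1 → j (a * b) = j a * j b
  inj : ∀ {a}, dt a = 1 → j a = 1 → a = 1
  mem : ∀ {a}, dt a = 1 → j a ∈ L
  sur : ∀ {l}, l ∈ L → ∃ a, dt a = 1 ∧ j a = l

/-- `x` acts on `L` as `w` -/
def Acts (j : W → G) (x : G) (w : W) : Prop := ∀ y, dt y = 1 → x * j y * x⁻¹ = j (w * y * w⁻¹)

theorem dt_mul' {a b : W} (ha : dt a = 1) (hb : dt b = 1) : dt (a * b) = 1 := by
  rw [dt_mul, ha, hb, one_mul]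

theorem dt_neg_mul (a : W) : dt (neg * a) = dt a := by rw [dt_mul, dt_neg, one_mul]

theorem neg_mul_sq (a : W) : neg * a * (neg * a) = a * a := by
  rw [mul_assoc, ← mul_assoc a, ← neg_comm, mul_assoc neg, ← mul_assoc neg, neg_sq, one_mul]

theorem neg_conj (a y : W) : neg * a * y * (neg * a)⁻¹ = a * y * a⁻¹ := by
  rw [mul_inv_rev, ← mul_assoc, mul_assoc neg a, mul_assoc neg, neg_comm, mul_inv_cancel_right]

theorem conj_neg (g : W) : g * neg * g⁻¹ = neg := by rw [← neg_comm, mul_inv_cancel_right]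

theorem exists_emb (e : L ≃* W') : ∃ j, Emb L j := by
  classical
  refine ⟨fun a => if h : dt a = 1 then e.symm ⟨a, h⟩ else 1, fun {a b} ha hb => ?_,
    fun {a} ha h => ?_, fun {a} ha => ?_, fun {l} hl => ⟨e ⟨l, hl⟩, (e ⟨l, hl⟩).2, ?_⟩⟩
  · simp only [dif_pos ha, dif_pos hb, dif_pos (dt_mul' ha hb)]
    rw [← coe_mul, ← map_mul]; rfl
  · simp only [dif_pos ha] at h
    exact congrArg Subtype.val (e.symm.injective ((Subtype.ext h).trans e.symm.map_one.symm))
  · simp only [dif_pos ha]; exact Subtype.prop _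
  · simp only [dif_pos (mem_W'.1 (e ⟨l, hl⟩).2)]
    exact congrArg Subtype.val (e.symm_apply_apply ⟨l, hl⟩)

namespace Emb

theorem one (E : Emb L j) : j 1 = 1 := left_eq_mul.1 (by rw [← E.mul dt_one dt_one, one_mul])

theorem inv (E : Emb L j) (h : dt w = 1) : j w⁻¹ = (j w)⁻¹ :=
  eq_inv_of_mul_eq_one_left (by rw [← E.mul ((dt_inv w).trans h) h, inv_mul_cancel, E.one])

theorem eq (E : Emb L j) (h : dt w = 1) (h' : dt w' = 1) (e : j w = j w') : w = w' :=
  mul_inv_eq_one.1 (E.inj (dt_mul' h ((dt_inv _).trans h')) (by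
    rw [E.mul h ((dt_inv _).trans h'), E.inv h', e, mul_inv_cancel]))

theorem acts (E : Emb L j) (h : dt w = 1) : Acts j (j w) w := fun y hy => by
  rw [E.mul (dt_mul' h hy) ((dt_inv _).trans h), E.mul h hy, E.inv h]

protected theorem cj (E : Emb L j) (g : G) : Emb (cj g L) fun a => g * j a * g⁻¹ :=
  ⟨fun ha hb => by rw [E.mul ha hb, conj_mul], fun ha h => E.inj ha (conj_eq_one_iff.1 h),
    fun ha => conj_mem_cj (E.mem ha), fun hl => by
      obtain ⟨a, h1, h2⟩ := E.sur (mem_cj.1 hl)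
      exact ⟨a, h1, by rw [h2]; group⟩⟩

theorem conj (E : Emb L j) (g : W) : Emb L fun a => j (g * a * g⁻¹) :=
  ⟨fun ha hb => by rw [← E.mul ((dt_conj _ _).trans ha) ((dt_conj _ _).trans hb), conj_mul],
    fun ha h => conj_eq_one_iff.1 (E.inj ((dt_conj _ _).trans ha) h),
    fun ha => E.mem ((dt_conj _ _).trans ha), fun hl => by
      obtain ⟨a, h1, h2⟩ := E.sur hl
      exact ⟨g⁻¹ * a * g⁻¹⁻¹, (dt_conj _ _).trans h1, by rw [← h2]; congr 1; group⟩⟩

theorem neg_eq (E : Emb L j) (e : EZ L t) : j neg = t :=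
  ((e.zc _ (E.mem dt_neg)).1 fun l hl => by
    obtain ⟨a, h1, rfl⟩ := E.sur hl
    rw [← E.mul h1 dt_neg, ← E.mul dt_neg h1, neg_comm]).resolve_left
      fun h => neg_ne_one (E.inj dt_neg h)

theorem exists_acts (E : Emb L j) (hA : Aut) (e : EZ L t) (hx : Commute x t) :
    ∃ w, Acts j x w := by
  let f : W' →* L := ⟨⟨fun a => ⟨j a, E.mem a.2⟩, Subtype.ext E.one⟩,
    fun a b => Subtype.ext (E.mul a.2 b.2)⟩
  let ε : W' ≃* L := MulEquiv.ofBijective f
    ⟨fun a b h => Subtype.ext (E.eq a.2 b.2 (congrArg Subtype.val h)), fun l => by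
      obtain ⟨a, h1, h2⟩ := E.sur l.2
      exact ⟨⟨a, h1⟩, Subtype.ext h2⟩⟩
  obtain ⟨g, hg⟩ := hA ((ε.trans (L.normalizerMonoidHom ⟨x, e.nor_iff.2 hx⟩)).trans ε.symm)
  refine ⟨g, fun y hy => ?_⟩
  rw [← hg ⟨y, hy⟩]
  exact (congrArg Subtype.val (ε.apply_symm_apply
    (L.normalizerMonoidHom ⟨x, e.nor_iff.2 hx⟩ (ε ⟨y, hy⟩)))).symm

end Emb

namespace Acts

theorem mul (h : Acts j x w) (h' : Acts j x' w') : Acts j (x * x') (w * w') := fun y hy => by
  rw [show x * x' * j y * (x * x')⁻¹ = x * (x' * j y * x'⁻¹) * x⁻¹ by group, h' y hy,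
    h _ ((dt_conj _ _).trans hy)]
  congr 1; group

theorem inv (h : Acts j x w) : Acts j x⁻¹ w⁻¹ := fun y hy => by
  have := h _ ((dt_conj w⁻¹ y).trans hy)
  rw [show w * (w⁻¹ * y * w⁻¹⁻¹) * w⁻¹ = y by group] at this
  rw [← this]; group

theorem one (j : W → G) : Acts j 1 1 := fun y _ => by simp

theorem neg_mul (h : Acts j x w) : Acts j x (neg * w) := fun y hy => by rw [neg_conj, h y hy]

theorem conj (h : Acts j x w) (g : W) : Acts (fun a => j (g * a * g⁻¹)) x (g⁻¹ * w * g) :=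
  fun y hy => by
    rw [h _ ((dt_conj _ _).trans hy)]
    congr 1; group

theorem uniq (E : Emb L j) (h : Acts j x w) (h' : Acts j x w') : w' = w ∨ w' = neg * w := by
  have := cenW (g := w⁻¹ * w') fun y hy => by
    have e := E.eq ((dt_conj _ _).trans hy) ((dt_conj _ _).trans hy) ((h y hy).symm.trans (h' y hy))
    calc w⁻¹ * w' * y = w⁻¹ * (w' * y * w'⁻¹) * w' := by group
      _ = _ := by rw [← e]; group
  exact this.imp (fun e => (inv_mul_eq_one.1 e).symm) fun e => by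
    rw [inv_mul_eq_iff_eq_mul.1 e, neg_comm]

theorem inner (E : Emb L j) (h : Acts j x w) (hw : dt w = 1) : x * (j w)⁻¹ ∈ cen L := fun l hl => by
  obtain ⟨a, h1, rfl⟩ := E.sur hl
  have := (h.mul (E.acts hw).inv) a h1
  rw [mul_inv_cancel, one_mul, inv_one, mul_one] at this
  exact (mul_inv_eq_iff_eq_mul.1 this).symm

theorem eq_of_sq (E : Emb L j) (hU : Uniq L t) (h : Acts j x w) (hw : dt w = 1)
    (h1 : x * x = 1) (h2 : w * w = 1) : x = j w ∨ x = t * j w := by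
  have hk := h.inner E hw
  have h3 : j w * j w = 1 := by rw [← E.mul hw hw, h2, E.one]
  refine (hU _ hk ?_).imp mul_inv_eq_one.1 mul_inv_eq_iff_eq_mul.1
  have hc := (comm_of_cen hk (E.mem hw)).symm.mul_mul_mul_comm (x * (j w)⁻¹) (j w)
  rw [h3, mul_one] at hc
  rw [← hc, inv_mul_cancel_right, h1]

end Acts

/-- the facts about `W` -/
structure Facts : Prop where
  aut : Aut
  cls : Cls
  frm : Frm
  inv : JobINV
  cd : JobCD
  ii : NoII
  sq : JobSQ
  i : JobI

structure Gd (L : Subgroup G) (t : G) : Prop where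
  ez : EZ L t
  uq : Uniq L t
  emb : ∃ j, Emb L j

theorem Gd.of_pair (D : Gd L t) (p : Pair L L' t s) : Gd L' s := by
  refine ⟨p.e', p.uniq' D.uq, ?_⟩
  obtain ⟨g, rfl, -⟩ := p.conj
  obtain ⟨j, E⟩ := D.emb
  exact ⟨_, E.cj g⟩

theorem noCD (F : Facts) (p : Pair L L' t s) (hU : Uniq L t) (E : Emb L j) (h : Acts j s w) :
    w * w = 1 := by
  have h1 := h.mul h
  rw [p.e'.tt] at h1
  refine ((Acts.one j).uniq E h1).resolve_right fun h2 => ?_
  rw [mul_one] at h2
  obtain ⟨g, hg⟩ := F.cls.2 w h2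
  have hs := p.mem_of_uniq hU fun f hf ht _ _ => by
    obtain ⟨v, hv⟩ := E.exists_acts F.aut p.e ht
    have h3 := (hv.mul h).mul hv.inv
    rw [(p.e'.commK hf).eq, mul_inv_cancel_right] at h3
    have h4 : dt (g * v * g⁻¹) = 1 := F.cd _ (by
      rw [← hg]
      refine (h.uniq E h3).imp (fun e => ?_) fun e => ?_
      · rw [conj_mul, conj_mul, mul_inv_eq_iff_eq_mul.1 e]
      · rw [conj_mul, conj_mul, mul_inv_eq_iff_eq_mul.1 e, mul_assoc neg, ← conj_mul, conj_neg])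
    rw [dt_conj] at h4
    exact ⟨_, hv.inner E h4, _, E.mem h4, (inv_mul_cancel_right _ _).symm⟩
  obtain ⟨a, h3, rfl⟩ := E.sur hs
  have h4 : a * a = neg := by
    rcases h.uniq E (E.acts h3) with e | e <;> rw [e]
    exacts [h2, (neg_mul_sq w).trans h2]
  exact p.e.ne_one (by rw [← E.neg_eq p.e, ← h4, E.mul h3 h3, p.e'.tt])

/-- a frame: an elementary abelian group acting as the sign group -/
structure Fr (j : W → G) (a : ℕ → G) : Prop where
  mul : ∀ x y, a (x ^^^ y) = a x * a y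
  ev : ∀ x, dt (ep x) = 1 → a x = j (ep x)
  acts : ∀ x, Acts j (a x) (ep x)

open Classical in
noncomputable def fr (j : W → G) (u : G) (S x : ℕ) : G :=
  if dt (ep x) = 1 then j (ep x) else j (ep (x ^^^ S)) * u

theorem dt_xor (x y : ℕ) : dt (ep (x ^^^ y)) = dt (ep x) * dt (ep y) := by rw [ep_xor, dt_mul]

theorem mkFr (E : Emb L j) {u : G} {S : ℕ} (h1 : u * u = 1) (h2 : Acts j u (ep S))
    (h3 : dt (ep S) = -1) : Fr j (fr j u S) ∧ fr j u S S = u := by
  have ne : (-1 : ℚ) ≠ 1 := by norm_num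
  have f1 : ∀ x, dt (ep x) = 1 → fr j u S x = j (ep x) := fun x h => if_pos h
  have f2 : ∀ x, dt (ep x) = -1 → fr j u S x = j (ep (x ^^^ S)) * u := fun x h =>
    if_neg (h ▸ ne)
  have d : ∀ x, dt (ep x) = -1 → dt (ep (x ^^^ S)) = 1 := fun x h => by
    rw [dt_xor, h, h3]; norm_num
  have c : ∀ x, dt (ep x) = 1 → u * j (ep x) = j (ep x) * u := fun x h => by
    rw [← mul_inv_eq_iff_eq_mul, h2 _ h, ep_comm, mul_inv_cancel_right]
  have m : ∀ x y, dt (ep x) = 1 → dt (ep y) = 1 → j (ep x) * j (ep y) = j (ep (x ^^^ y)) :=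
    fun x y h h' => by rw [ep_xor, E.mul h h']
  refine ⟨⟨fun x y => ?_, f1, fun x => ?_⟩, by rw [f2 S h3, Nat.xor_self, ep_zero, E.one, one_mul]⟩
  · rcases dt_cases (ep x) with hx | hx <;> rcases dt_cases (ep y) with hy | hy
    · rw [f1 x hx, f1 y hy, f1 _ (by rw [dt_xor, hx, hy, one_mul]), m x y hx hy]
    · rw [f1 x hx, f2 y hy, f2 _ (by rw [dt_xor, hx, hy, one_mul]), ← mul_assoc, m _ _ hx (d y hy),
        Nat.xor_assoc]
    · rw [f2 x hx, f1 y hy, f2 _ (by rw [dt_xor, hx, hy, mul_one]), mul_assoc, c y hy, ← mul_assoc,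
        m _ _ (d x hx) hy, Nat.xor_assoc, Nat.xor_assoc, Nat.xor_comm y]
    · rw [f2 x hx, f2 y hy, f1 _ (by rw [dt_xor, hx, hy]; norm_num), mul_assoc, ← mul_assoc u,
        c _ (d y hy), mul_assoc, h1, mul_one, m _ _ (d x hx) (d y hy), Nat.xor_assoc,
        Nat.xor_comm y S, ← Nat.xor_assoc S, Nat.xor_self, Nat.zero_xor]
  · rcases dt_cases (ep x) with hx | hx
    · rw [f1 x hx]; exact E.acts hx
    · have := (E.acts (d x hx)).mul h2
      rwa [← ep_xor, Nat.xor_assoc, Nat.xor_self, Nat.xor_zero, ← f2 x hx] at this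

namespace Fr

variable {a : ℕ → G}

theorem zero (R : Fr j a) : a 0 = 1 := left_eq_mul.1 (R.mul 0 0)

theorem sq (R : Fr j a) (x : ℕ) : a x * a x = 1 := by rw [← R.mul, Nat.xor_self, R.zero]

theorem comm (R : Fr j a) (x y : ℕ) : Commute (a x) (a y) := by
  rw [Commute, SemiconjBy, ← R.mul, ← R.mul, Nat.xor_comm]

theorem inj0 (R : Fr j a) (E : Emb L j) {x : ℕ} (hx : x < 256) (h : a x = 1) : x = 0 := by
  have h1 := R.acts x
  rw [h] at h1
  have h2 : dt (ep x) = 1 := by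
    rcases (Acts.one j).uniq E h1 with e | e <;> rw [e]
    exacts [dt_one, (dt_neg_mul 1).trans dt_one]
  exact ep_inj hx (by norm_num) ((E.inj h2 ((R.ev x h2).symm.trans h)).trans ep_zero.symm)

theorem inj (R : Fr j a) (E : Emb L j) {x y : ℕ} (hx : x < 256) (hy : y < 256) (h : a x = a y) :
    x = y :=
  Nat.eq_of_xor_eq_zero (R.inj0 E (xor_lt hx hy) (by rw [R.mul, h, R.sq]))

theorem top (R : Fr j a) (E : Emb L j) (e : EZ L t) : a 255 = t :=
  (R.ev 255 dt_neg).trans (E.neg_eq e)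

theorem conjA (R : Fr j a) (E : Emb L j) {b : ℕ} (hb : okA b = true) :
    ∃ h, ∀ x, h * a x * h⁻¹ = a (act b x) := by
  obtain ⟨g, h1, h2⟩ := exists_pm hb
  refine ⟨j g, fun x => ?_⟩
  have h3 : dt g⁻¹ = 1 := (dt_inv g).trans h1
  have h4 : ep (act b x ^^^ x) = g * (ep x * g⁻¹ * (ep x)⁻¹) := by
    rw [ep_xor, ← h2, ep_inv]; group
  have h5 := dt_mul' h1 ((dt_conj (ep x) _).trans h3)
  calc j g * a x * (j g)⁻¹ = j g * (a x * (j g)⁻¹ * (a x)⁻¹) * a x := by group
    _ = _ := by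
      rw [← E.inv h1, R.acts x _ h3, ← E.mul h1 ((dt_conj _ _).trans h3), ← h4,
        ← R.ev _ (h4 ▸ h5), ← R.mul, Nat.xor_assoc, Nat.xor_self, Nat.xor_zero]

theorem tyEq (R : Fr j a) (F : Facts) (E : Emb L j) (e : EZ L t) (hn : Commute n t) {x y : ℕ}
    (hx : x < 256) (hy : y < 256) (h : n * a x * n⁻¹ = a y) : TyEq x y := by
  obtain ⟨v, hv⟩ := E.exists_acts F.aut e hn
  have h1 := (hv.mul (R.acts x)).mul hv.inv
  rw [h] at h1
  have k : v * ep x * v⁻¹ = ep y → TyEq x y := fun h2 => by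
    have h3 := tr_conj v (ep x)
    rw [h2, tr_ep hx, tr_ep hy] at h3
    have h4 : wt y = wt x := by exact_mod_cast (by linarith : (wt y : ℚ) = wt x)
    exact ⟨by rw [ty, ty, h4, F.inv v x y hx hy h2], fun _ => h4⟩
  rcases h1.uniq E (R.acts y) with h2 | h2
  · exact k h2.symm
  · by_cases h3 : wt x % 2 = 0
    · have h4 : dt (ep x) = 1 := by rw [dt_ep hx, if_pos h3]
      have h5 : dt (ep y) = 1 := by rw [h2, dt_neg_mul, dt_conj, h4]
      rw [R.ev x h4, R.ev y h5, hv _ h4] at h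
      exact k (E.eq ((dt_conj _ _).trans h4) h5 h)
    · have h4 := congrArg tr h2
      rw [tr_neg_mul, tr_conj, tr_ep hx, tr_ep hy] at h4
      have h5 : wt y + wt x = 8 := by exact_mod_cast (by linarith : (wt y : ℚ) + wt x = 8)
      refine ⟨?_, fun h => absurd h h3⟩
      rw [ty, ty, if_neg (by omega), if_neg (by omega)]
      omega

end Fr

theorem caseI' (F : Facts) (p : Pair L L' t s) (D : Gd L t) (E : Emb L j) {S : ℕ} (hS : S ∈ [1, 7])
    (h : Acts j s (ep S)) : False := by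
  classical
  have k0 : ∀ S ∈ [1, 7], S < 256 ∧ ¬ wt S % 2 = 0 ∧ ∀ x < 256, ¬ (x ^^^ S) % 2 = x % 2 := by
    decide +kernel
  obtain ⟨s1, s2, s3⟩ := k0 S hS
  obtain ⟨R, aS⟩ := mkFr E p.e'.tt h (by rw [dt_ep s1, if_neg s2])
  generalize fr j s S = a at R aS
  have D' := D.of_pair p
  obtain ⟨j', E'⟩ := D'.emb
  have cs : ∀ x, Commute (a x) s := fun x => aS ▸ R.comm x S
  choose v hv using fun x => E'.exists_acts F.aut p.e' (cs x)
  have sq : ∀ x < 256, v x * v x = 1 := by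
    have vS : ∀ x, a x = s → v x = 1 ∨ v x = neg := fun x e => by
      have h1 := E'.acts dt_neg
      rw [E'.neg_eq p.e', ← e] at h1
      exact (h1.uniq E' (hv x)).symm.imp (fun e => e.trans neg_sq) id
    refine F.sq S hS v (fun x _ y _ => ?_) (vS S aS) (fun b hb => ?_) ?_ fun b hb e x _ => ?_
    · exact ((hv x).mul (hv y)).uniq E' (R.mul x y ▸ hv (x ^^^ y))
    · obtain ⟨g, hg⟩ := R.conjA E hb
      have h1 := hg S
      rw [aS] at h1
      by_cases e : a (act b S) = s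
      · rcases vS _ e with e | e <;> rw [e]
        exacts [one_mul 1, neg_sq]
      · exact noCD F (p.e'.pair (g := g) (h1 ▸ cs _) (h1 ▸ e)) D'.uq E' (h1 ▸ hv _)
    · exact noCD F p.symm D'.uq E' (R.top E p.e ▸ hv 255)
    · obtain ⟨g, hg⟩ := R.conjA E hb
      have h1 := hg S
      rw [e, aS] at h1
      obtain ⟨l, hl⟩ := E'.exists_acts F.aut p.e' (mul_inv_eq_iff_eq_mul.1 h1)
      have h2 := (hl.mul (hv x)).mul hl.inv
      rw [hg] at h2
      have h3 := (hv x).mul (hv x)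
      rw [R.sq] at h3
      have h4 : l * v x * l⁻¹ * (l * v x * l⁻¹) = v x * v x := by
        rw [conj_mul]
        rcases (Acts.one j').uniq E' h3 with e | e <;> rw [e]
        exacts [by group, by rw [mul_one, conj_neg]]
      rcases h2.uniq E' (hv _) with e | e <;> rw [e]
      exacts [h4, (neg_mul_sq _).trans h4]
  let A : Subgroup W :=
    { carrier := {w | ∃ x < 256, Acts j' (a x) w}
      one_mem' := ⟨0, by norm_num, R.zero ▸ Acts.one j'⟩
      mul_mem' := fun ⟨x, hx, h1⟩ ⟨y, hy, h2⟩ => ⟨_, xor_lt hx hy, R.mul x y ▸ h1.mul h2⟩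
      inv_mem' := fun ⟨x, hx, h1⟩ => ⟨x, hx, inv_eq_of_mul_eq_one_right (R.sq x) ▸ h1.inv⟩ }
  have hA : ∀ w ∈ A, w * w = 1 := by
    rintro w ⟨x, hx, h1⟩
    rcases (hv x).uniq E' h1 with e | e <;> rw [e]
    exacts [sq x hx, (neg_mul_sq _).trans (sq x hx)]
  have ker : ∀ x < 256, ∀ y < 256, ∀ w, Acts j' (a x) w → Acts j' (a y) w → x = y ∨ x = y ^^^ S :=
    fun x hx y hy w h1 h2 => by
      have h3 := h1.mul h2
      rw [hA w ⟨x, hx, h1⟩, ← R.mul] at h3
      rcases h3.eq_of_sq E' D'.uq dt_one (R.sq _) (one_mul 1) with e | e <;> rw [E'.one] at e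
      · exact Or.inl (Nat.eq_of_xor_eq_zero (R.inj0 E (xor_lt hx hy) e))
      · rw [mul_one, ← aS] at e
        right
        rw [← R.inj E (xor_lt hx hy) s1 e, Nat.xor_comm x, ← Nat.xor_assoc, Nat.xor_self,
          Nat.zero_xor]
  have fin : Finite A := Finite.of_surjective (fun x : Fin 256 × Bool =>
    (⟨cond x.2 (v x.1) (neg * v x.1), x.1, x.1.2, by
      cases x.2
      exacts [(hv _).neg_mul, hv _]⟩ : A)) (by
    rintro ⟨w, x, hx, h1⟩
    rcases (hv x).uniq E' h1 with e | e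
    exacts [⟨(⟨x, hx⟩, true), Subtype.ext e.symm⟩, ⟨(⟨x, hx⟩, false), Subtype.ext e.symm⟩])
  obtain ⟨g, hg⟩ := F.frm A hA (by
    let f : ℕ → W := fun x => if x % 2 = 0 then v x else neg * v (x ^^^ S)
    have hf : ∀ x, Acts j' (a x) (f x) := fun x => by
      by_cases e : x % 2 = 0
      · rw [show f x = v x from if_pos e]; exact hv x
      · rw [show f x = neg * v (x ^^^ S) from if_neg e]
        have h1 := (E'.acts dt_neg).mul (hv (x ^^^ S))
        rwa [E'.neg_eq p.e', ← aS, ← R.mul, Nat.xor_comm x, ← Nat.xor_assoc, Nat.xor_self,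
          Nat.zero_xor, Nat.xor_comm S] at h1
    have nn : ∀ w : W, w ≠ neg * w := fun w e => neg_ne_one (right_eq_mul.1 e)
    refine (by simp : 256 = Nat.card (Fin 256)).le.trans (Nat.card_le_card_of_injective
      (fun x : Fin 256 => (⟨f x, x, x.2, hf x⟩ : A)) fun x y e => Fin.ext ?_)
    have e1 : f x = f y := congrArg Subtype.val e
    refine (ker x x.2 y y.2 _ (hf x) (e1 ▸ hf y)).resolve_right fun e2 => ?_
    have e3 := s3 y y.2
    by_cases e4 : y.1 % 2 = 0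
    · rw [show f y = v y from if_pos e4, e2, show f (y ^^^ S) = neg * v (y ^^^ S ^^^ S) from
        if_neg (by omega), Nat.xor_assoc, Nat.xor_self, Nat.xor_zero] at e1
      exact nn _ e1.symm
    · rw [show f y = neg * v (y ^^^ S) from if_neg e4, e2, show f (y ^^^ S) = v (y ^^^ S) from
        if_pos (by omega)] at e1
      exact nn _ e1)
  have E'' := E'.conj g
  have hg' : ∀ y < 256, ∃ x < 256, Acts (fun w => j' (g * w * g⁻¹)) (a x) (ep y) := fun y hy => by
    obtain ⟨x, hx, h1⟩ := hg y hy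
    exact ⟨x, hx, by simpa [mul_assoc] using h1.conj g⟩
  generalize (fun w => j' (g * w * g⁻¹)) = i at E'' hg'
  obtain ⟨x1, hx1, h1⟩ := hg' 1 (by norm_num)
  obtain ⟨R', -⟩ := mkFr E'' (R.sq x1) h1 dt_ep_one
  have ev : ∀ y < 256, dt (ep y) = 1 → ∃ x < 256, i (ep y) = a x := fun y hy hd => by
    obtain ⟨x, hx, h2⟩ := hg' y hy
    rcases h2.eq_of_sq E'' D'.uq hd (R.sq x) (ep_sq y) with e | e
    · exact ⟨x, hx, e.symm⟩
    · exact ⟨S ^^^ x, xor_lt s1 hx, by rw [R.mul, aS, e, ← mul_assoc, p.e'.tt, one_mul]⟩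
  have all : ∀ y, ∃ x, y < 256 → x < 256 ∧ fr i (a x1) 1 y = a x := fun y => by
    by_cases hy : y < 256
    · rcases dt_cases (ep y) with hd | hd
      · obtain ⟨x, hx, e⟩ := ev y hy hd
        exact ⟨x, fun _ => ⟨hx, (R'.ev y hd).trans e⟩⟩
      · obtain ⟨x, hx, e⟩ := ev _ (xor_lt hy (show 1 < 256 by norm_num))
          (by rw [dt_xor, hd, dt_ep_one]; norm_num)
        exact ⟨x ^^^ x1, fun _ => ⟨xor_lt hx hx1, by
          rw [R.mul, ← e]; exact if_neg (by rw [hd]; norm_num)⟩⟩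
    · exact ⟨0, fun h => absurd h hy⟩
  generalize fr i (a x1) 1 = a' at R' all
  choose θ hθ using all
  have sur : ∀ x, ∃ y, x < 256 → y < 256 ∧ θ y = x := fun x => by
    by_cases hx : x < 256
    · obtain ⟨y, hy⟩ := (Finite.injective_iff_surjective
        (f := fun y : Fin 256 => (⟨θ y, (hθ y y.2).1⟩ : Fin 256))).1 (fun y z e => Fin.ext
          (R'.inj E'' y.2 z.2 (by
            rw [(hθ y y.2).2, (hθ z z.2).2, show θ y = θ z from congrArg Fin.val e]))) ⟨x, hx⟩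
      exact ⟨y, fun _ => ⟨y.2, congrArg Fin.val hy⟩⟩
    · exact ⟨0, fun h => absurd h hx⟩
  choose φ hφ using sur
  refine F.i S hS θ (fun σ => (∀ x < 256, σ x < 256) ∧ ∃ n, ∀ x < 256, n * a x * n⁻¹ = a (σ x))
    (fun y hy => (hθ y hy).1) (fun x hx y hy => ?_) (fun y hy e => ?_) ?_ (fun σ h => h.1)
    ?_ (fun b hb => ⟨fun x _ => act_lt b x, (R.conjA E hb).imp fun _ h x _ => h x⟩)
    (fun b hb => ?_) ?_ ?_
  · refine R.inj E (hθ _ (xor_lt hx hy)).1 (xor_lt (hθ x hx).1 (hθ y hy).1) ?_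
    rw [R.mul, ← (hθ x hx).2, ← (hθ y hy).2, ← (hθ _ (xor_lt hx hy)).2, R'.mul]
  · exact R'.inj0 E'' hy (by rw [(hθ y hy).2, e, R.zero])
  · exact R.inj E (hθ 255 (by norm_num)).1 s1
      (by rw [← (hθ 255 (by norm_num)).2, aS, R'.top E'' p.e'])
  · rintro σ ρ ⟨h1, n, h2⟩ ⟨h3, m, h4⟩
    refine ⟨fun x hx => h1 _ (h3 x hx), n * m, fun x hx => ?_⟩
    rw [Function.comp, ← h2 _ (h3 x hx), ← h4 x hx]; group
  · obtain ⟨n, hn⟩ := R'.conjA E'' hb
    refine ⟨fun x => θ (act b (φ x)), ⟨fun x _ => (hθ _ (act_lt _ _)).1, n, fun x hx => ?_⟩,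
      fun y hy => ?_⟩
    · rw [← (hθ _ (act_lt _ _)).2, ← hn, (hθ _ (hφ x hx).1).2, (hφ x hx).2]
    · have := hφ _ (hθ y hy).1
      show θ (act b (φ (θ y))) = _
      rw [R'.inj E'' this.1 hy (by rw [(hθ _ this.1).2, this.2, (hθ y hy).2])]
  · rintro σ ⟨h1, n, h2⟩ e x hx
    have h3 := h2 255 (by norm_num)
    rw [e, R.top E p.e] at h3
    exact R.tyEq F E p.e (mul_inv_eq_iff_eq_mul.1 h3) hx (h1 x hx) (h2 x hx)
  · rintro σ ⟨-, n, h2⟩ e y hy y' hy' e'
    have h3 := h2 S s1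
    rw [e, aS] at h3
    refine R'.tyEq F E'' p.e' (mul_inv_eq_iff_eq_mul.1 h3) hy hy' ?_
    rw [(hθ y hy).2, (hθ y' hy').2, h2 _ (hθ y hy).1, e']

theorem caseI (F : Facts) (p : Pair L L' t s) (D : Gd L t) (E : Emb L j) (h : Acts j s w) :
    dt w = 1 := by
  refine (dt_cases w).resolve_right fun hd => ?_
  have k : ∀ (w g : W) S, S ∈ [1, 7] → Acts j s w → g * w * g⁻¹ ≠ ep S := fun w g S hS h e =>
    caseI' F p D (E.conj g⁻¹) hS (by simpa [← e] using h.conj g⁻¹)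
  have k' : ∀ (g : W) S b, act b (255 ^^^ S) ∈ [1, 7] → okA b = true → g * w * g⁻¹ ≠ ep S :=
    fun g S b hS hb e => k (neg * w) (pm b * g) _ hS h.neg_mul (by
      rw [← pm_conj hb, ep_xor, ← e, show ep 255 = neg from rfl, ← conj_neg g, conj_mul,
        conj_neg g]
      group)
  obtain ⟨g, S, hS, e⟩ := F.cls.1 w (noCD F p D.uq E h)
  have k2 : ∀ S ∈ [0, 1, 3, 7, 15, 23, 31, 63, 127, 255], S < 256 ∧
      (wt S % 2 = 0 ∨ S ∈ [1, 7] ∨ S = 31 ∨ S = 127) := by decide +kernel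
  obtain ⟨h1, h2 | h2 | rfl | rfl⟩ := k2 S hS
  · rw [← dt_conj g, e, dt_ep h1, if_pos h2] at hd
    norm_num at hd
  · exact k w g S h2 h e
  · exact k' g 31 343980 (by decide +kernel) (by decide +kernel) e
  · exact k' g 127 978705 (by decide +kernel) (by decide +kernel) e

theorem mem_of_pair (F : Facts) (p : Pair L L' t s) (D : Gd L t) : s ∈ L := by
  obtain ⟨j, E⟩ := D.emb
  obtain ⟨w, h⟩ := E.exists_acts F.aut p.e p.comm
  have hd := caseI F p D E h
  rcases h.eq_of_sq E D.uq hd p.e'.tt (noCD F p D.uq E h) with e | e <;> rw [e]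
  exacts [E.mem hd, mul_mem p.e.mem (E.mem hd)]

/-- the span of a list of masks -/
def spanL (B : List ℕ) : List ℕ := B.foldr (fun b L => L ++ L.map (b ^^^ ·)) [0]

theorem of_spanL {P : ℕ → Prop} (h0 : P 0) (h : ∀ x y, P x → P y → P (x ^^^ y)) {B : List ℕ}
    (hB : ∀ b ∈ B, P b) : ∀ x ∈ spanL B, P x := by
  induction B with
  | nil => simpa [spanL]
  | cons b B ih =>
    intro x hx
    have ih := ih fun c hc => hB c (List.mem_cons_of_mem _ hc)
    rcases List.mem_append.1 hx with hx | hx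
    · exact ih x hx
    · obtain ⟨y, hy, rfl⟩ := List.mem_map.1 hx
      exact h _ _ (hB b List.mem_cons_self) (ih y hy)

instance (S x : ℕ) : Decidable (inE S x) := inferInstanceAs (Decidable (_ ∧ _ ∧ _))

theorem caseII' (F : Facts) (p : Pair L L' t s) (D : Gd L t) (E : Emb L j) {S : ℕ}
    (hS : S ∈ [3, 15, 23, 63]) (h : j (ep S) = s) : False := by
  classical
  have D' := D.of_pair p
  obtain ⟨j', E'⟩ := D'.emb
  have dE : ∀ x, inE S x → dt (ep x) = 1 := fun x hx => by rw [dt_ep hx.1, if_pos hx.2.1]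
  have dS := dE S ((by decide +kernel : ∀ S ∈ [3, 15, 23, 63], inE S S) S hS)
  have cj : ∀ g w, dt g = 1 → dt w = 1 → j g * j w * (j g)⁻¹ = j (g * w * g⁻¹) :=
    fun g w hg hw => E.acts hg w hw
  have key : ∀ g w, dt g = 1 → g * ep S * g⁻¹ = w → w * ep S = ep S * w → j w ∈ L' := by
    intro g w hg e hc
    have hw : dt w = 1 := by rw [← e, dt_conj, dS]
    have h1 := cj g _ hg dS
    rw [h, e] at h1
    by_cases e2 : j w = s
    · exact e2 ▸ p.e'.mem
    · exact h1 ▸ mem_of_pair F (p.e'.pair (g := j g) (by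
        rw [h1, ← h, Commute, SemiconjBy, ← E.mul hw dS, ← E.mul dS hw, hc]) (h1 ▸ e2)) D'
  have fix : ∀ b, okA b = true → act b S = S → ∃ n, Commute n s ∧
      ∀ x, dt (ep x) = 1 → n * j (ep x) * n⁻¹ = j (ep (act b x)) := fun b hb e => by
    obtain ⟨g, h1, h2⟩ := exists_pm hb
    refine ⟨j g, mul_inv_eq_iff_eq_mul.1 ?_, fun x hx => by rw [cj g _ h1 hx, h2]⟩
    rw [← h, cj g _ h1 dS, h2, e]
  have mem : ∀ x, inE S x → j (ep x) ∈ L' := by
    let P : ℕ → Prop := fun x => dt (ep x) = 1 ∧ j (ep x) ∈ L'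
    have sp : ∀ B, (∀ b ∈ B, P b) → ∀ x ∈ spanL B, P x := fun B => of_spanL
      ⟨by rw [ep_zero, dt_one], by rw [ep_zero, E.one]; exact one_mem _⟩ fun x y hx hy =>
        ⟨by rw [ep_xor, dt_mul' hx.1 hy.1], by
          rw [ep_xor, E.mul hx.1 hy.1]; exact mul_mem hx.2 hy.2⟩
    have pa : ∀ C : List ℕ, (∀ b ∈ C, okA b = true) → ∀ x ∈ C.map (act · S), P x := by
      intro C hC x hx
      obtain ⟨b, hb, rfl⟩ := List.mem_map.1 hx
      obtain ⟨g, h1, h2⟩ := exists_pm (hC b hb)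
      exact ⟨by rw [← h2, dt_conj, dS], key g _ h1 (h2 S) (ep_comm _ _)⟩
    have gen : ∀ C : List ℕ, (∀ b ∈ C, okA b = true) →
        (∀ x < 256, inE S x → x ∈ spanL (C.map (act · S))) → ∀ x, inE S x → j (ep x) ∈ L' :=
      fun C h1 h2 x hx => (sp _ (pa C h1) x (h2 x hx.1 hx)).2
    simp only [List.mem_cons, List.not_mem_nil, or_false] at hS
    rcases hS with rfl | rfl | rfl | rfl
    · exact gen [16434824, 16205392, 14140504, 15673952, 13609064, 11415152, 9350264]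
        (by decide +kernel) (by decide +kernel)
    · obtain ⟨g, g1, g2⟩ := conj_tau
      obtain ⟨g', g3, g4⟩ := exists_rot (ep 1 * g)
      have c1 : pm tau * ep 15 = ep 15 * pm tau := by
        rw [pm_ep ok_tau]; exact congrArg (ep · * _) (by decide +kernel)
      have d3 : dt (ep 3) = 1 := dE 3 (by decide +kernel)
      have h3 : j (ep 3) ∈ L' := by
        have := mul_mem (key g' (ep 3 * pm tau) g3 (by
          rw [g4, show ep 1 * g * ep 15 * (ep 1 * g)⁻¹ = ep 1 * (g * ep 15 * g⁻¹) * (ep 1)⁻¹ by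
            group, g2, ep_inv, mul_assoc, pm_ep ok_tau, ← mul_assoc, ← ep_xor]
          exact congrArg (ep · * _) (by decide +kernel))
          (by rw [mul_assoc, c1, ← mul_assoc, ep_comm, mul_assoc])) (key g _ g1 g2 c1)
        rwa [← E.mul (dt_mul' d3 dt_pm_tau) dt_pm_tau, mul_assoc, pm_tau_sq, mul_one] at this
      have h5 : j (ep 5) ∈ L' := by
        obtain ⟨n, n1, n2⟩ := fix 16205392 (by decide +kernel) (by decide +kernel)
        rw [show 5 = act 16205392 3 by decide +kernel, ← n2 3 d3]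
        exact p.e'.conj_mem n1 h3
      have h6 : ∀ x < 256, inE 15 x → x ∈ spanL (3 :: 5 ::
          [16434824, 16362248, 11644808, 16096528].map (act · 15)) := by decide +kernel
      exact fun x hx => (sp _ (List.forall_mem_cons.2 ⟨⟨d3, h3⟩, List.forall_mem_cons.2
        ⟨⟨dE 5 (by decide +kernel), h5⟩, pa _ (by decide +kernel)⟩⟩) x (h6 x hx.1 hx)).2
    · exact gen [16434824, 14571144, 11789960, 9926280, 14599368, 7072520, 12534480]
        (by decide +kernel) (by decide +kernel)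
    · exact gen [16434824, 11789960, 7072520, 16205392, 6806800, 14140504, 15673952]
        (by decide +kernel) (by decide +kernel)
  have ex : ∀ x, ∃ w, j (ep x) ∈ L' → dt w = 1 ∧ j' w = j (ep x) := fun x => by
    by_cases hx : j (ep x) ∈ L'
    · exact (E'.sur hx).imp fun _ h _ => h
    · exact ⟨1, fun h => absurd h hx⟩
  choose ψ hψ using ex
  refine F.ii S hS ψ (fun x y hx hy => ?_) (fun x hx => (hψ x (mem x hx)).1) (fun x hx e => ?_) ?_
    fun b hb e => ?_
  · have h1 := hψ x (mem x hx)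
    have h2 := hψ y (mem y hy)
    have h3 : j (ep (x ^^^ y)) = j (ep x) * j (ep y) := by rw [ep_xor, E.mul (dE x hx) (dE y hy)]
    have h4 := hψ _ (h3 ▸ mul_mem (mem x hx) (mem y hy))
    exact E'.eq h4.1 (dt_mul' h1.1 h2.1) (by rw [h4.2, h3, E'.mul h1.1 h2.1, h1.2, h2.2])
  · have h1 := (hψ x (mem x hx)).2
    rw [e, E'.one] at h1
    exact ep_inj hx.1 (by norm_num) ((E.inj (dE x hx) h1.symm).trans ep_zero.symm)
  · have h1 := hψ S (h ▸ p.e'.mem)
    exact E'.eq h1.1 dt_neg (by rw [h1.2, h, E'.neg_eq p.e'])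
  · obtain ⟨n, n1, n2⟩ := fix b hb e
    obtain ⟨l, hl⟩ := E'.exists_acts F.aut p.e' n1
    refine ⟨l, fun x hx => ?_⟩
    have h1 := hψ x (mem x hx)
    have h2 := hψ (act b x) (n2 x (dE x hx) ▸ p.e'.conj_mem n1 (mem x hx))
    exact E'.eq h2.1 ((dt_conj _ _).trans h1.1) (by rw [h2.2, ← hl _ h1.1, h1.2, n2 x (dE x hx)])

theorem pair_false (F : Facts) (p : Pair L L' t s) (D : Gd L t) : False := by
  obtain ⟨j, E⟩ := D.emb
  obtain ⟨w, hd, h⟩ := E.sur (mem_of_pair F p D)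
  obtain ⟨g, S, hS, e⟩ := F.cls.1 w (E.inj (dt_mul' hd hd) (by rw [E.mul hd hd, h, p.e'.tt]))
  have k2 : ∀ S ∈ [0, 1, 3, 7, 15, 23, 31, 63, 127, 255], S < 256 ∧
      (¬ wt S % 2 = 0 ∨ S ∈ [3, 15, 23, 63] ∨ S = 0 ∨ S = 255) := by decide +kernel
  obtain ⟨h1, h2 | h2 | rfl | rfl⟩ := k2 S hS
  · rw [← dt_conj g, e, dt_ep h1, if_neg h2] at hd
    norm_num at hd
  · exact caseII' F p D (E.conj g⁻¹) h2 (by rw [← e, ← h]; congr 1; group)
  · rw [ep_zero, conj_eq_one_iff] at e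
    exact p.e'.ne_one (by rw [← h, e, E.one])
  · refine p.ne ?_
    rw [← h, ← E.neg_eq p.e, ← conj_neg g⁻¹, show neg = g * w * g⁻¹ from e.symm]
    congr 1; group

open H50.Co in
theorem exists_iso {bar : W →* O8} (B : Bar bar) (hT : Tri bar) (abc : JobABC.{u})
    (lift : JobLIFT.{u}) (e : EZ L t) (ε : L ⧸ center L ≃* Om) : Nonempty (L ≃* W') := by
  let π : MulAut Om → L →* O8 := fun β => Om.subtype.comp
    ((ε.trans β).toMonoidHom.comp (QuotientGroup.mk' _))
  have hπ : ∀ β x, π β x = (β (ε x) : Om) := fun _ _ => rfl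
  have C : ∀ β, Cov (π β) ⟨t, e.mem⟩ := fun β =>
    ⟨fun x => Subtype.ext (e.commL x.2).eq.symm, Subtype.ext e.tt, fun x => by
      rw [hπ, OneMemClass.coe_eq_one, EmbeddingLike.map_eq_one_iff, EmbeddingLike.map_eq_one_iff,
        QuotientGroup.eq_one_iff, Subtype.ext_iff, Subtype.ext_iff]
      refine Iff.trans ?_ (e.zc x x.2)
      rw [mem_center_iff, mem_centralizer_iff]
      exact ⟨fun h y hy => congrArg Subtype.val (h ⟨y, hy⟩), fun h y => Subtype.ext (h y y.2)⟩, by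
      rw [MonoidHom.range_comp, MonoidHom.range_eq_top.2
        ((ε.trans β).surjective.comp (QuotientGroup.mk'_surjective _)),
        ← MonoidHom.range_eq_map, range_subtype]⟩
  have k := fun β => lift bar B L (π β) _ (C β) (fun h => e.ne_one (congrArg Subtype.val h))
    e.std.1.1.commutator_eq_top
  obtain ⟨τ, hτ⟩ := hT
  obtain ⟨w, hw, h⟩ := abc bar B L (π 1) _ (C 1)
  simp only [List.mem_cons, List.not_mem_nil, or_false] at hw
  rcases hw with rfl | rfl | rfl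
  · exact k 1 h
  · exact k τ⁻¹ fun x hx => h x (by rw [← hτ _ hx, hπ]; simp)
  · refine k (τ⁻¹ * MulAut.conjNormal (bar (ep 1))) fun x hx => h x ?_
    have := hτ _ ((hπ _ x).symm.trans hx)
    rw [← MulAut.mul_apply, mul_inv_cancel_left, MulAut.conjNormal_apply] at this
    rw [map_mul, map_mul, ← this, ← map_inv, ep_inv, ← mul_assoc, ← mul_assoc, ← map_mul, ep_sq,
      map_one, one_mul, mul_assoc, ← map_mul, ep_sq, map_one, mul_one]
    rfl

/-- all the jobs -/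
structure Jobs : Prop where
  q : JobQ
  syl : JobSYL
  cls : JobCLS
  wt : JobWT
  f : JobF
  inv : JobINV
  cd : JobCD
  ii : JobII
  sq : JobSQ
  i : JobI
  tri : JobTRI
  abc : JobABC.{u}
  lift : JobLIFT.{u}
  aut : JobAUT

theorem Jobs.normal (J : Jobs.{u}) (hO : oddCore G = ⊥) (hL : IsStandardSubgroup L)
    {K : Type*} [Field K] [Fintype K] (hK : Fintype.card K = 2) (hZ : Nat.card (center L) = 2)
    (hX : Nonempty (L ⧸ center L ≃* POmega K (quadFormPlus 4 K)))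
    (hR : ∀ R : Sylow 2 (centralizer (L : Set G)),
      IsCyclic (R : Subgroup (centralizer (L : Set G)))) : L.Normal := by
  by_contra hn
  obtain ⟨bar, B⟩ := J.q
  have hs := J.syl B.card
  have hT := J.tri bar B
  obtain ⟨t, e⟩ := exists_ez hL hZ
  obtain ⟨g, p⟩ := e.exists_pair hO hn
  obtain ⟨ε⟩ := hX
  obtain ⟨ε'⟩ := exists_equiv_Om hK
  obtain ⟨i⟩ := exists_iso B hT J.abc J.lift e (ε.trans ε')
  exact pair_false ⟨J.aut bar B hT, J.cls hs, J.f hs J.wt, J.inv, J.cd, J.ii J.wt, J.sq, J.i⟩ p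
    ⟨e, e.uniq_of_cyclic hR, exists_emb i⟩

end H11.E8
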