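/- Triality; the automorphisms of the rotation subgroup of the Weyl group of type `E8`. -/
import Cfsg.Agent.H11.E8Lift

set_option autoImplicit false

open Cfsg H50.Co Matrix
open scoped commutatorElement

namespace H11.E8

variable {bar : W →* O8}

/-- the covering map -/
noncomputable def Bar.cov (B : Bar bar) : W' →* Om :=
  (bar.comp W'.subtype).codRestrict Om fun w => (B.om w).2 w.2

theorem Bar.cov_sur (B : Bar bar) : Function.Surjective B.cov := fun g => by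
  obtain ⟨w, hw⟩ := B.sur g
  exact ⟨⟨w, (B.om w).1 (hw ▸ g.2)⟩, Subtype.ext hw⟩

theorem Bar.cov_eq (B : Bar bar) {x y : W'} (h : B.cov x = B.cov y) :
    (x : W) = y ∨ (x : W) = E8.neg * y := B.eq_iff.1 (congrArg Subtype.val h)

theorem neg_mul_sq' (a : W) : neg * a * (neg * a) = a * a := by
  rw [mul_assoc, ← mul_assoc a, ← neg_comm, mul_assoc neg, ← mul_assoc neg, neg_sq, one_mul]

theorem Bar.eq_top (B : Bar bar) {K : Subgroup W'} (h : K.map B.cov = ⊤) : K = ⊤ := by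
  have h1 : (⟨E8.neg, dt_neg⟩ : W') ∈ K := by
    obtain ⟨a, ha, e⟩ := h.ge (Subgroup.mem_top (B.cov ⟨J0, dt_J0⟩))
    refine (Subtype.ext ?_ : a * a = ⟨E8.neg, dt_neg⟩) ▸ mul_mem ha ha
    rcases B.cov_eq e with e | e <;> rw [Subgroup.coe_mul, e]
    exacts [J0_sq, (neg_mul_sq' _).trans J0_sq]
  refine eq_top_iff.2 fun w _ => ?_
  obtain ⟨a, ha, e⟩ := h.ge (Subgroup.mem_top (B.cov w))
  rcases B.cov_eq e.symm with e | e
  · exact (Subtype.ext e : w = a) ▸ ha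
  · exact (Subtype.ext e : w = ⟨_, dt_neg⟩ * a) ▸ mul_mem h1 ha

theorem Bar.perfect (B : Bar bar) : commutator W' = ⊤ := B.eq_top (by
  have := simple_Om
  rw [commutator_def, Subgroup.map_commutator, ← MonoidHom.range_eq_map,
    MonoidHom.range_eq_top.2 B.cov_sur, ← commutator_def]
  refine (Subgroup.Normal.eq_bot_or_eq_top inferInstance).resolve_left fun h => ?_
  exact bot_ne_top (center_Om.symm.trans ((commutator_eq_bot_iff_center_eq_top _).1 h)))

theorem Bar.desc (B : Bar bar) {φ : W' →* Om} (h : φ ⟨E8.neg, dt_neg⟩ = 1) :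
    ∃ ψ : Om →* Om, ∀ x, ψ (B.cov x) = φ x :=
  ⟨B.cov.liftOfSurjective B.cov_sur ⟨φ, fun x hx => by
    rcases (B.ker x).1 (congrArg Subtype.val hx) with e | e
    · rw [show x = 1 from Subtype.ext e]; exact φ.map_one
    · rw [show x = ⟨_, dt_neg⟩ from Subtype.ext e]; exact h⟩,
    fun x => MonoidHom.liftOfRightInverse_comp_apply _ _ _ _ x⟩

def triZ : Fin 8 → Z8 := ![
  !![0,1,0,1,0,1,0,1; -1,0,1,0,1,0,1,0; 0,-1,0,1,1,0,-1,0; -1,0,-1,0,0,-1,0,1; 0,-1,-1,0,0,1,1,0;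
    -1,0,0,1,-1,0,0,-1; 0,-1,1,0,-1,0,0,1; -1,0,0,-1,0,1,-1,0],
  !![-1,0,1,0,1,0,1,0; 0,-1,0,-1,0,-1,0,-1; -1,0,-1,0,0,-1,0,1; 0,1,0,-1,-1,0,1,0;
    -1,0,0,1,-1,0,0,-1; 0,1,1,0,0,-1,-1,0; -1,0,0,-1,0,1,-1,0; 0,1,-1,0,1,0,0,-1],
  !![-1,0,-1,0,0,-1,0,-1; 0,-1,-1,0,0,1,-1,0; 1,1,-1,-1,0,0,0,0; 0,0,1,-1,0,0,-1,-1;
    0,0,0,0,-1,-1,-1,1; 1,-1,0,0,1,-1,0,0; 0,1,0,1,1,0,-1,0; 1,0,0,1,-1,0,0,-1],
  epZ 0,
  !![-1,0,0,-1,-1,0,0,1; 0,-1,0,1,0,-1,0,1; 0,0,-1,1,-1,1,0,0; 1,-1,-1,-1,0,0,0,0;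
    1,0,1,0,-1,0,1,0; 0,1,-1,0,0,-1,1,0; 0,0,0,0,-1,-1,-1,-1; -1,-1,0,0,0,0,1,-1],
  !![0,-1,0,1,0,1,0,-1; 1,0,0,-1,0,1,1,0; 0,0,0,0,1,-1,1,-1; -1,1,0,0,1,1,0,0;
    0,0,-1,-1,0,0,-1,-1; -1,-1,1,-1,0,0,0,0; 0,-1,-1,0,1,0,0,1; 1,0,1,0,1,0,-1,0],
  !![0,1,0,-1,1,0,-1,0; -1,0,1,0,-1,0,-1,0; 0,-1,0,-1,0,1,0,1; 1,0,1,0,0,-1,0,1;
    -1,1,0,0,0,0,1,1; 0,0,-1,1,0,0,-1,1; 1,1,0,0,-1,1,0,0; 0,0,-1,-1,-1,-1,0,0],
  !![0,0,1,1,-1,-1,0,0; 0,0,-1,1,0,0,1,-1; -1,1,0,0,0,0,-1,-1; -1,-1,0,0,-1,1,0,0;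
    1,0,0,1,0,1,-1,0; 1,0,0,-1,-1,0,0,-1; 0,-1,1,0,1,0,0,-1; 0,1,1,0,0,1,1,0]]

theorem ok_triZ : ∀ i, okZ (triZ i) := by decide +kernel

def triU (i : Fin 8) : W := mkZ (triZ i) (ok_triZ i)

theorem triU_rel (i j : Fin 8) : (triU i * (triU j)⁻¹) ^ CoxeterMatrix.E₈ i j = 1 ∨
    (triU i * (triU j)⁻¹) ^ CoxeterMatrix.E₈ i j = neg := by
  rcases E8_cases i j with ⟨rfl, e⟩ | ⟨-, e⟩ | e <;> rw [e]
  · simp
  · have h : ∀ i j, m8 i j ≠ 2 ∨ triZ i * (triZ j)ᵀ = (-1 : ℤ) • (triZ j * (triZ i)ᵀ) := by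
      decide +kernel
    have h1 : triU i * (triU j)⁻¹ = neg * (triU j * (triU i)⁻¹) := W.ext (by
      simp only [m_mul, m_inv, triU, m_mkZ, transpose_smul, smul_mul_smul_comm, ← cz_transpose,
        ← cz_mul, (h i j).resolve_left (· e), cz_smul, m_neg]
      simp)
    right
    rw [pow_two]
    nth_rewrite 1 [h1]
    group
  · have h : ∀ i j, m8 i j ≠ 3 ∨ triZ i * (triZ j)ᵀ * triZ i = triZ j * (triZ i)ᵀ * triZ j := by
      decide +kernel
    have h1 : triU i * (triU j)⁻¹ * triU i = triU j * (triU i)⁻¹ * triU j := W.ext (by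
      simp only [m_mul, m_inv, triU, m_mkZ, transpose_smul, smul_mul_smul_comm, ← cz_transpose,
        ← cz_mul, (h i j).resolve_left (· e)])
    left
    calc (triU i * (triU j)⁻¹) ^ 3
        = triU i * (triU j)⁻¹ * triU i * ((triU j)⁻¹ * triU i * (triU j)⁻¹) := by
          simp only [pow_succ, pow_zero, one_mul, mul_assoc]
      _ = 1 := by rw [h1]; group

theorem triU_J0 : triU 0 * (triU 1)⁻¹ = J0 := by
  rw [mul_inv_eq_iff_eq_mul, J0, ep_eq (by decide +kernel), pm_eq ok_tau,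
    mkZ_mul (C := of fun i j => sg 85 i * pmZ tau i j) _ _ (by decide +kernel) (by decide +kernel)]
  exact (mkZ_mul _ _ _ (by decide +kernel)).symm

theorem jobTRI : JobTRI := by
  intro bar B
  have := B.finite
  have := simple_Om
  let r : Fin 8 → W × O8 := fun i => (sr i * sr 3, bar (triU i))
  obtain ⟨fin, hc⟩ := card_rot_le' (r := r) (Prod.ext (sr_sq 3) (by
    show bar (triU 3) = 1
    rw [show triU 3 = ep 0 from (ep_eq _).symm, ep_zero, map_one])) fun i j => Prod.ext (by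
    show (sr i * sr 3 * (sr j * sr 3)⁻¹) ^ _ = 1
    rw [_root_.mul_inv_rev, sr_inv, sr_inv, mul_assoc, ← mul_assoc (sr 3), sr_sq, one_mul]
    exact sr_lift i j) (by
    show (bar _ * (bar _)⁻¹) ^ _ = 1
    rw [← map_inv, ← map_mul, ← map_pow, B.ker]
    exact triU_rel i j)
  set H := Subgroup.closure (Set.range r)
  have hH : H ≤ W'.comap (MonoidHom.fst W O8) := (Subgroup.closure_le _).2 (by
    rintro _ ⟨i, rfl⟩; exact B.rot i 3)
  let f : H →* W' := ((MonoidHom.fst W O8).comp H.subtype).codRestrict W' fun h => hH h.2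
  have hf : Function.Surjective f := fun w => by
    obtain ⟨h, hh, e⟩ := B.le_of (K := H.map (MonoidHom.fst W O8))
      (fun i => ⟨r i, Subgroup.subset_closure ⟨i, rfl⟩, rfl⟩) w.2
    exact ⟨⟨h, hh⟩, Subtype.ext e⟩
  let ε := MulEquiv.ofBijective f (hf.bijective_of_nat_card_le (B.card' ▸ hc))
  let φ0 : W' →* O8 := ((MonoidHom.snd W O8).comp H.subtype).comp ε.symm.toMonoidHom
  let φ : W' →* Om := φ0.codRestrict Om fun x => (show φ0.range ≤ Om by
    rw [MonoidHom.range_eq_map, ← B.perfect, commutator_def, Subgroup.map_commutator]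
    exact Subgroup.commutator_mono le_top le_top) ⟨x, rfl⟩
  have h1 : φ ⟨neg, dt_neg⟩ = 1 := by
    rcases (φ.normal_ker.map B.cov B.cov_sur).eq_bot_or_eq_top with h | h
    · by_contra hn
      have := Nat.card_le_card_of_injective φ ((injective_iff_map_eq_one φ).2 fun x hx => by
        have e : B.cov x = 1 := h.le ⟨x, hx, rfl⟩
        exact ((B.ker x).1 (congrArg Subtype.val e)).elim (fun e => Subtype.ext e) fun e =>
          absurd ((Subtype.ext e : x = ⟨_, dt_neg⟩) ▸ hx) hn)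
      rw [B.card', card_Om] at this
      omega
    · exact (B.eq_top h).ge (Subgroup.mem_top _)
  obtain ⟨ψ, hψ⟩ := B.desc h1
  have d3 : dt (ep 3) = 1 := by rw [dt_ep (by norm_num), if_pos (by decide)]
  have h2 : (ψ (B.cov ⟨ep 3, d3⟩) : O8) = bar J0 := by
    have m : ∀ i, r i ∈ H := fun i => Subgroup.subset_closure ⟨i, rfl⟩
    have e : (⟨ep 3, d3⟩ : W') = ε ⟨r 0 * (r 1)⁻¹, mul_mem (m 0) (inv_mem (m 1))⟩ := Subtype.ext (by
      show ep 3 = sr 0 * sr 3 * (sr 1 * sr 3)⁻¹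
      rw [_root_.mul_inv_rev, ← mul_assoc, mul_inv_cancel_right, sr_inv, sr_zero, sr_one, ← ep_xor]
      rfl)
    rw [hψ, e, ← triU_J0, map_mul, map_inv]
    exact congrArg (fun h : H => (h : W × O8).2) (ε.symm_apply_apply _)
  have h3 : Function.Injective ψ := (MonoidHom.ker_eq_bot_iff ψ).1
    (ψ.normal_ker.eq_bot_or_eq_top.resolve_right fun h => by
      rw [show ψ _ = 1 from h.ge (Subgroup.mem_top _)] at h2
      rcases (B.ker _).1 h2.symm with e | e <;> have := J0_sq <;> rw [e] at this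
      exacts [neg_ne_one (this.symm.trans (one_mul 1)), neg_ne_one (this.symm.trans neg_sq)])
  exact ⟨MulEquiv.ofBijective ψ (Finite.injective_iff_bijective.1 h3), fun x hx => by
    rw [show x = B.cov ⟨ep 3, d3⟩ from Subtype.ext hx]; exact h2⟩

theorem Bar.eq_of_cov (B : Bar bar) {α : MulAut W'} (h : ∀ x, B.cov (α x) = B.cov x) (x : W') :
    α x = x := by
  refine (show commutator W' ≤ α.toMonoidHom.eqLocus (MonoidHom.id _) from ?_)
    (B.perfect.ge (Subgroup.mem_top x))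
  rw [commutator_def, Subgroup.commutator_le]
  intro a _ b _
  have c : ∀ a b : W, ⁅E8.neg * a, b⁆ = ⁅a, b⁆ := fun a b => by
    rw [commutatorElement_def, commutatorElement_def, _root_.mul_inv_rev,
      show E8.neg * a * b * (a⁻¹ * E8.neg⁻¹) = E8.neg * (a * b * a⁻¹) * E8.neg⁻¹ by group, neg_comm,
      mul_inv_cancel_right]
  have c' : ∀ a b : W, ⁅a, E8.neg * b⁆ = ⁅a, b⁆ := fun a b => by
    rw [← commutatorElement_inv, c, commutatorElement_inv]
  refine Subtype.ext ?_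
  show ((α ⁅a, b⁆ : W') : W) = ⁅(a : W), (b : W)⁆
  rw [map_commutatorElement]
  show ⁅((α a : W') : W), ((α b : W') : W)⁆ = _
  rcases B.cov_eq (h a) with e | e <;> rcases B.cov_eq (h b) with e' | e' <;>
    simp only [e, e', c, c']

theorem jobAUT : JobAUT := by
  rintro bar B ⟨τ, hτ⟩ α
  have := B.finite
  have : Finite (MulAut Om) := Nat.finite_of_card_ne_zero (by rw [card_aut_Om]; decide)
  let H : Subgroup (MulAut Om) :=
    { carrier := {γ | ∃ α : MulAut W', ∀ x, γ (B.cov x) = B.cov (α x)}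
      one_mem' := ⟨1, fun _ => rfl⟩
      mul_mem' := fun ⟨a, ha⟩ ⟨b, hb⟩ => ⟨a * b, fun x => by
        rw [MulAut.mul_apply, hb, ha, MulAut.mul_apply]⟩
      inv_mem' := fun {γ} ⟨a, ha⟩ => ⟨a⁻¹, fun x => γ.injective (by
        rw [ha, MulAut.apply_inv_self, MulAut.apply_inv_self])⟩ }
  have cj : ∀ (g : W) (x : W'), MulAut.conjNormal (bar g) (B.cov x) =
      B.cov (MulAut.conjNormal g x) := fun g x => Subtype.ext (by
    rw [MulAut.conjNormal_apply]
    show bar g * bar x * _ = bar _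
    rw [Subgroup.coe_subtype, MulAut.conjNormal_apply, map_mul, map_mul, map_inv])
  let c : O8 →* MulAut Om := MulAut.conjNormal
  have ci : Function.Injective c := (injective_iff_map_eq_one c).2 fun g hg => by
    obtain ⟨w, rfl⟩ := B.sur g
    refine (B.ker w).2 (cenW fun y hy => mul_inv_eq_iff_eq_mul.1 ?_)
    exact congrArg Subtype.val (B.eq_of_cov (α := MulAut.conjNormal w)
      (fun x => by rw [← cj]; exact DFunLike.congr_fun hg _) ⟨y, hy⟩)
  have le : c.range ≤ H := by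
    rintro _ ⟨g, rfl⟩
    obtain ⟨w, rfl⟩ := B.sur g
    exact ⟨_, cj w⟩
  have i3 : c.range.index = 3 := by
    have := c.range.card_mul_index
    rw [← Nat.card_congr (MonoidHom.ofInjective ci).toEquiv, card_O8, card_aut_Om] at this
    omega
  have eq : H = c.range := by
    rcases (Nat.dvd_prime Nat.prime_three).1 (i3 ▸ Subgroup.index_dvd_of_le le) with h | h
    · have d3 : dt (ep 3) = 1 := by rw [dt_ep (by norm_num), if_pos (by decide)]
      obtain ⟨a, ha⟩ := (Subgroup.index_eq_one.1 h).ge (Subgroup.mem_top τ)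
      have h1 : ((a ⟨ep 3, d3⟩ : W') : W) * a ⟨ep 3, d3⟩ = 1 := by
        rw [← Subgroup.coe_mul, ← map_mul, show (⟨ep 3, d3⟩ * ⟨ep 3, d3⟩ : W') = 1 from
          Subtype.ext (ep_sq 3), map_one]; rfl
      have h2 := hτ (B.cov ⟨ep 3, d3⟩) rfl
      rw [ha] at h2
      refine absurd ?_ neg_ne_one
      rcases B.eq_iff.1 h2 with e | e <;> rw [← J0_sq, ← h1]
      exacts [congrArg₂ _ e.symm e.symm, (neg_mul_sq' _).symm.trans (congrArg₂ _ e.symm e.symm)]
    · refine (Subgroup.eq_of_le_of_card_ge le ?_).symm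
      have h1 := H.card_mul_index
      have h2 := c.range.card_mul_index
      rw [h] at h1
      rw [i3] at h2
      omega
  have h1 : α ⟨neg, dt_neg⟩ = ⟨neg, dt_neg⟩ := by
    refine Subtype.ext ((cenW fun y hy => ?_).resolve_left fun e => neg_ne_one ?_)
    · obtain ⟨x, hx⟩ := α.surjective ⟨y, hy⟩
      have : α (⟨neg, dt_neg⟩ * x) = α (x * ⟨neg, dt_neg⟩) := congrArg α (Subtype.ext (neg_comm _))
      rw [map_mul, map_mul, hx] at this
      exact congrArg Subtype.val this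
    · exact congrArg Subtype.val (α.injective ((Subtype.ext e).trans α.map_one.symm))
  obtain ⟨ψ, hψ⟩ := B.desc (φ := B.cov.comp α.toMonoidHom) (by
    show B.cov (α _) = 1
    rw [h1]; exact Subtype.ext B.neg)
  obtain ⟨g, hg⟩ := eq.le (show MulEquiv.ofBijective ψ (Finite.surjective_iff_bijective.1 fun y => by
    obtain ⟨x, rfl⟩ := (B.cov_sur.comp α.surjective) y
    exact ⟨_, hψ x⟩) ∈ H from ⟨α, hψ⟩)
  obtain ⟨w, rfl⟩ := B.sur g
  refine ⟨w, fun x => ?_⟩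
  have := B.eq_of_cov (α := α * (MulAut.conjNormal w)⁻¹) (fun y => by
    obtain ⟨x, rfl⟩ := (MulAut.conjNormal w : MulAut W').surjective y
    rw [MulAut.mul_apply, MulAut.inv_apply_self, ← cj]
    exact ((DFunLike.congr_fun hg _).trans (hψ x)).symm) (MulAut.conjNormal w x)
  rw [MulAut.mul_apply, MulAut.inv_apply_self] at this
  rw [this, MulAut.conjNormal_apply]

end H11.E8
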