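import Cfsg.Agent.H11.FBSpec
import Cfsg.Agent.H5.FrobStruct
import Cfsg.Agent.H5.ThompsonFpf

/-! # S3404, tower FB: the Frobenius data -/

set_option autoImplicit false

namespace H11.FB

open MulAction Subgroup
open scoped Pointwise

universe u v

theorem fr_of_frob {G : Type u} [Group G] [Finite G] {L : Subgroup G} {H : Subgroup L}
    (hH : Cfsg.IsFrobeniusComplement H) :
    Fr L ((H5.frobKer hH).map L.subtype) (H.map L.subtype) := by
  have hn := H5.frobKer_normal hH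
  have hc := H5.frobKer_isComplement' hH
  have fac : ∀ l : L, ∃ k ∈ H5.frobKer hH, ∃ h ∈ H, l = k * h := fun l => by
    obtain ⟨⟨k, h⟩, e⟩ := hc.2 l
    exact ⟨k, k.2, h, h.2, e.symm⟩
  refine ⟨map_subtype_le _, map_subtype_le _, ?_, ?_, ?_, ?_, ?_, ?_, ?_, ?_, ?_, ?_⟩
  · rintro m hm _ ⟨x, hx, rfl⟩
    exact ⟨_, hn.conj_mem x hx ⟨m, hm⟩, rfl⟩
  · intro l hl
    obtain ⟨k, hk, h, hh, e⟩ := fac ⟨l, hl⟩
    exact ⟨k, ⟨k, hk, rfl⟩, h, ⟨h, hh, rfl⟩, congrArg Subtype.val e⟩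
  · intro l hl h1
    have h2 : (⟨l, hl⟩ : L) ∉ Cfsg.frobeniusKernel H := fun e =>
      h1 ⟨_, (H5.mem_frobKer hH _).2 e, rfl⟩
    simp only [Cfsg.frobeniusKernel, Set.mem_ofPred_eq, not_or, not_forall, not_not] at h2
    obtain ⟨-, g, hg⟩ := h2
    rw [mem_pointwise_smul_iff_inv_smul_mem] at hg
    obtain ⟨k, hk, h, hh, rfl⟩ := fac g
    refine ⟨k⁻¹, ⟨k⁻¹, inv_mem hk, rfl⟩, k⁻¹ * ⟨l, hl⟩ * k, ?_, by simp⟩
    have := H.mul_mem (H.mul_mem hh hg) (H.inv_mem hh)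
    convert this using 1
    simp [mul_assoc]
  · rintro _ ⟨k, hk, rfl⟩ k1 l hl e
    refine ⟨⟨l, hl⟩, H5.centralizer_le_frobKer hH hk (fun e => k1 (by simp [e])) ?_, rfl⟩
    exact mem_centralizer_singleton_iff.2 (Subtype.ext e)
  · rintro _ ⟨h, hh, rfl⟩ h1 l hl ⟨y, hy, e⟩
    refine ⟨⟨l, hl⟩, H5.frob_mem_of_conj_mem hH hh (fun e => h1 (by simp [e])) ?_, rfl⟩
    have e' : (⟨l, hl⟩ : L) * h * (⟨l, hl⟩ : L)⁻¹ = y := Subtype.ext e.symm
    exact e' ▸ hy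
  · rintro _ ⟨k, hk, rfl⟩ ⟨h, hh, e⟩
    obtain rfl : h = k := Subtype.ext e
    have := (disjoint_def.1 hc.disjoint) hk hh
    simp [this]
  · exact fun e => H5.frobKer_ne_bot hH ((map_eq_bot_iff_of_injective _ L.subtype_injective).1 e)
  · exact fun e => hH.1 ((map_eq_bot_iff_of_injective _ L.subtype_injective).1 e)
  · have := H5.frobKer_isNilpotent hH
    exact Group.nilpotent_of_mulEquiv (equivMapOfInjective _ _ L.subtype_injective)
  · rw [card_map_of_injective L.subtype_injective, card_map_of_injective L.subtype_injective]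
    exact H5.frobKer_coprime hH

/-- the embedding `Fin 4 ↪ Ω` of four distinct points -/
def emb4 {Ω : Type v} {a b c d : Ω} (h : D4 a b c d) : Fin 4 ↪ Ω :=
  ⟨![a, b, c, d], by
    obtain ⟨h1, h2, h3, h4, h5, h6⟩ := h
    intro i j e
    fin_cases i <;> fin_cases j <;> simp_all [eq_comm]⟩

theorem t4_of_four {G : Type u} {Ω : Type v} [Group G] [MulAction G Ω]
    (h : IsMultiplyPretransitive G Ω 4) : T4 (⊤ : Subgroup G) (Set.univ : Set Ω) := by
  intro a b c d a' b' c' d' h1 h2 _ _ _ _ _ _ _ _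
  obtain ⟨g, e⟩ := h.exists_smul_eq (emb4 h1) (emb4 h2)
  have k : ∀ i, g • emb4 h1 i = emb4 h2 i := fun i => DFunLike.congr_fun e i
  exact ⟨g, trivial, k 0, k 1, k 2, k 3⟩

theorem jobFR : JobFR.{u, v} := by
  intro G Ω _ _ _ _ h4 a b c d hn ⟨H, hH⟩
  exact ⟨_, _, h4, t4_of_four h4, hn, fr_of_frob hH⟩

end H11.FB
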