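import Cfsg.Agent.Base
import Mathlib.GroupTheory.GroupAction.MultipleTransitivity
import Mathlib.GroupTheory.SpecificGroups.Alternating
import Mathlib.GroupTheory.Nilpotent
import Mathlib.GroupTheory.Sylow
import Mathlib.Data.Set.Card
import Mathlib.Data.Matrix.Mul
import Cfsg.Prelude.Def_Solvable
import Cfsg.Prelude.Def_Spor_Mathieu

/-!
# S3404 (4-transitive, Frobenius four-point stabiliser): specification of the tower FB

Proofs of the jobs: `blueprints/FB.md`.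
-/

set_option autoImplicit false

namespace H11.FB

open MulAction Subgroup

universe u v

section Defs

variable {G : Type u} {Ω : Type v} [Group G] [MulAction G Ω]

/-- `G_{abcd}` -/
abbrev L4 (G : Type u) [Group G] [MulAction G Ω] (a b c d : Ω) : Subgroup G :=
  stabilizer G a ⊓ stabilizer G b ⊓ stabilizer G c ⊓ stabilizer G d

/-- `G_{abc}` -/
abbrev X3 (G : Type u) [Group G] [MulAction G Ω] (a b c : Ω) : Subgroup G :=
  stabilizer G a ⊓ stabilizer G b ⊓ stabilizer G c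

/-- `G_{ab}` -/
abbrev Y2 (G : Type u) [Group G] [MulAction G Ω] (a b : Ω) : Subgroup G :=
  stabilizer G a ⊓ stabilizer G b

/-- four distinct points -/
def D4 (a b c d : Ω) : Prop := a ≠ b ∧ a ≠ c ∧ a ≠ d ∧ b ≠ c ∧ b ≠ d ∧ c ≠ d

/-- `N` is 4-transitive on the set `S` (element form) -/
def T4 (N : Subgroup G) (S : Set Ω) : Prop :=
  ∀ a b c d a' b' c' d' : Ω, D4 a b c d → D4 a' b' c' d' → a ∈ S → b ∈ S → c ∈ S → d ∈ S →
    a' ∈ S → b' ∈ S → c' ∈ S → d' ∈ S → ∃ g ∈ N, g • a = a' ∧ g • b = b' ∧ g • c = c' ∧ g • d = d'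

/-- `M` normalises `N` (element form) -/
def Nm (M N : Subgroup G) : Prop := ∀ m ∈ M, ∀ x ∈ N, m * x * m⁻¹ ∈ N

/-- conjugate subgroup `g U g⁻¹` -/
abbrev cj (g : G) (U : Subgroup G) : Subgroup G := U.map (MulAut.conj g).toMonoidHom

/-- `L` is a Frobenius group with kernel `K` and complement `H` -/
structure Fr (L K H : Subgroup G) : Prop where
  Kle : K ≤ L
  Hle : H ≤ L
  Kn : Nm L K
  fac : ∀ l ∈ L, ∃ k ∈ K, ∃ h ∈ H, l = k * h
  cjH : ∀ l ∈ L, l ∉ K → ∃ k ∈ K, k * l * k⁻¹ ∈ H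
  cenK : ∀ k ∈ K, k ≠ 1 → ∀ l ∈ L, l * k = k * l → l ∈ K
  cenH : ∀ h ∈ H, h ≠ 1 → ∀ l ∈ L, l * h * l⁻¹ ∈ H → l ∈ H
  disj : ∀ x ∈ K, x ∈ H → x = 1
  Kne : K ≠ ⊥
  Hne : H ≠ ⊥
  nil : Group.IsNilpotent K
  cop : (Nat.card K).Coprime (Nat.card H)

/-- the hypothesis of S3404 -/
structure Hy (a b c d : Ω) (K H : Subgroup G) : Prop where
  four : IsMultiplyPretransitive G Ω 4
  tr : T4 (⊤ : Subgroup G) (Set.univ : Set Ω)
  ne : D4 a b c d
  fr : Fr (L4 G a b c d) K H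

/-- order facts (`n = Fintype.card Ω`) -/
structure Cd [Fintype Ω] (a b c d : Ω) (K H : Subgroup G) : Prop where
  seven : 7 ≤ Fintype.card Ω
  cL : Nat.card (L4 G a b c d) = Nat.card K * Nat.card H
  cX : Nat.card (X3 G a b c) = (Fintype.card Ω - 3) * Nat.card (L4 G a b c d)
  cG : Nat.card G = Fintype.card Ω * (Fintype.card Ω - 1) * (Fintype.card Ω - 2) *
    Nat.card (X3 G a b c)
  /-- an `H`-invariant subgroup of `K` has order `≡ 1 mod |H|` -/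
  md : ∀ U : Subgroup G, U ≤ K → Nm H U → Nat.card H ∣ Nat.card U - 1

/-- the conclusion of S3404 -/
def Concl (G : Type u) [Group G] : Prop :=
  Nonempty (G ≃* Equiv.Perm (Fin 7)) ∨ Nonempty (G ≃* ↥(alternatingGroup (Fin 8))) ∨
    Cfsg.Spor.IsoM23 G

/-- case A data: the involution `t` of `H` -/
structure Ea (L K H : Subgroup G) (t : G) : Prop where
  mem : t ∈ H
  ne : t ≠ 1
  sq : t * t = 1
  inv : ∀ k ∈ K, t * k * t⁻¹ = k⁻¹
  odd : Odd (Nat.card K)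
  /-- every involution of `L` is `K`-conjugate to `t` -/
  cjt : ∀ x ∈ L, x ≠ 1 → x * x = 1 → ∃ k ∈ K, k * x * k⁻¹ = t
  /-- commuting involutions of `L` are equal -/
  hf : ∀ x ∈ L, ∀ y ∈ L, x ≠ 1 → x * x = 1 → y ≠ 1 → y * y = 1 → x * y = y * x → x = y

/-- `N` is a regular normal subgroup of `M` on `S` -/
def RegN (M : Subgroup G) (S : Set Ω) (N : Subgroup G) : Prop :=
  N ≤ M ∧ Nm M N ∧ (∀ x ∈ S, ∀ y ∈ S, ∃ g ∈ N, g • x = y) ∧ ∀ x ∈ S, ∀ g ∈ N, g • x = x → g = 1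

/-- output of the refined S3120 for `M` acting on `S` -/
def OdOut (M : Subgroup G) (S : Set Ω) : Prop :=
  (∃ N, RegN M S N) ∨ ∃ J : Subgroup G, J ≤ M ∧ J ≠ ⊥ ∧ Nm M J ∧
    (∀ N : Subgroup G, N ≤ M → Nm M N → N ≠ ⊥ → J ≤ N) ∧
    ((∀ a ∈ S, ∃ Q : Subgroup G, IsPGroup 2 Q ∧
        (∀ x, x ∈ Q ↔ x ∈ J ∧ x • a = a ∧ ∃ k : ℕ, x ^ 2 ^ k = 1) ∧
        (∀ x ∈ S, ∀ y ∈ S, x ≠ a → y ≠ a → ∃ g ∈ Q, g • x = y) ∧
        (∀ x ∈ S, x ≠ a → ∀ g ∈ Q, g • x = x → g = 1)) ∨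
      (S.ncard = 11 ∧ (Nat.card J = 660 ∨ Nat.card J = 7920)))

/-- structure of a Frobenius complement of odd order -/
structure Fh (H : Subgroup G) : Prop where
  nrm : ∀ h ∈ H, (orderOf h).Prime → ∀ x ∈ H, x * h * x⁻¹ ∈ zpowers h
  uniq : ∀ h ∈ H, ∀ h' ∈ H, (orderOf h).Prime → orderOf h' = orderOf h → h' ∈ zpowers h
  cyc : ∀ p : ℕ, p.Prime → ∀ R : Subgroup G, R ≤ H → IsPGroup p R → IsCyclic R
  cen : ∀ h ∈ H, orderOf h = (Nat.card H).minFac → ∀ x ∈ H, x * h = h * x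

/-- the action of `N_G(U)` on the fixed points of `U`, as S4221 describes it -/
def Typ [Fintype Ω] [DecidableEq Ω] (U : Subgroup G) : Prop :=
  ∃ (S : Finset Ω) (π : normalizer (U : Set G) →* Equiv.Perm S), (S : Set Ω) = fixedPoints U Ω ∧
    (∀ g x, ((π g x : S) : Ω) = (g : G) • (x : Ω)) ∧ T4 (normalizer (U : Set G)) (S : Set Ω) ∧
    (((S.card = 4 ∨ S.card = 5) ∧ π.range = ⊤) ∨
      ((S.card = 6 ∨ S.card = 7) ∧ π.range = alternatingGroup S) ∨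
      (S.card = 11 ∧ Nat.card π.range = 7920))

/-- consequences of `Typ U`, part 1 (`S = fixedPoints U Ω`, `N = N_G(U)`) -/
structure Ty1 (a b c d : Ω) (U : Subgroup G) : Prop where
  card : (fixedPoints U Ω).ncard = 4 ∨ (fixedPoints U Ω).ncard = 5 ∨ (fixedPoints U Ω).ncard = 6 ∨
    (fixedPoints U Ω).ncard = 7 ∨ (fixedPoints U Ω).ncard = 11
  tr : T4 (normalizer (U : Set G)) (fixedPoints U Ω)
  sharp : (fixedPoints U Ω).ncard ≠ 7 → ∀ g ∈ normalizer (U : Set G), g ∈ L4 G a b c d →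
    ∀ ω ∈ fixedPoints U Ω, g • ω = ω
  sev : (fixedPoints U Ω).ncard = 7 → ∃ g ∈ normalizer (U : Set G), g ∈ L4 G a b c d ∧
    ∀ ω ∈ fixedPoints U Ω, g • ω = ω → ω = a ∨ ω = b ∨ ω = c ∨ ω = d
  comm : ∀ g ∈ normalizer (U : Set G), g ∈ L4 G a b c d → ∀ g' ∈ normalizer (U : Set G),
    g' ∈ L4 G a b c d → ∀ ω ∈ fixedPoints U Ω, (g * g') • ω = (g' * g) • ω

/-- consequences of `Typ U`, part 2 -/
structure Ty2 [Fintype Ω] [DecidableEq Ω] (U : Subgroup G) (_a : Ω) : Prop where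
  simp : (fixedPoints U Ω).ncard = 6 ∨ (fixedPoints U Ω).ncard = 7 ∨ (fixedPoints U Ω).ncard = 11 →
    ∀ M : Subgroup G, M ≤ normalizer (U : Set G) → Nm (normalizer (U : Set G)) M →
      (∀ m ∈ M, ∀ ω ∈ fixedPoints U Ω, m • ω = ω) ∨
        ∀ g ∈ normalizer (U : Set G), ∃ m ∈ M, ∀ ω ∈ fixedPoints U Ω, m • ω = g • ω
  alt : (fixedPoints U Ω).ncard = 6 ∨ (fixedPoints U Ω).ncard = 7 → ∀ σ : Equiv.Perm Ω,
    Equiv.Perm.sign σ = 1 → (∀ ω, ω ∉ fixedPoints U Ω → σ ω = ω) →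
      ∃ g ∈ normalizer (U : Set G), ∀ ω ∈ fixedPoints U Ω, g • ω = σ ω

/-- facts on `h ∈ H` of prime order, part 1 (`θ = (fixedBy Ω h).ncard`) -/
structure Th1 (a b c d : Ω) (H : Subgroup G) (h : G) : Prop where
  card : (fixedBy Ω h).ncard = 4 ∨ (fixedBy Ω h).ncard = 5 ∨ (fixedBy Ω h).ncard = 6 ∨
    (fixedBy Ω h).ncard = 7 ∨ (fixedBy Ω h).ncard = 11
  tr : T4 (normalizer (zpowers h : Set G)) (fixedBy Ω h)
  nl : ∀ g ∈ L4 G a b c d, g ∈ normalizer (zpowers h : Set G) ↔ g ∈ H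
  fixH : (fixedBy Ω h).ncard ≠ 7 → ∀ x ∈ H, ∀ ω ∈ fixedBy Ω h, x • ω = ω
  seven : (fixedBy Ω h).ncard = 7 →
    ∃ x ∈ H, ∀ ω ∈ fixedBy Ω h, x • ω = ω → ω = a ∨ ω = b ∨ ω = c ∨ ω = d
  cardX : Nat.card (normalizer (zpowers h : Set G) ⊓ X3 G a b c : Subgroup G) =
    ((fixedBy Ω h).ncard - 3) * Nat.card H

/-- facts on `h ∈ H` of prime order, part 2 -/
structure Th2 [Fintype Ω] [DecidableEq Ω] (H : Subgroup G) (h : G) : Prop where
  perf : (fixedBy Ω h).ncard = 6 ∨ (fixedBy Ω h).ncard = 7 ∨ (fixedBy Ω h).ncard = 11 →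
    (∀ x ∈ H, x * h = h * x) → ∀ g ∈ normalizer (zpowers h : Set G), g * h = h * g
  alt : (fixedBy Ω h).ncard = 6 ∨ (fixedBy Ω h).ncard = 7 → ∀ σ : Equiv.Perm Ω,
    Equiv.Perm.sign σ = 1 → (∀ ω, ω ∉ fixedBy Ω h → σ ω = ω) →
      ∃ g ∈ normalizer (zpowers h : Set G), ∀ ω ∈ fixedBy Ω h, g • ω = σ ω

/-- `P` is the (normal, nontrivial) Sylow 2-subgroup of `L` -/
structure Pd (L K P : Subgroup G) : Prop where
  le : P ≤ K
  pg : IsPGroup 2 P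
  ne : P ≠ ⊥
  all : ∀ g ∈ L, ∀ k : ℕ, g ^ 2 ^ k = 1 → g ∈ P

/-- block facts, part 1 (`Φ = fixedPoints P Ω`, `φ = Φ.ncard`) -/
structure Ph1 [Fintype Ω] (a b c d : Ω) (K H P : Subgroup G) : Prop where
  card : (fixedPoints P Ω).ncard = 4 ∨ (fixedPoints P Ω).ncard = 5 ∨ (fixedPoints P Ω).ncard = 6 ∨
    (fixedPoints P Ω).ncard = 7 ∨ (fixedPoints P Ω).ncard = 11
  par : (fixedPoints P Ω).ncard % 2 = Fintype.card Ω % 2
  fixL : (fixedPoints P Ω).ncard ≠ 7 → ∀ l ∈ L4 G a b c d, ∀ ω ∈ fixedPoints P Ω, l • ω = ω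
  fixK : ∀ k ∈ K, ∀ ω ∈ fixedPoints P Ω, k • ω = ω
  fixC : (fixedPoints P Ω).ncard = 7 → ∀ g : G, (∀ x ∈ P, g * x = x * g) →
    ∀ ω ∈ fixedPoints P Ω, g • ω = ω
  movH : (fixedPoints P Ω).ncard = 7 →
    ∃ x ∈ H, ∀ ω ∈ fixedPoints P Ω, x • ω = ω → ω = a ∨ ω = b ∨ ω = c ∨ ω = d

/-- block facts, part 2 -/
structure Ph2 [Fintype Ω] (P : Subgroup G) (_a : Ω) : Prop where
  od7 : Odd (Fintype.card Ω) → (fixedPoints P Ω).ncard = 7
  od4 : Odd (Fintype.card Ω) → 4 ∣ Fintype.card Ω - 3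

/-- the context of case B -/
structure Cx [Fintype Ω] [DecidableEq Ω] (a b c d : Ω) (K H P : Subgroup G) : Prop where
  hy : Hy a b c d K H
  cd : Cd a b c d K H
  odd : Odd (Nat.card H)
  fh : Fh H
  pd : Pd (L4 G a b c d) K P
  ph1 : Ph1 a b c d K H P
  ph2 : Ph2 P a
  th1 : ∀ h ∈ H, (orderOf h).Prime → Th1 a b c d H h
  th2 : ∀ h ∈ H, (orderOf h).Prime → Th2 (Ω := Ω) H h

/-- a projective model of `Ω - {a, b}` in which `G_{ab}` contains every transvection, as a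
`p`-element -/
structure PM (G : Type u) [Group G] [MulAction G Ω] (a b : Ω) (p : ℕ) {F : Type} [Field F] {n : ℕ}
    (ρ : Ω → Fin n → F) : Prop where
  ne0 : ∀ x, x ≠ a → x ≠ b → ρ x ≠ 0
  surj : ∀ w : Fin n → F, w ≠ 0 → ∃ x, x ≠ a ∧ x ≠ b ∧ ∃ c : F, c • ρ x = w
  inj : ∀ x y, x ≠ a → x ≠ b → y ≠ a → y ≠ b → ∀ c : F, c • ρ x = ρ y → x = y
  tv : ∀ x, x ≠ a → x ≠ b → ∀ f : Fin n → F, f ⬝ᵥ ρ x = 0 → ∃ t ∈ Y2 G a b, (∃ k : ℕ, t ^ p ^ k = 1) ∧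
    ∀ y, y ≠ a → y ≠ b → ∃ c : F, c • ρ (t • y) = ρ y + (f ⬝ᵥ ρ y) • ρ x

/-- `z` is a central involution of `P` -/
def ZI (P : Subgroup G) (z : G) : Prop := z ∈ P ∧ z ≠ 1 ∧ z * z = 1 ∧ ∀ x ∈ P, x * z = z * x

/-- `X` has no nontrivial normal `p`-subgroup -/
def NoP (X : Subgroup G) (p : ℕ) : Prop :=
  ∀ O : Subgroup G, O ≤ X → Nm X O → IsPGroup p O → O = ⊥

/-- `X₁` is a normal `p`-complement of `X` -/
structure Cpl (X X₁ : Subgroup G) (p : ℕ) : Prop where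
  le : X₁ ≤ X
  nm : Nm X X₁
  cop : (Nat.card X₁).Coprime p
  all : ∀ x ∈ X, (orderOf x).Coprime p → x ∈ X₁
  pw : ∀ x ∈ X, ∃ k : ℕ, x ^ p ^ k ∈ X₁

end Defs

/-! ## Kit -/

section Kit

variable {G : Type u} {Ω : Type v} [Group G] [MulAction G Ω]

theorem mem_L4 {a b c d : Ω} {g : G} :
    g ∈ L4 G a b c d ↔ g • a = a ∧ g • b = b ∧ g • c = c ∧ g • d = d := by
  simp only [mem_inf, mem_stabilizer_iff, and_assoc]

theorem mem_X3 {a b c : Ω} {g : G} : g ∈ X3 G a b c ↔ g • a = a ∧ g • b = b ∧ g • c = c := by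
  simp only [mem_inf, mem_stabilizer_iff, and_assoc]

theorem mem_Y2 {a b : Ω} {g : G} : g ∈ Y2 G a b ↔ g • a = a ∧ g • b = b := by
  simp only [mem_inf, mem_stabilizer_iff]

theorem mem_cj {g x : G} {U : Subgroup G} : x ∈ cj g U ↔ g⁻¹ * x * g ∈ U := by
  constructor
  · rintro ⟨y, hy, rfl⟩
    simpa [mul_assoc] using hy
  · intro h
    exact ⟨_, h, by simp [mul_assoc]⟩

theorem conj_mem_cj {g x : G} {U : Subgroup G} (h : x ∈ U) : g * x * g⁻¹ ∈ cj g U :=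
  mem_cj.2 (by simpa [mul_assoc] using h)

theorem card_cj (g : G) (U : Subgroup G) : Nat.card (cj g U) = Nat.card U :=
  card_map_of_injective (MulAut.conj g).injective

theorem conj_smul_iff {g x : G} {a : Ω} : (g⁻¹ * x * g) • a = a ↔ x • g • a = g • a := by
  rw [mul_smul, mul_smul, inv_smul_eq_iff]

theorem L4_smul (g : G) (a b c d : Ω) :
    L4 G (g • a) (g • b) (g • c) (g • d) = cj g (L4 G a b c d) := by
  ext x
  rw [mem_cj, mem_L4, mem_L4]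
  simp only [conj_smul_iff]

theorem X3_smul (g : G) (a b c : Ω) : X3 G (g • a) (g • b) (g • c) = cj g (X3 G a b c) := by
  ext x
  rw [mem_cj, mem_X3, mem_X3]
  simp only [conj_smul_iff]

theorem D4.smul {a b c d : Ω} (h : D4 a b c d) (g : G) : D4 (g • a) (g • b) (g • c) (g • d) := by
  obtain ⟨h1, h2, h3, h4, h5, h6⟩ := h
  have i := MulAction.injective (β := Ω) g
  exact ⟨i.ne h1, i.ne h2, i.ne h3, i.ne h4, i.ne h5, i.ne h6⟩

theorem Nm.cj {M N : Subgroup G} (h : Nm M N) (g : G) : Nm (cj g M) (cj g N) := by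
  intro m hm x hx
  rw [mem_cj] at *
  have := h _ hm _ hx
  convert this using 1
  group

theorem Nm.le_normalizer [Finite G] {M N : Subgroup G} (h : Nm M N) :
    M ≤ normalizer (N : Set G) := fun m hm => mem_normalizer_fintype (h m hm)

theorem Fr.cj {L K H : Subgroup G} (f : Fr L K H) (g : G) : Fr (cj g L) (cj g K) (cj g H) where
  Kle := map_mono f.Kle
  Hle := map_mono f.Hle
  Kn := f.Kn.cj g
  fac := by
    rintro _ ⟨l, hl, rfl⟩
    obtain ⟨k, hk, h, hh, rfl⟩ := f.fac l hl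
    exact ⟨_, conj_mem_cj hk, _, conj_mem_cj hh, by simp [mul_assoc]⟩
  cjH := by
    rintro _ ⟨l, hl, rfl⟩ hn
    obtain ⟨k, hk, h⟩ := f.cjH l hl fun e => hn ⟨l, e, rfl⟩
    refine ⟨_, conj_mem_cj (g := g) hk, mem_cj.2 ?_⟩
    convert h using 1
    simp [mul_assoc]
  cenK := by
    rintro _ ⟨k, hk, rfl⟩ k1 _ ⟨l, hl, rfl⟩ e
    refine ⟨l, f.cenK k hk (fun e => k1 (by simp [e])) l hl ?_, rfl⟩
    apply (MulAut.conj g).injective
    rw [map_mul, map_mul]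
    exact e
  cenH := by
    rintro _ ⟨h, hh, rfl⟩ h1 _ ⟨l, hl, rfl⟩ e
    refine ⟨l, f.cenH h hh (fun e => h1 (by simp [e])) l hl ?_, rfl⟩
    have := mem_cj.1 e
    convert this using 1
    simp [mul_assoc]
  disj := by
    intro x hx hx'
    have := f.disj _ (mem_cj.1 hx) (mem_cj.1 hx')
    calc x = g * (g⁻¹ * x * g) * g⁻¹ := by group
      _ = 1 := by rw [this]; group
  Kne := fun e => f.Kne ((map_eq_bot_iff_of_injective _ (MulAut.conj g).injective).1 e)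
  Hne := fun e => f.Hne ((map_eq_bot_iff_of_injective _ (MulAut.conj g).injective).1 e)
  nil := by
    have := f.nil
    exact Group.nilpotent_of_mulEquiv (K.equivMapOfInjective _ (MulAut.conj g).injective)
  cop := by rw [card_cj, card_cj]; exact f.cop

theorem Hy.cj {a b c d : Ω} {K H : Subgroup G} (h : Hy a b c d K H) (g : G) :
    Hy (g • a) (g • b) (g • c) (g • d) (cj g K) (cj g H) :=
  ⟨h.four, h.tr, h.ne.smul g, L4_smul g a b c d ▸ h.fr.cj g⟩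

/-- 4-transitivity of `G`, element form -/
theorem Hy.exists_smul {a b c d : Ω} {K H : Subgroup G} (h : Hy a b c d K H) {x y z w x' y' z' w' : Ω}
    (h1 : D4 x y z w) (h2 : D4 x' y' z' w') :
    ∃ g : G, g • x = x' ∧ g • y = y' ∧ g • z = z' ∧ g • w = w' := by
  obtain ⟨g, -, e⟩ := h.tr x y z w x' y' z' w' h1 h2 trivial trivial trivial trivial trivial trivial
    trivial trivial
  exact ⟨g, e⟩

theorem Pd.cj {L K P : Subgroup G} (h : Pd L K P) (g : G) : Pd (cj g L) (cj g K) (cj g P) where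
  le := map_mono h.le
  pg := h.pg.map _
  ne := fun e => h.ne ((map_eq_bot_iff_of_injective _ (MulAut.conj g).injective).1 e)
  all := by
    rintro _ ⟨l, hl, rfl⟩ k e
    refine ⟨l, h.all l hl k ?_, rfl⟩
    apply (MulAut.conj g).injective
    rw [map_pow, map_one]
    exact e

/-- anything normalising `L` normalises `P` -/
theorem Pd.conj_mem {L K H P : Subgroup G} (h : Pd L K P) (f : Fr L K H) {g : G}
    (hg : ∀ l ∈ L, g * l * g⁻¹ ∈ L) {x : G} (hx : x ∈ P) : g * x * g⁻¹ ∈ P := by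
  obtain ⟨k, e⟩ := h.pg ⟨x, hx⟩
  refine h.all _ (hg x (f.Kle (h.le hx))) k ?_
  have e' : x ^ 2 ^ k = 1 := congrArg Subtype.val e
  rw [conj_pow, e', mul_one, mul_inv_cancel]

/-- `H` acts fixed-point-freely on `K` -/
theorem Fr.fpf {L K H : Subgroup G} (f : Fr L K H) {h k : G} (hh : h ∈ H) (h1 : h ≠ 1) (hk : k ∈ K)
    (e : h * k = k * h) : k = 1 := by
  by_contra k1
  exact h1 (f.disj h (f.cenK k hk k1 h (f.Hle hh) e) hh)

/-- so does every element of `L` outside `K` -/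
theorem Fr.fpf' {L K H : Subgroup G} (f : Fr L K H) {l k : G} (hl : l ∈ L) (h1 : l ∉ K) (hk : k ∈ K)
    (e : l * k = k * l) : k = 1 := by
  by_contra k1
  exact h1 (f.cenK k hk k1 l hl e)

/-- elements of `L` outside `K` have order dividing `|H|` -/
theorem Fr.order_dvd [Finite G] {L K H : Subgroup G} (f : Fr L K H) {l : G} (hl : l ∈ L)
    (h1 : l ∉ K) : orderOf l ∣ Nat.card H := by
  obtain ⟨k, -, h⟩ := f.cjH l hl h1
  have := orderOf_dvd_natCard H h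
  rwa [show k * l * k⁻¹ = MulAut.conj k l from rfl, MulEquiv.orderOf_eq] at this

/-- an element of `L` of order prime to `|H|` lies in `K` -/
theorem Fr.mem_K [Finite G] {L K H : Subgroup G} (f : Fr L K H) {l : G} (hl : l ∈ L)
    (hc : (orderOf l).Coprime (Nat.card H)) : l ∈ K := by
  by_contra h1
  have := Nat.eq_one_of_self_dvd_coprime' (f.order_dvd hl h1) hc
  exact h1 (orderOf_eq_one_iff.1 this ▸ K.one_mem)
where Nat.eq_one_of_self_dvd_coprime' {a b : ℕ} (h : a ∣ b) (hc : a.Coprime b) : a = 1 :=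
  Nat.Coprime.eq_one_of_dvd hc h

/-- an element of `L` of order prime to `|K|` is `1` or outside `K` -/
theorem Fr.not_mem_K [Finite G] {L K H : Subgroup G} (_f : Fr L K H) {l : G} (l1 : l ≠ 1)
    (hc : (orderOf l).Coprime (Nat.card K)) : l ∉ K := fun h =>
  l1 (orderOf_eq_one_iff.1 (hc.eq_one_of_dvd (orderOf_dvd_natCard K h)))

/-- a normal `p`-subgroup of `L` lies in `K` -/
theorem Fr.pgroup_le [Finite G] {L K H U : Subgroup G} (f : Fr L K H) {p : ℕ} (hp : p.Prime)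
    (hU : U ≤ L) (hn : Nm L U) (hpg : IsPGroup p U) : U ≤ K := by
  intro x hx
  by_contra h1
  have : Fact p.Prime := ⟨hp⟩
  obtain ⟨n, hn'⟩ := (IsPGroup.iff_orderOf.1 hpg) ⟨x, hx⟩
  rw [← orderOf_coe] at hn'
  have hx1 : x ≠ 1 := fun e => h1 (e ▸ K.one_mem)
  have hn0 : n ≠ 0 := by
    rintro rfl
    exact hx1 (orderOf_eq_one_iff.1 (by simpa using hn'))
  have hpH : p ∣ Nat.card H := (dvd_pow_self p hn0).trans (hn' ▸ f.order_dvd (hU hx) h1)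
  obtain ⟨k, hk, k1⟩ := (K.bot_or_exists_ne_one).resolve_left f.Kne
  have m1 : k * x * k⁻¹ * x⁻¹ ∈ U := U.mul_mem (hn k (f.Kle hk) x hx) (U.inv_mem hx)
  have m2 : k * x * k⁻¹ * x⁻¹ ∈ K := by
    have := K.mul_mem hk (f.Kn x (hU hx) _ (K.inv_mem hk))
    simpa [mul_assoc] using this
  obtain ⟨m, hm⟩ := (IsPGroup.iff_orderOf.1 hpg) ⟨_, m1⟩
  rw [← orderOf_coe] at hm
  have hd : p ^ m ∣ Nat.card K := hm ▸ orderOf_dvd_natCard K m2
  have : p ^ m = 1 := Nat.Coprime.eq_one_of_dvd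
    (Nat.Coprime.pow_left m (Nat.Coprime.coprime_dvd_left hpH f.cop.symm)) hd
  have e : k * x * k⁻¹ * x⁻¹ = 1 := orderOf_eq_one_iff.1 (hm.trans this)
  refine k1 (f.fpf' (hU hx) h1 hk ?_)
  calc x * k = (k * x * k⁻¹ * x⁻¹) * x * k := by rw [e, one_mul]
    _ = k * x := by group

/-- every element of an `h`-invariant subgroup `U` on which `h` has no fixed point is a commutator
`x * (h * x⁻¹ * h⁻¹)`, `x ∈ U` -/
theorem exists_comm [Finite G] {U : Subgroup G} {h : G} (hn : ∀ x ∈ U, h * x * h⁻¹ ∈ U)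
    (hf : ∀ x ∈ U, h * x = x * h → x = 1) {y : G} (hy : y ∈ U) :
    ∃ x ∈ U, y = x * (h * x⁻¹ * h⁻¹) := by
  let F : U → U := fun x => ⟨x * (h * (x : G)⁻¹ * h⁻¹), U.mul_mem x.2 (hn _ (U.inv_mem x.2))⟩
  have hi : Function.Injective F := fun x z e => by
    have e' : (x : G) * (h * (x : G)⁻¹ * h⁻¹) = z * (h * (z : G)⁻¹ * h⁻¹) := congrArg Subtype.val e
    have := hf ((z : G)⁻¹ * x) (U.mul_mem (U.inv_mem z.2) x.2) (by
      calc h * ((z : G)⁻¹ * x) = (z : G)⁻¹ * (z * (h * (z : G)⁻¹ * h⁻¹)) * h * x := by group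
        _ = (z : G)⁻¹ * (x * (h * (x : G)⁻¹ * h⁻¹)) * h * x := by rw [e']
        _ = (z : G)⁻¹ * x * h := by group)
    exact Subtype.ext (inv_mul_eq_one.1 this).symm
  obtain ⟨x, e⟩ := (Finite.injective_iff_surjective.1 hi) ⟨y, hy⟩
  exact ⟨x, x.2, (congrArg Subtype.val e).symm⟩

end Kit

/-! ## Jobs -/

/-- FR: the Frobenius data. -/
def JobFR : Prop := ∀ {G : Type u} {Ω : Type v} [Group G] [Finite G] [Fintype Ω] [MulAction G Ω],
  IsMultiplyPretransitive G Ω 4 → ∀ a b c d : Ω, D4 a b c d →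
    (∃ H : Subgroup (L4 G a b c d), Cfsg.IsFrobeniusComplement H) →
    ∃ K H : Subgroup G, Hy a b c d K H

/-- CD: the order facts. -/
def JobCD : Prop := ∀ {G : Type u} {Ω : Type v} [Group G] [Finite G] [Fintype Ω] [MulAction G Ω]
  [FaithfulSMul G Ω] {a b c d : Ω} {K H : Subgroup G}, Hy a b c d K H → Cd a b c d K H

/-- FA: the involution of a complement of even order. -/
def JobFA : Prop := ∀ {G : Type u} [Group G] [Finite G] {L K H : Subgroup G}, Fr L K H →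
  Even (Nat.card H) → ∃ t, Ea L K H t

/-- FH: complements of odd order. -/
def JobFH : Prop := ∀ {G : Type u} [Group G] [Finite G] {L K H : Subgroup G}, Fr L K H →
  Odd (Nat.card H) → Fh H

/-- FP: the Sylow 2-subgroup of `L` in case B (`|L|` odd is excluded by S4221). -/
def JobFP : Prop := ∀ {G : Type u} {Ω : Type v} [Group G] [Finite G] [Fintype Ω] [DecidableEq Ω]
  [MulAction G Ω] [FaithfulSMul G Ω] {a b c d : Ω} {K H : Subgroup G}, Hy a b c d K H →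
    Cd a b c d K H → Odd (Nat.card H) → ∃ P, Pd (L4 G a b c d) K P

/-- OD: refined S3120, plain form. -/
def JobOD : Prop := ∀ {G : Type u} {Ω : Type v} [Group G] [Finite G] [Finite Ω] [MulAction G Ω]
  [FaithfulSMul G Ω], Odd (Nat.card Ω) →
    (∀ a b c d : Ω, a ≠ b → c ≠ d → ∃ g : G, g • a = c ∧ g • b = d) → ∀ a b : Ω, a ≠ b →
    (∀ x ∈ Y2 G a b, ∀ y ∈ Y2 G a b, x ≠ 1 → x * x = 1 → y ≠ 1 → y * y = 1 → x * y = y * x → x = y) →
    OdOut (⊤ : Subgroup G) (Set.univ : Set Ω)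

/-- the relative form of OD -/
def OdRel : Prop := ∀ {G : Type u} {Ω : Type v} [Group G] [Finite G] [Finite Ω] [MulAction G Ω]
  (M : Subgroup G) (S : Set Ω), (∀ m ∈ M, ∀ x ∈ S, m • x ∈ S) →
    (∀ m ∈ M, (∀ x ∈ S, m • x = x) → m = 1) → Odd S.ncard →
    (∀ a ∈ S, ∀ b ∈ S, ∀ c ∈ S, ∀ d ∈ S, a ≠ b → c ≠ d → ∃ g ∈ M, g • a = c ∧ g • b = d) →
    ∀ a ∈ S, ∀ b ∈ S, a ≠ b →
    (∀ x ∈ M ⊓ Y2 G a b, ∀ y ∈ M ⊓ Y2 G a b, x ≠ 1 → x * x = 1 → y ≠ 1 → y * y = 1 →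
      x * y = y * x → x = y) → OdOut M S

/-- OR: transport of OD to a subgroup acting on an invariant set. -/
def JobOR : Prop := JobOD.{u, v} → OdRel.{u, v}

/-- RG: `G_{ab}` has no regular normal subgroup. -/
def JobRG : Prop := ∀ {G : Type u} {Ω : Type v} [Group G] [Finite G] [Fintype Ω] [MulAction G Ω]
  [FaithfulSMul G Ω] {a b c d : Ω} {t : G} {N : Subgroup G},
    T4 (⊤ : Subgroup G) (Set.univ : Set Ω) → D4 a b c d → 7 ≤ Fintype.card Ω →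
    t ∈ L4 G a b c d → t ≠ 1 → t * t = 1 → RegN (Y2 G a b) {x | x ≠ a ∧ x ≠ b} N → False

/-- Q2: a 2-group with an involutory automorphism with two fixed points and a nontrivial
automorphism of odd order has order 4 or 8. -/
def JobQ2 : Prop := ∀ {G : Type u} [Group G] [Finite G] {Q : Subgroup G} {w k : G}, IsPGroup 2 Q →
  w * w = 1 → (∀ x ∈ Q, w * x * w⁻¹ ∈ Q) →
  Nat.card (Q ⊓ centralizer {w} : Subgroup G) = 2 → Odd (orderOf k) → (∀ x ∈ Q, k * x * k⁻¹ ∈ Q) →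
  (∃ x ∈ Q, k * x ≠ x * k) → Nat.card Q = 4 ∨ Nat.card Q = 8

/-- SM: case A, degrees 11 and 13. -/
def JobSM : Prop := ∀ {G : Type u} {Ω : Type v} [Group G] [Finite G] [Fintype Ω] [DecidableEq Ω]
  [MulAction G Ω] [FaithfulSMul G Ω] {a b c d : Ω} {K H : Subgroup G} {t : G}, Hy a b c d K H →
    Ea (L4 G a b c d) K H t → Fintype.card Ω = 11 ∨ Fintype.card Ω = 13 → False

/-- A12: case A, degree 12. -/
def JobA12 : Prop := ∀ {G : Type u} {Ω : Type v} [Group G] [Finite G] [Fintype Ω]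
  [MulAction G Ω] [FaithfulSMul G Ω] {a b c d : Ω} {K H J : Subgroup G} {t : G}, Hy a b c d K H →
    Cd a b c d K H → Ea (L4 G a b c d) K H t → Fintype.card Ω = 12 → J ≤ stabilizer G a →
    Nm (stabilizer G a) J → Nat.card J = 660 ∨ Nat.card J = 7920 → False

/-- A1: case A, even degree. -/
def JobA1 : Prop := OdRel.{u, v} → JobRG.{u, v} → JobA12.{u, v} →
  ∀ {G : Type u} {Ω : Type v} [Group G] [Finite G] [Fintype Ω]
  [MulAction G Ω] [FaithfulSMul G Ω] {a b c d : Ω} {K H : Subgroup G} {t : G}, Hy a b c d K H →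
    Cd a b c d K H → Ea (L4 G a b c d) K H t → Even (Fintype.card Ω) → False

/-- A2: case A, odd degree. -/
def JobA2 : Prop := OdRel.{u, v} → JobRG.{u, v} → JobQ2.{u} → JobSM.{u, v} →
  ∀ {G : Type u} {Ω : Type v} [Group G] [Finite G] [Fintype Ω] [DecidableEq Ω]
  [MulAction G Ω] [FaithfulSMul G Ω] {a b c d : Ω} {K H : Subgroup G} {t : G}, Hy a b c d K H →
    Cd a b c d K H → Ea (L4 G a b c d) K H t → Odd (Fintype.card Ω) → Concl G

/-- TW: Witt's lemma and S4221. -/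
def JobTW : Prop := ∀ {G : Type u} {Ω : Type v} [Group G] [Finite G] [Fintype Ω] [DecidableEq Ω]
  [MulAction G Ω] {a b c d : Ω} {U : Subgroup G}, T4 (⊤ : Subgroup G) (Set.univ : Set Ω) →
    D4 a b c d → U ≤ L4 G a b c d →
    (∀ g : G, cj g U ≤ L4 G a b c d → ∃ l ∈ L4 G a b c d, cj g U = cj l U) →
    (∀ l ∈ L4 G a b c d, l ∈ normalizer (U : Set G) → ∃ m : ℕ, Odd m ∧
      ∀ ω ∈ fixedPoints U Ω, l ^ m • ω = ω) → Typ (Ω := Ω) U

/-- TS1 -/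
def JobTS1 : Prop := ∀ {G : Type u} {Ω : Type v} [Group G] [Fintype Ω] [DecidableEq Ω]
  [MulAction G Ω] {a b c d : Ω} {U : Subgroup G}, D4 a b c d → U ≤ L4 G a b c d →
    Typ (Ω := Ω) U → Ty1 a b c d U

/-- TS2 -/
def JobTS2 : Prop := ∀ {G : Type u} {Ω : Type v} [Group G] [Fintype Ω] [DecidableEq Ω]
  [MulAction G Ω] {a : Ω} {U : Subgroup G}, Typ (Ω := Ω) U → Ty2 U a

/-- TW + TS1 + TS2 -/
def TySt : Prop := ∀ {G : Type u} {Ω : Type v} [Group G] [Finite G] [Fintype Ω] [DecidableEq Ω]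
  [MulAction G Ω] {a b c d : Ω} {U : Subgroup G}, T4 (⊤ : Subgroup G) (Set.univ : Set Ω) →
    D4 a b c d → U ≤ L4 G a b c d →
    (∀ g : G, cj g U ≤ L4 G a b c d → ∃ l ∈ L4 G a b c d, cj g U = cj l U) →
    (∀ l ∈ L4 G a b c d, l ∈ normalizer (U : Set G) → ∃ m : ℕ, Odd m ∧
      ∀ ω ∈ fixedPoints U Ω, l ^ m • ω = ω) → Ty1 a b c d U ∧ Ty2 U a

theorem tySt (h0 : JobTW.{u, v}) (h1 : JobTS1.{u, v}) (h2 : JobTS2.{u, v}) : TySt.{u, v} := by
  intro G Ω _ _ _ _ _ a b c d U t n l w o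
  exact ⟨h1 n l (h0 t n l w o), h2 (h0 t n l w o)⟩

/-- TH1 -/
def JobTH1 : Prop := TySt.{u, v} →
  ∀ {G : Type u} {Ω : Type v} [Group G] [Finite G] [Fintype Ω] [DecidableEq Ω]
  [MulAction G Ω] {a b c d : Ω} {K H : Subgroup G}, Hy a b c d K H →
    Odd (Nat.card H) → Fh H → ∀ h ∈ H, (orderOf h).Prime →
      Ty2 (zpowers h) a ∧ Th1 a b c d H h

/-- TH2 -/
def JobTH2 : Prop := ∀ {G : Type u} {Ω : Type v} [Group G] [Finite G] [Fintype Ω] [DecidableEq Ω]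
  [MulAction G Ω] {a b c d : Ω} {K H : Subgroup G}, Hy a b c d K H →
    ∀ h ∈ H, (orderOf h).Prime → Ty2 (zpowers h) a → Th1 a b c d H h → Th2 (Ω := Ω) H h

/-- PH1 -/
def JobPH1 : Prop := TySt.{u, v} →
  ∀ {G : Type u} {Ω : Type v} [Group G] [Finite G] [Fintype Ω] [DecidableEq Ω]
  [MulAction G Ω] {a b c d : Ω} {K H P : Subgroup G}, Hy a b c d K H →
    Odd (Nat.card H) → Pd (L4 G a b c d) K P → Ph1 a b c d K H P

/-- ST: the Steiner triple system argument. -/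
def JobST : Prop := ∀ {G : Type u} {Ω : Type v} [Group G] [Finite G] [Fintype Ω] [DecidableEq Ω]
  [MulAction G Ω] [FaithfulSMul G Ω] {a b c d : Ω} {K H P : Subgroup G}, Hy a b c d K H →
    Pd (L4 G a b c d) K P → Odd (fixedPoints P Ω).ncard →
    3 ∣ (fixedPoints P Ω).ncard * ((fixedPoints P Ω).ncard - 1)

/-- P4: the blocks through `a, b, c` partition the other points. -/
def JobP4 : Prop := ∀ {G : Type u} {Ω : Type v} [Group G] [Finite G] [Fintype Ω] [DecidableEq Ω]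
  [MulAction G Ω] [FaithfulSMul G Ω] {a b c d : Ω} {K H P : Subgroup G}, Hy a b c d K H →
    Pd (L4 G a b c d) K P → (fixedPoints P Ω).ncard - 3 ∣ Fintype.card Ω - 3

/-- BU: Burnside transfer. -/
def JobBU : Prop := ∀ {G : Type u} [Group G] [Finite G] {X R : Subgroup G} {h : G} {p : ℕ},
  p.Prime → p ≠ 2 → orderOf h = p → h ∈ R → R ≤ X → IsPGroup p R → IsCyclic R →
  (∀ g ∈ X, g ∈ normalizer (zpowers h : Set G) → g * h = h * g) →
  (∃ m : ℕ, ¬ p ∣ m ∧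
    Nat.card (normalizer (zpowers h : Set G) ⊓ X : Subgroup G) = m * Nat.card R) →
  ∃ X₁, Cpl X X₁ p

/-- SV: solvability through S4319. -/
def JobSV : Prop := ∀ {G : Type u} [Group G] [Finite G] {X X₁ : Subgroup G} {h : G} {p : ℕ},
  p.Prime → Cpl X X₁ p → h ∈ X → orderOf h = p →
  (Odd (Nat.card (X₁ ⊓ centralizer {h} : Subgroup G)) ∨
    IsPGroup 2 (X₁ ⊓ centralizer {h} : Subgroup G)) → Group.IsSolvable X

/-- EV: even degree, a normal `p`-complement forces `C_X(h)` to have odd order. -/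
def JobEV : Prop := ∀ {G : Type u} {Ω : Type v} [Group G] [Finite G] [Fintype Ω]
  [MulAction G Ω] {a b c d : Ω} {K H P X₁ : Subgroup G} {h x : G}, Hy a b c d K H →
    Cd a b c d K H → Odd (Nat.card H) → Pd (L4 G a b c d) K P → Even (Fintype.card Ω) → h ∈ H →
    (orderOf h).Prime → Cpl (X3 G a b c) X₁ (orderOf h) → x ∈ X3 G a b c → x * x = 1 →
    x * h = h * x → x = 1

/-- FI: the Fitting subgroup of a solvable `X`. -/
def JobFI : Prop := ∀ {G : Type u} [Group G] [Finite G] {X : Subgroup G}, Group.IsSolvable X →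
  (∀ p : ℕ, p.Prime → p ≠ 3 → NoP X p) → ∃ O : Subgroup G, O ≤ X ∧ IsPGroup 3 O ∧
    (∀ g : G, (∀ x ∈ X, g * x * g⁻¹ ∈ X) → ∀ x ∈ O, g * x * g⁻¹ ∈ O) ∧
    ∀ x ∈ X, (∀ y ∈ O, x * y = y * x) → x ∈ O

/-- TQ: Thompson's theorem on `O P / ⟨y⟩`. -/
def JobTQ : Prop := ∀ {G : Type u} [Group G] [Finite G] {O P : Subgroup G} {h y : G} {p : ℕ},
  p.Prime → p ≠ 2 → IsPGroup p O → IsPGroup 2 P → Nm P O → (orderOf h).Prime → orderOf h ≠ 2 →
  (∀ x ∈ O, h * x * h⁻¹ ∈ O) → (∀ x ∈ P, h * x * h⁻¹ ∈ P) → (∀ x ∈ P, h * x = x * h → x = 1) →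
  y ∈ O → (∀ x ∈ O, x * y = y * x) → (∀ x ∈ P, x * y = y * x) → h * y = y * h →
  (∀ x ∈ O, h * x = x * h → x ∈ zpowers y) → (y = 1 ∨ orderOf h ≠ p) →
  ∀ x ∈ P, ∀ z ∈ O, x * z = z * x

/-- the statement NO: odd normal `p`-subgroups of `X` -/
def NoSt : Prop := ∀ {G : Type u} {Ω : Type v} [Group G] [Finite G] [Fintype Ω] [DecidableEq Ω]
  [MulAction G Ω] [FaithfulSMul G Ω] {a b c d : Ω} {K H P O : Subgroup G} {h : G} {p : ℕ},
    Cx a b c d K H P → h ∈ H → (orderOf h).Prime → p.Prime → p ≠ 2 → O ≤ X3 G a b c →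
    Nm (X3 G a b c) O → IsPGroup p O →
    ((∀ x ∈ O, h * x = x * h → x = 1) → O = ⊥) ∧
      Nat.card (O ⊓ centralizer {h} : Subgroup G) ∣ (fixedBy Ω h).ncard - 3

/-- NO -/
def JobNO : Prop := JobTQ.{u} → NoSt.{u, v}

/-- ONa: O'Nan's geometry (kit `H89.onan`, `H89.ONan.exists_projModel`, `exists_mem_of_tv`). -/
def JobONa : Prop := ∀ {G : Type u} {Ω : Type v} [Group G] [Finite G] [Fintype Ω] [DecidableEq Ω]
  [MulAction G Ω] [FaithfulSMul G Ω] {a b c d : Ω} {K H B : Subgroup G}, Hy a b c d K H →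
    B ≤ X3 G a b c → Nm (X3 G a b c) B → (∀ x ∈ B, ∀ y ∈ B, x * y = y * x) →
    (∃ x ∈ B, x ≠ 1 ∧ ∃ ω, ω ≠ a ∧ ω ≠ b ∧ ω ≠ c ∧ x • ω = ω) →
    ∃ (p : ℕ) (F : Type) (_ : Field F) (_ : Fintype F) (n : ℕ) (ρ : Ω → Fin n → F),
      p.Prime ∧ p ∣ Nat.card K ∧ 3 ≤ n ∧ PM G a b p ρ

/-- ONb: the dimension is 3. -/
def JobONb : Prop := ∀ {G : Type u} {Ω : Type v} [Group G] [Finite G] [Fintype Ω] [DecidableEq Ω]
  [MulAction G Ω] [FaithfulSMul G Ω] {a b c d : Ω} {K H : Subgroup G} {p : ℕ} {F : Type} [Field F]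
  [Fintype F] {n : ℕ} {ρ : Ω → Fin n → F}, Hy a b c d K H → p.Prime → p ∣ Nat.card K →
    PM G a b p ρ → n ≤ 3

/-- ONc: the field has 2 or 4 elements. -/
def JobONc : Prop := ∀ {G : Type u} {Ω : Type v} [Group G] [Finite G] [Fintype Ω] [DecidableEq Ω]
  [MulAction G Ω] [FaithfulSMul G Ω] {a b c d : Ω} {K H : Subgroup G} {p : ℕ} {F : Type} [Field F]
  [Fintype F] {ρ : Ω → Fin 3 → F}, Hy a b c d K H → p.Prime → p ∣ Nat.card K →
    PM G a b p ρ → ∀ x : F, x ≠ 0 → x ^ 3 = 1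

/-- ONd: counting points. -/
def JobONd : Prop := ∀ {G : Type u} {Ω : Type v} [Group G] [Fintype Ω] [DecidableEq Ω]
  [MulAction G Ω] {a b : Ω} {p : ℕ} {F : Type} [Field F] [Fintype F] {ρ : Ω → Fin 3 → F}, a ≠ b →
    PM G a b p ρ → (∀ x : F, x ≠ 0 → x ^ 3 = 1) → Fintype.card Ω = 9 ∨ Fintype.card Ω = 23

/-- ON3: degree 23. -/
def JobON3 : Prop := ∀ {G : Type u} {Ω : Type v} [Group G] [Finite G] [Fintype Ω] [DecidableEq Ω]
  [MulAction G Ω] [FaithfulSMul G Ω] {a b c d : Ω} {K H P : Subgroup G}, Cx a b c d K H P →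
    Fintype.card Ω = 23 → Cfsg.Spor.IsoM23 G

/-- ONa + ONb + ONc + ONd + ON3 -/
def OnSt : Prop := ∀ {G : Type u} {Ω : Type v} [Group G] [Finite G] [Fintype Ω] [DecidableEq Ω]
  [MulAction G Ω] [FaithfulSMul G Ω] {a b c d : Ω} {K H P B : Subgroup G}, Cx a b c d K H P →
    B ≤ X3 G a b c → Nm (X3 G a b c) B → (∀ x ∈ B, ∀ y ∈ B, x * y = y * x) →
    (∃ x ∈ B, x ≠ 1 ∧ ∃ ω, ω ≠ a ∧ ω ≠ b ∧ ω ≠ c ∧ x • ω = ω) → Concl G

theorem onSt (h1 : JobONa.{u, v}) (h2 : JobONb.{u, v}) (h3 : JobONc.{u, v}) (h4 : JobONd.{u, v})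
    (h5 : JobON3.{u, v}) : OnSt.{u, v} := by
  intro G Ω _ _ _ _ _ _ a b c d K H P B cx l n m e
  obtain ⟨p, F, _, _, k, ρ, hp, hK, hk, pm⟩ := h1 cx.hy l n m e
  obtain rfl : k = 3 := (h2 cx.hy hp hK pm).antisymm hk
  rcases h4 cx.hy.ne.1 pm (h3 cx.hy hp hK pm) with h | h
  · have := cx.ph2.od4 (by rw [h]; decide)
    rw [h] at this
    exact absurd this (by decide)
  · exact Or.inr (Or.inr (h5 cx h))

/-- N2: normal 2-subgroups of `X`. -/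
def JobN2 : Prop := OnSt.{u, v} →
  ∀ {G : Type u} {Ω : Type v} [Group G] [Finite G] [Fintype Ω] [DecidableEq Ω]
  [MulAction G Ω] [FaithfulSMul G Ω] {a b c d : Ω} {K H P : Subgroup G}, Cx a b c d K H P →
    NoP (X3 G a b c) 2 ∨ Concl G

/-- the statement N3: `θ = 6`, `r ≥ 5`, `F(X)` a 3-group -/
def N3St : Prop := ∀ {G : Type u} {Ω : Type v} [Group G] [Finite G] [Fintype Ω] [DecidableEq Ω]
  [MulAction G Ω] [FaithfulSMul G Ω] {a b c d : Ω} {K H P O : Subgroup G} {h : G},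
    Cx a b c d K H P → h ∈ H → (orderOf h).Prime → orderOf h ≠ 3 → (fixedBy Ω h).ncard = 6 →
    O ≤ X3 G a b c → IsPGroup 3 O →
    (∀ g : G, (∀ x ∈ X3 G a b c, g * x * g⁻¹ ∈ X3 G a b c) → ∀ x ∈ O, g * x * g⁻¹ ∈ O) →
    (∀ x ∈ X3 G a b c, (∀ y ∈ O, x * y = y * x) → x ∈ O) → Concl G

/-- N3a: a semiregular elementary abelian 3-subgroup normal in `N_G(X)` has order at most 27. -/
def JobN3a : Prop := ∀ {G : Type u} {Ω : Type v} [Group G] [Finite G] [Fintype Ω] [DecidableEq Ω]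
  [MulAction G Ω] [FaithfulSMul G Ω] {a b c d : Ω} {B : Subgroup G},
    T4 (⊤ : Subgroup G) (Set.univ : Set Ω) → D4 a b c d → B ≤ X3 G a b c →
    (∀ x ∈ B, ∀ y ∈ B, x * y = y * x) → (∀ x ∈ B, x ^ 3 = 1) →
    (∀ g : G, (∀ x ∈ X3 G a b c, g * x * g⁻¹ ∈ X3 G a b c) → ∀ x ∈ B, g * x * g⁻¹ ∈ B) →
    (∀ x ∈ B, ∀ ω, ω ≠ a → ω ≠ b → ω ≠ c → x • ω = ω → x = 1) → Nat.card B ≤ 27

/-- N3 -/
def JobN3 : Prop := OnSt.{u, v} → NoSt.{u, v} → JobTQ.{u} → JobN3a.{u, v} → N3St.{u, v}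

/-- B7: `θ = 7` for the smallest prime. -/
def JobB7 : Prop := ∀ {G : Type u} {Ω : Type v} [Group G] [Finite G] [Fintype Ω] [DecidableEq Ω]
  [MulAction G Ω] [FaithfulSMul G Ω] {a b c d : Ω} {K H P : Subgroup G} {h : G},
    Cx a b c d K H P → h ∈ H → orderOf h = (Nat.card H).minFac → (fixedBy Ω h).ncard = 7 → False

/-- H3: `θ ≠ 4, 7`. -/
def JobH3 : Prop := ∀ {G : Type u} {Ω : Type v} [Group G] [Finite G] [Fintype Ω] [DecidableEq Ω]
  [MulAction G Ω] [FaithfulSMul G Ω] {a b c d : Ω} {K H P : Subgroup G} {h : G},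
    Cx a b c d K H P → h ∈ H → (orderOf h).Prime → (fixedBy Ω h).ncard ≠ 4 →
    (fixedBy Ω h).ncard ≠ 7 →
    (∀ x ∈ H, x ≠ 1 → fixedBy Ω x = fixedBy Ω h) ∧ (Odd (Fintype.card Ω) → Nat.card H = 3)

/-- B0: `θ = 6`, `r = 3`: the 3-subgroups of `C_X(h)` are abelian. -/
def JobB0 : Prop := ∀ {G : Type u} {Ω : Type v} [Group G] [Finite G] [Fintype Ω] [DecidableEq Ω]
  [MulAction G Ω] [FaithfulSMul G Ω] {a b c d : Ω} {K H P T : Subgroup G} {h : G},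
    Cx a b c d K H P → h ∈ H → orderOf h = 3 → (fixedBy Ω h).ncard = 6 → T ≤ X3 G a b c →
    IsPGroup 3 T → (∀ x ∈ T, x * h = h * x) → ∀ x ∈ T, ∀ y ∈ T, x * y = y * x

/-- the statement B2: `θ = 6`, `r = 3`: `⟨h⟩` is weakly closed in `C_X(h)` -/
def B2St : Prop := ∀ {G : Type u} {Ω : Type v} [Group G] [Finite G] [Fintype Ω] [DecidableEq Ω]
  [MulAction G Ω] [FaithfulSMul G Ω] {a b c d : Ω} {K H P : Subgroup G} {h : G},
    Cx a b c d K H P → h ∈ H → orderOf h = 3 → (fixedBy Ω h).ncard = 6 → ∀ g ∈ X3 G a b c,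
    g * h * g⁻¹ * h = h * (g * h * g⁻¹) → g * h * g⁻¹ ∈ zpowers h

/-- B2a: a counterexample to B2 forces `9 ∤ |H|`. -/
def JobB2a : Prop := JobB0.{u, v} →
  ∀ {G : Type u} {Ω : Type v} [Group G] [Finite G] [Fintype Ω] [DecidableEq Ω]
  [MulAction G Ω] [FaithfulSMul G Ω] {a b c d : Ω} {K H P : Subgroup G} {h : G},
    Cx a b c d K H P → h ∈ H → orderOf h = 3 → (fixedBy Ω h).ncard = 6 → ∀ g ∈ X3 G a b c,
    g * h * g⁻¹ * h = h * (g * h * g⁻¹) → 9 ∣ Nat.card H → g * h * g⁻¹ ∈ zpowers h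

/-- B2b: the group `U` of order 27 and the inverting element `t`. -/
def JobB2b : Prop := ∀ {G : Type u} {Ω : Type v} [Group G] [Finite G] [Fintype Ω] [DecidableEq Ω]
  [MulAction G Ω] [FaithfulSMul G Ω] {a b c d : Ω} {K H P : Subgroup G} {h x : G},
    Cx a b c d K H P → h ∈ H → orderOf h = 3 → (fixedBy Ω h).ncard = 6 → ¬ 9 ∣ Nat.card H →
    x ∈ X3 G a b c → orderOf x = 3 → x * h = h * x → ∃ (U : Subgroup G) (t : G), Nat.card U = 27 ∧
      h ∈ U ∧ x ∈ U ∧ t * h = h * t ∧ (∀ v ∈ U, v * h = h * v) ∧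
      (∀ v ∈ U, v • a ∈ ({a, b, c} : Set Ω) ∧ v • b ∈ ({a, b, c} : Set Ω) ∧
        v • c ∈ ({a, b, c} : Set Ω)) ∧
      (∀ v ∈ U, ∀ w ∈ U, v * w * v⁻¹ * w⁻¹ ∈ zpowers h) ∧ ∀ v ∈ U, t * v * t⁻¹ * v ∈ zpowers h

/-- B2c: the contradiction. -/
def JobB2c : Prop := JobB0.{u, v} → JobB2a.{u, v} → JobB2b.{u, v} → B2St.{u, v}

/-- the statement B1 -/
def B1St : Prop := ∀ {G : Type u} {Ω : Type v} [Group G] [Finite G] [Fintype Ω] [DecidableEq Ω]
  [MulAction G Ω] [FaithfulSMul G Ω] {a b c d : Ω} {K H P : Subgroup G} {h : G},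
    Cx a b c d K H P → h ∈ H → orderOf h = 3 → (fixedBy Ω h).ncard = 6 →
    ∃ X₁, Cpl (X3 G a b c) X₁ 3

/-- B1: `θ = 6`, `r = 3`: a normal 3-complement. -/
def JobB1 : Prop := JobB0.{u, v} → B2St.{u, v} → B1St.{u, v}

/-- CH: the character argument for a self-centralising TI subgroup with dihedral normaliser. -/
def JobCH : Prop := ∀ {G : Type u} [Group G] [Finite G] {H : Subgroup G} {w s : G}, IsCyclic H →
  Odd (Nat.card H) → H ≠ ⊥ → w * w = 1 → w ∉ H → (∀ x ∈ H, w * x * w⁻¹ = x⁻¹) →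
  (∀ g : G, ∀ x ∈ H, x ≠ 1 → g * x * g⁻¹ ∈ H → g ∈ H ∨ g * w ∈ H) →
  s * s = 1 → ¬ IsConj w s → ∃ N : Subgroup G, N.Normal ∧ s ∈ N ∧ ∀ x ∈ N, x ∈ H → x = 1

/-- the statement AL1: all involutions of `X` are conjugate -/
def Al1St : Prop := ∀ {G : Type u} {Ω : Type v} [Group G] [Finite G] [Fintype Ω] [DecidableEq Ω]
  [MulAction G Ω] [FaithfulSMul G Ω] {a b c d e : Ω} {K H P : Subgroup G} {h w : G},
    Cx a b c d K H P → h ∈ H → (orderOf h).Prime → fixedBy Ω h = {a, b, c, d, e} →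
    (fixedBy Ω h).ncard = 5 → (∀ x ∈ H, x ≠ 1 → fixedBy Ω x = fixedBy Ω h) →
    (∀ p : ℕ, p.Prime → NoP (X3 G a b c) p) → w ∈ X3 G a b c →
    w ∈ normalizer (zpowers h : Set G) → w • d = e → (∀ x ∈ H, w * x = x * w → x = 1) →
    (∀ x ∈ H, w * x * w⁻¹ = x⁻¹) ∧ ∀ s ∈ X3 G a b c, s ≠ 1 → s * s = 1 →
      ∃ g ∈ X3 G a b c, g * w * g⁻¹ = s

/-- AL1 -/
def JobAL1 : Prop := JobCH.{u} → Al1St.{u, v}

/-- AL2a: fusion of the central involutions of `P`. -/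
def JobAL2a : Prop := ∀ {G : Type u} {Ω : Type v} [Group G] [Finite G] [Fintype Ω] [DecidableEq Ω]
  [MulAction G Ω] [FaithfulSMul G Ω] {a b c d : Ω} {K H P : Subgroup G} {h z z' g : G},
    Cx a b c d K H P → Even (Fintype.card Ω) → h ∈ H → (fixedBy Ω h).ncard = 5 → ZI P z → ZI P z' →
    g ∈ X3 G a b c → g * z * g⁻¹ = z' → ∃ x ∈ H, x * z * x⁻¹ = z'

/-- AL2b: `H` transitive on the central involutions of `P` forces `|H| = 3`. -/
def JobAL2b : Prop := ∀ {G : Type u} {Ω : Type v} [Group G] [Finite G] [Fintype Ω] [DecidableEq Ω]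
  [MulAction G Ω] [FaithfulSMul G Ω] {a b c d e : Ω} {K H P : Subgroup G} {h w : G},
    Cx a b c d K H P → h ∈ H → (orderOf h).Prime →
    fixedBy Ω h = {a, b, c, d, e} → (fixedBy Ω h).ncard = 5 → w ∈ X3 G a b c →
    w ∈ normalizer (zpowers h : Set G) → w • d = e → w * w = 1 → (∀ x ∈ H, w * x * w⁻¹ = x⁻¹) →
    (∀ z z', ZI P z → ZI P z' → ∃ x ∈ H, x * z * x⁻¹ = z') → Nat.card H = 3

/-- the statement AP: even degree, `θ = 5`, `C_H(w) ≠ 1` -/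
def ApSt : Prop := ∀ {G : Type u} {Ω : Type v} [Group G] [Finite G] [Fintype Ω] [DecidableEq Ω]
  [MulAction G Ω] [FaithfulSMul G Ω] {a b c d e : Ω} {K H P : Subgroup G} {h w : G},
    Cx a b c d K H P → Even (Fintype.card Ω) → h ∈ H → (orderOf h).Prime →
    fixedBy Ω h = {a, b, c, d, e} → (fixedBy Ω h).ncard = 5 →
    (∀ x ∈ H, x ≠ 1 → fixedBy Ω x = fixedBy Ω h) → w ∈ X3 G a b c →
    w ∈ normalizer (zpowers h : Set G) → w • d = e → w * w = 1 → ∀ x ∈ H, w * x = x * w → x = 1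

/-- AP -/
def JobAP : Prop := JobBU.{u} → JobEV.{u, v} → ApSt.{u, v}

/-- S3: the self-centralising case, through S3331. -/
def JobS3 : Prop := ∀ {G : Type u} {Ω : Type v} [Group G] [Finite G] [Fintype Ω] [DecidableEq Ω]
  [MulAction G Ω] [FaithfulSMul G Ω] {a b c d : Ω} {K H P : Subgroup G} {h : G},
    Cx a b c d K H P → h ∈ H → orderOf h = 3 → Nat.card H = 3 →
    (∀ x ∈ X3 G a b c, x * h = h * x → x ∈ zpowers h) →
    (∀ p : ℕ, p.Prime → NoP (X3 G a b c) p) → Concl G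

/-- the branch statement for a given `θ` -/
def Br (θ : ℕ) : Prop := ∀ {G : Type u} {Ω : Type v} [Group G] [Finite G] [Fintype Ω]
  [DecidableEq Ω] [MulAction G Ω] [FaithfulSMul G Ω] {a b c d : Ω} {K H P : Subgroup G} {h : G},
    Cx a b c d K H P → h ∈ H → orderOf h = (Nat.card H).minFac → (fixedBy Ω h).ncard = θ →
    (∀ p : ℕ, p.Prime → (p ≠ 3 ∨ θ ≠ 6) → NoP (X3 G a b c) p) → Concl G

/-- J4 -/
def JobJ4 : Prop := JobBU.{u} → JobSV.{u} → JobFI.{u} → Br.{u, v} 4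

/-- J11 -/
def JobJ11 : Prop := JobBU.{u} → JobSV.{u} → JobFI.{u} → JobEV.{u, v} → JobH3.{u, v} →
  Br.{u, v} 11

/-- J6 -/
def JobJ6 : Prop := JobBU.{u} → JobSV.{u} → JobFI.{u} → N3St.{u, v} → B1St.{u, v} → Br.{u, v} 6

/-- J5 -/
def JobJ5 : Prop := JobBU.{u} → JobSV.{u} → JobFI.{u} → JobH3.{u, v} → ApSt.{u, v} →
  Al1St.{u, v} → JobAL2a.{u, v} → JobAL2b.{u, v} → JobS3.{u, v} → Br.{u, v} 5

end H11.FB
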