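/- Frobenius-like operator groups: preliminaries on abelian groups. -/
import Cfsg.Agent.H47.Frob33
import Cfsg.Agent.H46.Coprime

set_option autoImplicit false

open Cfsg hiding pRank
open Subgroup H46

namespace H11.FL

universe u
variable {Γ : Type u} [Group Γ] [Finite Γ]

/-- the norm argument -/
theorem norm_mem {B F L D : Subgroup Γ} {z : Γ} (cB : IsMulCommutative B) (nB : F ≤ Nrm B)
    (cop : (Nat.card F).Coprime (Nat.card B)) (hF : B ⊓ Cent F = ⊥) (hz : z ∈ B)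
    (h1 : ∀ f ∈ F, f ∈ L → z⁻¹ * (f * z * f⁻¹) ∈ D) (h2 : ∀ f ∈ F, f ∉ L → f * z * f⁻¹ ∈ D) :
    z ∈ D := by
  classical
  let _ : CommGroup B := { (inferInstance : Group B) with mul_comm := cB.is_comm.comm }
  have := Fintype.ofFinite F
  let φ : F →* MulAut B := B.normalizerMonoidHom.comp (inclusion nB)
  have hφ : ∀ (f : F) (b : B), (φ f b : Γ) = f * b * (f : Γ)⁻¹ := fun _ _ => rfl
  let y : B := ⟨z, hz⟩
  have e1 : ∏ f, φ f y = 1 := by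
    refine Subtype.ext (mem_bot.1 (hF ▸ mem_inf.2 ⟨(∏ f, φ f y).2, mem_cent.2 fun g hg => ?_⟩))
    have : φ ⟨g, hg⟩ (∏ f, φ f y) = ∏ f, φ f y := by
      rw [map_prod]
      exact Fintype.prod_equiv (Equiv.mulLeft ⟨g, hg⟩) _ _ fun f => by simp
    have := congrArg Subtype.val this
    rw [hφ] at this
    exact mul_inv_eq_iff_eq_mul.1 this
  have e2 : ∏ f : F, ((if (f : Γ) ∈ L then y⁻¹ else 1) * φ f y) ∈ D.subgroupOf B :=
    Subgroup.prod_mem _ fun f _ => by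
      split_ifs with k
      · exact h1 f f.2 k
      · rw [one_mul]; exact h2 f f.2 k
  rw [Finset.prod_mul_distrib, e1, mul_one, Finset.prod_ite, Finset.prod_const_one, mul_one,
    Finset.prod_const, inv_pow, inv_mem_iff] at e2
  have e3 : (Finset.univ.filter fun f : F => (f : Γ) ∈ L).card = Nat.card (L.subgroupOf F) := by
    rw [Nat.card_eq_fintype_card, Fintype.card_subtype]; rfl
  have e4 : (Nat.card (L.subgroupOf F)).Coprime (orderOf z) :=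
    (cop.coprime_dvd_left (card_subgroup_dvd_card _)).coprime_dvd_right (orderOf_dvd_card hz)
  rw [e3] at e2
  obtain ⟨m, hm⟩ := exists_pow_eq_self_of_coprime e4
  rw [← hm]
  exact pow_mem e2 m

theorem exists_compl {V B W : Subgroup Γ} (cV : IsMulCommutative V) (cB : IsMulCommutative B)
    (nV : B ≤ Nrm V) (nW : B ≤ Nrm W) :
    ∃ D : Subgroup Γ, W ⊓ D = ⊥ ∧ ∀ b ∈ B, W ⊓ Cent1 b = ⊥ → V ⊓ Cent1 b ≤ D := by
  obtain ⟨D, -, hD⟩ := Finite.exists_le_maximal (a := ⊥)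
    (p := fun D : Subgroup Γ => D ≤ V ∧ B ≤ Nrm D ∧ W ⊓ D = ⊥)
    ⟨bot_le, by rw [nrm_bot]; exact le_top, inf_bot_eq _⟩
  obtain ⟨h1, h2, h3⟩ := hD.prop
  refine ⟨D, h3, fun b hb k => le_sup_right.trans (hD.le_of_ge ⟨sup_le h1 inf_le_left, nrm_sup h2
    (nrm_inf nV (nrm_cent1 (le_cent1_iff.2 (comm_iff_le_cent.1 cB hb)))), ?_⟩ le_sup_left)⟩
  refine eq_bot_iff.2 fun w hw => k.le ⟨hw.1, mem_cent1.2 ?_⟩
  obtain ⟨d, hd, c, hc, rfl⟩ := (mem_sup_of_nrm (inf_le_left.trans (nrm_of_comm cV h1))).1 hw.2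
  have e : b * (d * c) * b⁻¹ * (d * c)⁻¹ = b * d * b⁻¹ * d⁻¹ := by
    calc _ = b * d * (c * b⁻¹ * c⁻¹ * b) * b⁻¹ * d⁻¹ := by group
      _ = _ := by rw [mul_assoc (c * b⁻¹), ← (Commute.inv_left (mem_cent1.1 hc.2)).eq.symm]; group
  have : b * (d * c) * b⁻¹ * (d * c)⁻¹ = 1 := mem_bot.1 (h3 ▸ mem_inf.2
    ⟨mul_mem (conj_mem_of_mem_nrm (nW hb) hw.1) (inv_mem hw.1),
      e ▸ mul_mem (conj_mem_of_mem_nrm (h2 hb) hd) (inv_mem hd)⟩)
  rw [mul_inv_eq_one, mul_inv_eq_iff_eq_mul] at this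
  exact this.symm

/-- `B` acts on `W` with kernel `B₀`, all other elements acting without fixed points -/
def Hom (V B B₀ W : Subgroup Γ) : Prop :=
  W ≤ V ⊓ Cent B₀ ∧ B ≤ Nrm W ∧ ∀ b ∈ B, b ∉ B₀ → W ⊓ Cent1 b = ⊥

omit [Finite Γ] in
theorem Hom.cj {V B B₀ W : Subgroup Γ} (h : Hom V B B₀ W) {g : Γ} (h1 : g ∈ Nrm V) (h2 : g ∈ Nrm B) :
    Hom V B (cj g B₀) (cj g W) := by
  refine ⟨?_, ?_, fun b hb k => ?_⟩
  · rw [← cj_of_mem_nrm h1, ← cj_cent, ← cj_inf]; exact cj_mono g h.1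
  · rw [← cj_of_mem_nrm h2, ← cj_nrm]; exact cj_mono g h.2.1
  · have := h.2.2 _ (conj_mem_of_mem_nrm' h2 hb) (fun e => k (mem_cj.2 e))
    rw [← cj_eq_bot (g := g), cj_inf, cj_cent1] at this
    simpa [mul_assoc] using this

omit [Finite Γ] in
theorem Hom.mem {V B B₀ W U : Subgroup Γ} (h : Hom V B B₀ W) (hU : U ≤ W) (h0 : U ≠ ⊥) {b : Γ}
    (hb : b ∈ B) (k : b ∈ Cent U) : b ∈ B₀ := by_contra fun n =>
  h0 (eq_bot_of_le (le_inf hU (le_cent1_iff.2 k)) (h.2.2 b hb n))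

theorem exists_hom {V B : Subgroup Γ} (B₀ : Subgroup Γ) (cV : IsMulCommutative V)
    (cop : (Nat.card B).Coprime (Nat.card V)) : ∃ W, Hom V B B₀ W ∧ (∀ U, Hom V B B₀ U → U ≤ W) ∧
      Nrm V ⊓ Nrm B ⊓ Nrm B₀ ≤ Nrm W := by
  obtain ⟨W, -, hW⟩ := Finite.exists_le_maximal (a := ⊥) (p := Hom V B B₀)
    ⟨bot_le, by rw [nrm_bot]; exact le_top, fun _ _ _ => bot_inf_eq _⟩
  have h := hW.prop
  have key : ∀ U, Hom V B B₀ U → U ≤ W := fun U k => le_sup_right.trans (hW.le_of_ge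
    ⟨sup_le h.1 k.1, nrm_sup h.2.1 k.2.1, fun b hb n => by
      have l1 := h.1.trans inf_le_left
      rw [← cent_zpowers, coprime_cent_sup ((k.1.trans inf_le_left).trans (nrm_of_comm cV l1))
        ((zpowers_le.2 hb).trans h.2.1) ((zpowers_le.2 hb).trans k.2.1)
        (coprime_of_le cop (zpowers_le.2 hb) (inf_le_left.trans l1)) (Or.inl inferInstance),
        cent_zpowers, h.2.2 b hb n, k.2.2 b hb n, bot_sup_eq]⟩ le_sup_left)
  exact ⟨W, h, key, fun g hg => mem_nrm_of_cj_le (key _ (cj_of_mem_nrm hg.2 ▸ h.cj hg.1.1 hg.1.2))⟩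

theorem nrm_iSup {s : Set Γ} {W : Subgroup Γ} {a : Γ}
    (h : ∀ f ∈ s, ∃ g ∈ s, cj a (cj f W) ≤ cj g W) : a ∈ Nrm (⨆ f ∈ s, cj f W) := by
  refine mem_nrm_of_cj_le (cj_le_iff.2 (iSup₂_le fun f hf => cj_le_iff.1 ?_))
  obtain ⟨g, hg, k⟩ := h f hf
  exact k.trans (le_iSup₂_of_le g hg le_rfl)

/-- a conjugate of an `R`-invariant subgroup that is again `R`-invariant -/
theorem mem_nrm_of_cj {F R T : Subgroup Γ} {f : Γ} (nF : R ≤ Nrm F)
    (cop : (Nat.card R).Coprime (Nat.card F)) (sR : Group.IsSolvable R) (nT : R ≤ Nrm T)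
    (hZ : F ⊓ Cent R ≤ Nrm T) (hf : f ∈ F) (h : R ≤ Nrm (cj f T)) : f ∈ Nrm T := by
  have h1 : cj f⁻¹ R ≤ Nrm T := by rwa [← cj_nrm, le_cj_iff] at h
  have h2 : cj f⁻¹ R ≤ F ⊔ R := by
    rw [← cj_of_mem (mem_sup_left (inv_mem hf) : f⁻¹ ∈ F ⊔ R)]; exact cj_mono _ le_sup_right
  obtain ⟨n, hn, k⟩ := exists_cj_le_of_le_sup (A := cj f⁻¹ R) (N := F ⊓ Nrm T) (K := R)
    (nrm_inf (h2.trans (sup_le le_nrm_self nF)) (nrm_nrm h1)) (nrm_inf nF (nrm_nrm nT))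
    (by rw [card_cj]; exact cop.coprime_dvd_right (card_dvd_of_le inf_le_left))
    (Or.inl (sol_cj sR _)) (by rw [← modr nF nT]; exact le_inf h2 h1)
  rw [← cj_mul] at k
  have m : n * f⁻¹ ∈ F := mul_mem hn.1 (inv_mem hf)
  have := cent_of_nrm_of_disjoint (H := F ⊓ Nrm R) (K := R) inf_le_right (nrm_inf nF (nrm_nrm le_nrm_self))
    (eq_bot_of_le (inf_le_inf_right _ inf_le_left) (inf_eq_bot_of_coprime' cop.symm)) ⟨m, mem_nrm_of_cj_le k⟩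
  exact inv_mem_iff.1 (((Nrm T).mul_mem_cancel_left hn.2).1 (hZ ⟨m, this⟩))

end H11.FL
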