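/- Frobenius-like operator groups: the module theorem. -/
import Cfsg.Agent.H11.FL1
import Cfsg.Agent.H98.Basic

set_option autoImplicit false
set_option linter.unusedSectionVars false

open Cfsg hiding pRank
open Subgroup H46
open scoped commutatorElement

namespace H11.FL

universe u
variable {Γ : Type u} [Group Γ] [Finite Γ]

theorem sol_prime {R : Subgroup Γ} (h : (Nat.card R).Prime) : Group.IsSolvable R :=
  sol_of_comm (comm_of_cyclic (cyclic_of_card_prime h))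

theorem comm_cent {B C W : Subgroup Γ} (cB : IsMulCommutative B) (cW : IsMulCommutative W)
    (p : (Nat.card C).Prime) (CB : C ≤ Nrm B) (BW : B ≤ Nrm W) (CW : C ≤ Nrm W)
    (c1 : (Nat.card C).Coprime (Nat.card B)) (c2 : (Nat.card B).Coprime (Nat.card W))
    (h : W ⊓ Cent C = ⊥) : ⁅B, C⁆ ≤ Cent W :=
  H47.frobenius_cent_of_cent_compl (nrm_commutator_right B C)
    (semiregular_of_prime p (coprime_abel_cent_TI cB CB c1)) cW ((commutator_le_left' CB).trans BW) CW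
    (coprime_of_le c2 (commutator_le_left' CB) le_rfl).symm h

theorem nrm_centMod {X A H N : Subgroup Γ} (h1 : X ≤ Nrm A) (h2 : X ≤ Nrm H) (h3 : X ≤ Nrm N) :
    X ≤ Nrm (centMod A H N) := nrm_inf h1 (le_nrm_qpre h3 (nrm_cent (quo_nrm N h2)))

theorem cent_iSup {s : Set Γ} {W : Γ → Subgroup Γ} {y : Γ} (h : ∀ f ∈ s, y ∈ Cent (W f)) :
    y ∈ Cent (⨆ f ∈ s, W f) := le_cent1_iff.1 (iSup₂_le fun f hf => le_cent1_iff.2 (h f hf))

structure Sit (V Q F R : Subgroup Γ) (x : Γ) : Prop where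
  nV : Group.IsNilpotent V
  nQ : Group.IsNilpotent Q
  QV : Q ≤ Nrm V
  FV : F ≤ Nrm V
  RV : R ≤ Nrm V
  FQ : F ≤ Nrm Q
  RQ : R ≤ Nrm Q
  RF : R ≤ Nrm F
  pR : (Nat.card R).Prime
  cQV : (Nat.card Q).Coprime (Nat.card V)
  cFV : (Nat.card F).Coprime (Nat.card V)
  cRV : (Nat.card R).Coprime (Nat.card V)
  cFQ : (Nat.card F).Coprime (Nat.card Q)
  cRQ : (Nat.card R).Coprime (Nat.card Q)
  cRF : (Nat.card R).Coprime (Nat.card F)
  fV : V ⊓ Cent F = ⊥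
  z : F ⊓ Cent R = ⊥ ∨ ((Nat.card (F ⊓ Cent R : Subgroup Γ)).Prime ∧ Q ⊓ Cent F = ⊥)
  xQ : x ∈ Q
  xR : x ∈ Cent R
  xc : x ∈ Cent (V ⊓ Cent R)

variable {V Q F R V' Q' F' : Subgroup Γ} {x : Γ}

theorem Sit.sub (s : Sit V Q F R x) (h1 : V' ≤ V) (h2 : Q' ≤ Q) (h3 : F' ≤ F) (QV : Q' ≤ Nrm V')
    (FV : F' ≤ Nrm V') (RV : R ≤ Nrm V') (FQ : F' ≤ Nrm Q') (RQ : R ≤ Nrm Q') (RF : R ≤ Nrm F')
    (fV : V' ⊓ Cent F' = ⊥) (z : F' ⊓ Cent R = ⊥ ∨ F' = F) (xQ : x ∈ Q') : Sit V' Q' F' R x :=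
  ⟨nil_of_le s.nV h1, nil_of_le s.nQ h2, QV, FV, RV, FQ, RQ,
    RF, s.pR, coprime_of_le s.cQV h2 h1, coprime_of_le s.cFV h3 h1, coprime_of_le s.cRV le_rfl h1,
    coprime_of_le s.cFQ h3 h2, coprime_of_le s.cRQ le_rfl h2, coprime_of_le s.cRF le_rfl h3, fV,
    z.elim Or.inl fun e => e ▸ s.z.imp_right fun k =>
      ⟨k.1, eq_bot_of_le (inf_le_inf_right _ h2) k.2⟩, xQ, s.xR, cent_anti (inf_le_inf_right _ h1) s.xc⟩

theorem Sit.toQuo (s : Sit V Q F R x) {K : Subgroup Γ} (FK : F ≤ Nrm K) (RK : R ≤ Nrm K)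
    (d : K ⊓ F = ⊥) (d' : K ⊓ R = ⊥) : Sit (quo V K) (quo Q K) (quo F K) (quo R K) (qel K x) := by
  have c := fun {A B : Subgroup Γ} (h : (Nat.card A).Coprime (Nat.card B)) =>
    (h.coprime_dvd_left (card_quo_dvd A K)).coprime_dvd_right (card_quo_dvd B K)
  have e := (coprime_norm_quotient_cent' s.RF RK s.cRF (Or.inl (sol_prime s.pR))).symm
  refine ⟨nil_quo s.nV K, nil_quo s.nQ K, quo_nrm K s.QV, quo_nrm K s.FV, quo_nrm K s.RV, quo_nrm K s.FQ,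
    quo_nrm K s.RQ, quo_nrm K s.RF, by rw [card_quo_of_disjoint RK d']; exact s.pR, c s.cQV, c s.cFV,
    c s.cRV, c s.cFQ, c s.cRQ, c s.cRF, ?_, s.z.imp (fun k => by rw [e, k, bot_quo]) fun k => ⟨?_, ?_⟩,
    qel_mem_quo K s.xQ, quo_cent K (zpowers_le.2 s.xR) (qel_mem_quo K (mem_zpowers x)), ?_⟩
  · rw [← coprime_norm_quotient_cent' s.FV FK s.cFV (Or.inr (sol_of_nil s.nV)), s.fV, bot_quo]
  · rw [e, card_quo_of_disjoint (inf_le_left.trans FK) (eq_bot_of_le (inf_le_inf_left _ inf_le_left) d)]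
    exact k.1
  · rw [← coprime_norm_quotient_cent' s.FQ FK s.cFQ (Or.inr (sol_of_nil s.nQ)), k.2, bot_quo]
  · rw [← coprime_norm_quotient_cent' s.RV RK s.cRV (Or.inl (sol_prime s.pR))]
    exact quo_cent K (zpowers_le.2 s.xc) (qel_mem_quo K (mem_zpowers x))

/-- the case of a centre acting semiregularly -/
theorem Sit.hom (s : Sit V Q F R x) (cV : IsMulCommutative V)
    (ih : ∀ Q' < Q, Sit V Q' F R x → x ∈ Cent V)
    (h : Hom V (Zc Q) ⊥ V) (hR : ⁅Zc Q, R⁆ ≤ ⊥) (hF : F ⊓ Cent R = ⊥) : x ∈ Cent V := by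
  by_cases v : V ⊓ Cent R = ⊥
  · rw [← inf_eq_left.2 (le_cent_symm (H47.frobenius_cent_of_cent_compl s.RF
      (semiregular_of_prime s.pR hF) cV s.FV s.RV s.cFV.symm v)), s.fV, cent_bot]
    exact mem_top x
  have key : ∀ b ∈ Zc Q, b ∈ Cent (V ⊓ Cent R) → b = 1 := fun b hb k =>
    mem_bot.1 (h.mem inf_le_left v hb k)
  have QB : Q ≤ Nrm (Zc Q) := nrm_zc le_nrm_self
  set Y := centMod Q Q (Zc Q)
  have YQ : Y ≤ Q := inf_le_left
  have hY : ⁅Y, Q⁆ ≤ Zc Q := ((le_centMod_iff QB (YQ.trans QB)).1 le_rfl).2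
  have nY : ∀ {A : Subgroup Γ}, A ≤ Nrm Q → A ≤ Nrm Y := fun k => nrm_centMod k k (nrm_zc k)
  have xY : ⁅zpowers x, Y⁆ ≤ Zc Q :=
    (commutator_comm _ _).trans_le ((commutator_mono le_rfl (zpowers_le.2 s.xQ)).trans hY)
  have hx : x ∈ Cent Y := by
    rw [← coprime_cent_prod (nY s.RQ) (coprime_of_le s.cRQ le_rfl YQ) (Or.inl (sol_prime s.pR)), cent_sup]
    refine ⟨zpowers_le.1 (commutator_eq_bot_iff'.1 (commutator_commutator_eq_bot_of_rotate ?_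
      (eq_bot_iff.2 ((commutator_mono xY le_rfl).trans hR)))), mem_cent.2 fun y hy => ?_⟩
    · rw [commutator_eq_bot_iff'.2 (zpowers_le.2 s.xR), commutator_bot_left]
    · refine (commutatorElement_eq_one_iff_mul_comm.1 (key _
        (xY (commutator_mem_commutator (mem_zpowers x) hy.1)) ?_)).symm
      rw [commutatorElement_def, mul_assoc, mul_assoc, ← mul_assoc y]
      exact mul_mem s.xc (conj_mem_of_mem_nrm (nrm_le_nrm_cent _ (nrm_inf
        (inf_le_left.trans (YQ.trans s.QV)) (nrm_cent (nrm_of_le_cent inf_le_right)) hy)) (inv_mem s.xc))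
  by_cases e : Q ≤ Cent Y
  · have : quo Q (Zc Q) = ⊥ := by_contra fun n => zc_ne_bot_of_nil (nil_quo s.nQ _) n (by
      rw [← quo_eq_bot_of_le (le_inf YQ (le_cent_symm e) : Y ≤ Zc Q)]
      exact ((quo_inf inf_le_left _).trans (by rw [qpre_quo_self])).symm)
    rw [key x ((quo_eq_bot_iff QB).1 this s.xQ) s.xc]
    exact one_mem _
  exact ih _ (inf_lt_left.2 e) (s.sub le_rfl inf_le_left le_rfl (inf_le_left.trans s.QV) s.FV s.RV
    (nrm_inf s.FQ (nrm_cent (nY s.FQ))) (nrm_inf s.RQ (nrm_cent (nY s.RQ))) s.RF s.fV (Or.inr rfl)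
    ⟨s.xQ, hx⟩)

theorem Sit.xU (s : Sit V Q F R x) : ⁅V, zpowers x⁆ ≤ V := commutator_le_left' ((zpowers_le.2 s.xQ).trans s.QV)

theorem Sit.xU' (s : Sit V Q F R x) (cV : IsMulCommutative V) : ⁅V, zpowers x⁆ ⊓ Cent1 x = ⊥ :=
  cent_zpowers x ▸ coprime_abel_cent_TI cV ((zpowers_le.2 s.xQ).trans s.QV)
    (coprime_of_le s.cQV (zpowers_le.2 s.xQ) le_rfl)

theorem Sit.UR (s : Sit V Q F R x) (cV : IsMulCommutative V) : ⁅V, zpowers x⁆ ⊓ Cent R = ⊥ :=
  eq_bot_of_le (le_inf inf_le_left ((inf_le_inf_right _ s.xU).trans (le_cent1_iff.2 s.xc))) (s.xU' cV)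

theorem nU {A : Subgroup Γ} (h : A ≤ Nrm V) (k : x ∈ Cent A) :
    A ≤ Nrm ⁅V, zpowers x⁆ :=
  nrm_commutator h ((le_cent1_iff.2 k).trans (cent1_le_nrm_zpowers x))

/-- a component moved by an element meets the complement -/
theorem Hom.le_compl {B B₀ W D : Subgroup Γ} {f w : Γ} (h : Hom V B B₀ W) (hB : B₀ ≤ B)
    (hD : ∀ b ∈ B, W ⊓ Cent1 b = ⊥ → V ⊓ Cent1 b ≤ D) (h1 : f ∈ Nrm V) (h2 : f ∈ Nrm B)
    (h3 : f ∉ Nrm B₀) (hw : w ∈ W) : f * w * f⁻¹ ∈ D := by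
  obtain ⟨b, hb, n⟩ := SetLike.not_le_iff_exists.1 fun k => h3 (mem_nrm_of_cj_le k)
  have bB : b ∈ B := cj_of_mem_nrm h2 ▸ cj_mono f hB hb
  have := (h.cj h1 h2).1 (conj_mem_cj.2 hw)
  exact hD b bB (h.2.2 b bB n) ⟨this.1, cent_le_cent1 hb this.2⟩

/-- components in regular orbits are centralised -/
theorem Sit.reg (s : Sit V Q F R x) (cV : IsMulCommutative V)
    {B₀ W : Subgroup Γ} (h : Hom V (Zc Q) B₀ W) (hB : B₀ ≤ Zc Q)
    (QW : Q ≤ Nrm W) (n : ¬ R ≤ Nrm B₀) : x ∈ Cent W := by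
  obtain ⟨D, d1, d2⟩ := exists_compl cV (comm_zc Q) (inf_le_left.trans s.QV) h.2.1
  refine mem_cent.2 fun w hw => commutatorElement_eq_one_iff_mul_comm.1 ?_
  have wW : ⁅w, x⁆ ∈ W := commutator_le_left' (zpowers_le.2 (QW s.xQ))
    (commutator_mem_commutator hw (mem_zpowers x))
  refine mem_bot.1 (d1 ▸ mem_inf.2 ⟨wW, norm_mem (L := ⊥) (comm_of_le cV s.xU) (nU s.RV s.xR)
    (coprime_of_le s.cRV le_rfl s.xU) (s.UR cV) (commutator_mem_commutator (h.1 hw).1 (mem_zpowers x))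
    (fun f _ k => by rw [mem_bot.1 k, one_mul, inv_one, mul_one, inv_mul_cancel]; exact one_mem _) fun f hf k => h.le_compl hB d2 (s.RV hf)
      (nrm_zc s.RQ hf) (fun m => n ?_) wW⟩)
  rw [← eq_zpowers_of_card_prime s.pR hf fun e => k (mem_bot.2 e)]
  exact zpowers_le.2 m

theorem Sit.main (s : Sit V Q F R x) (cV : IsMulCommutative V) (K : Q ⊓ Cent V = ⊥)
    (ih : ∀ V' ≤ V, ∀ Q' ≤ Q, ∀ F' ≤ F, V' < V ∨ Q' < Q ∨ F' < F → Sit V' Q' F' R x → x ∈ Cent V') :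
    x ∈ Cent V := by
  by_contra nx
  have cB := comm_zc Q
  have BV : Zc Q ≤ Nrm V := inf_le_left.trans s.QV
  have RB := nrm_zc s.RQ
  have FB := nrm_zc s.FQ
  have cBV : (Nat.card (Zc Q)).Coprime (Nat.card V) := coprime_of_le s.cQV inf_le_left le_rfl
  have BU := nU BV (le_cent_symm inf_le_right s.xQ)
  obtain ⟨B₀, -, hB⟩ := Finite.exists_le_maximal (a := ⁅Zc Q, R⁆)
    (p := fun B₀ => ⁅Zc Q, R⁆ ≤ B₀ ∧ B₀ ≤ Zc Q ∧ ⁅V, zpowers x⁆ ⊓ Cent B₀ ≠ ⊥)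
    ⟨le_rfl, commutator_le_left' RB, by
      rw [inf_eq_left.2 (le_cent_symm (comm_cent cB (comm_of_le cV s.xU) s.pR RB BU (nU s.RV s.xR)
        (coprime_of_le s.cRQ le_rfl inf_le_left) (coprime_of_le cBV le_rfl s.xU) (s.UR cV)))]
      exact fun k => nx (zpowers_le.1 (commutator_eq_bot_iff'.1 k))⟩
  obtain ⟨b1, b2, b3⟩ := hB.prop
  have BB := nrm_of_comm cB b2
  obtain ⟨W, hW, wmax, nW⟩ := exists_hom B₀ cV cBV
  have UW := wmax _ ⟨inf_le_inf_right _ s.xU, nrm_inf BU (nrm_cent BB), fun b hb n => by_contra fun k =>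
    n (hB.le_of_ge ⟨b1.trans le_sup_left, sup_le b2 (zpowers_le.2 hb), by
      rwa [cent_sup, cent_zpowers, ← inf_assoc]⟩ le_sup_left (mem_sup_right (mem_zpowers b)))⟩
  have W0 : W ≠ ⊥ := fun k => b3 (eq_bot_of_le UW k)
  have nx' : ∀ W', W ≤ W' → x ∉ Cent W' := fun W' k m => b3 (eq_bot_of_le
    (le_inf inf_le_left (le_cent1_iff.2 (cent_anti (UW.trans k) m))) (s.xU' cV))
  have QB₀ : Q ≤ Nrm B₀ := nrm_of_le_cent (le_cent_symm (b2.trans inf_le_right))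
  have RB₀ : R ≤ Nrm B₀ := commutator_le_left_iff.1 ((commutator_mono b2 le_rfl).trans b1)
  have WV : W ≤ V := hW.1.trans inf_le_left
  have QW : Q ≤ Nrm W := (le_inf (le_inf s.QV (nrm_zc le_nrm_self)) QB₀).trans nW
  have RW : R ≤ Nrm W := (le_inf (le_inf s.RV RB) RB₀).trans nW
  have FW : F ⊓ Nrm B₀ ≤ Nrm W :=
    (le_inf (le_inf (inf_le_left.trans s.FV) (inf_le_left.trans FB)) inf_le_right).trans nW
  have QW' : ∀ f ∈ F, Q ≤ Nrm (cj f W) := fun f hf => by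
    rw [← cj_nrm, ← cj_of_mem_nrm (s.FQ hf)]; exact cj_mono f QW
  have gen : ∀ y, (∀ f ∈ F, y ∈ Cent (cj f W)) → y ∈ Cent V := fun y hy => by
    have l : ⨆ f ∈ (F : Set Γ), cj f W ≤ V := iSup₂_le fun f hf => cj_of_mem_nrm (s.FV hf) ▸ cj_mono f WV
    refine l.eq_or_lt.elim (fun e => e ▸ cent_iSup hy) fun e => (nx' _ ((cj_one W).ge.trans
      (le_iSup₂_of_le 1 F.one_mem le_rfl)) (ih _ l _ le_rfl _ le_rfl (Or.inl e) (s.sub l le_rfl le_rfl
        (fun a ha => nrm_iSup fun f hf => ⟨f, hf, (cj_of_mem_nrm (QW' f hf ha)).le⟩)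
        (fun a ha => nrm_iSup fun f hf => ⟨a * f, F.mul_mem ha hf, (cj_mul _ _ _).ge⟩)
        (fun a ha => nrm_iSup fun f hf => ⟨a * f * a⁻¹, conj_mem_of_mem_nrm (s.RF ha) hf, ?_⟩)
        s.FQ s.RQ s.RF (eq_bot_of_le (inf_le_inf_right _ l) s.fV) (Or.inr rfl) s.xQ))).elim
    rw [cj_mul, cj_mul, cj_of_mem_nrm (inv_mem (RW ha))]
  have w1 : W ⊓ Cent (F ⊓ Nrm B₀) = ⊥ := by
    obtain ⟨D, d1, d2⟩ := exists_compl cV cB BV hW.2.1
    refine eq_bot_iff.2 fun w hw => d1 ▸ mem_inf.2 ⟨hw.1, norm_mem (L := Nrm B₀) cV s.FV s.cFV s.fV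
      (WV hw.1) (fun f hf k => ?_) fun f hf k => hW.le_compl b2 d2 (s.FV hf) (FB hf) k hw.1⟩
    rw [mem_cent.1 hw.2 f ⟨hf, k⟩]
    simp
  set F₂ := centMod F (Zc Q) B₀
  have f1 : F₂ ≤ F ⊓ Nrm B₀ := inf_le_inf_left _ (qpre_le_nrm _)
  have f2 : ⁅F₂, Zc Q⁆ ≤ B₀ := ((le_centMod_iff BB (f1.trans inf_le_right)).1 le_rfl).2
  have RF₁ := nrm_inf s.RF (nrm_nrm RB₀)
  have RF₂ : R ≤ Nrm F₂ := nrm_centMod s.RF RB RB₀
  have f3 : F ⊓ Nrm B₀ ≤ F₂ ⊔ F ⊓ Nrm B₀ ⊓ Cent R := (coprime_cent_prod RF₁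
    (coprime_of_le s.cRF le_rfl inf_le_left) (Or.inl (sol_prime s.pR))).ge.trans (sup_le_sup_right
      ((le_centMod_iff BB ((commutator_le_left' RF₁).trans inf_le_right)).2
        ⟨(commutator_le_left' RF₁).trans inf_le_left, H98.three_subgroups inf_le_right RB₀ BB
          ((commutator_mono ((commutator_comm _ _).trans_le b1) le_rfl).trans
            (commutator_le_left' inf_le_right))
          ((commutator_mono (commutator_le_left' (inf_le_left.trans FB)) le_rfl).trans b1)⟩) _)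
  by_cases a : F₂ ⊓ Cent R = ⊥
  · have w2 : W ⊓ Cent F₂ = ⊥ := by_contra fun n => by
      set C := F ⊓ Nrm B₀ ⊓ Cent R
      have c1 : W ⊓ Cent F₂ ⊓ Cent C = ⊥ := eq_bot_of_le (by
        rw [inf_assoc, ← cent_sup]; exact inf_le_inf_left _ (cent_anti f3)) w1
      have c0 : C ≠ ⊥ := fun e => n (by rwa [e, cent_bot, inf_top_eq] at c1)
      have l : C ≤ F ⊓ Cent R := inf_le_inf_right _ inf_le_left
      have pz := (s.z.resolve_left fun e => c0 (eq_bot_of_le l e)).1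
      have pC : (Nat.card C).Prime := ((eq_bot_or_eq_of_prime pz l).resolve_left c0).symm ▸ pz
      have CF : C ≤ F := inf_le_left.trans inf_le_left
      have CB₀ : C ≤ Nrm B₀ := inf_le_left.trans inf_le_right
      have := comm_cent cB (comm_of_le cV (inf_le_left.trans WV)) pC (CF.trans FB)
        (commutator_le_right_iff.1 (le_inf ((commutator_mono le_rfl inf_le_left).trans
          (commutator_le_right' hW.2.1)) (le_cent_symm (commutator_eq_bot_iff'.1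
            (commutator_commutator_eq_bot_of_rotate
              (by rw [commutator_eq_bot_iff.2 inf_le_right, commutator_bot_left])
              (commutator_eq_bot_iff'.2 (inf_le_left.trans (hW.1.trans (inf_le_right.trans
                (cent_anti f2))))))))))
        (nrm_inf (inf_le_left.trans FW) (nrm_cent (nrm_centMod (nrm_of_le CF) (CF.trans FB) CB₀)))
        (coprime_of_le s.cFQ CF inf_le_left) (coprime_of_le cBV le_rfl (inf_le_left.trans WV)) c1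
      exact c0 (eq_bot_of_le (le_inf ((le_centMod_iff BB CB₀).2 ⟨CF, (commutator_comm _ _).trans_le
        fun b hb => hW.mem inf_le_left n (commutator_le_left' (CF.trans FB) hb) (this hb)⟩) inf_le_right) a)
    have s2 := s.sub WV le_rfl (f1.trans inf_le_left) QW (f1.trans FW) RW
      (f1.trans (inf_le_left.trans s.FQ)) s.RQ RF₂ w2 (Or.inl a) s.xQ
    refine nx' W le_rfl (WV.eq_or_lt.elim (fun e => ?_) fun e => ih _ WV _ le_rfl _
      (f1.trans inf_le_left) (Or.inl e) s2)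
    subst e
    obtain rfl := eq_bot_of_le (le_inf (b2.trans inf_le_left)
      (le_cent_symm (hW.1.trans inf_le_right))) K
    exact s2.hom cV (fun Q' h => ih _ le_rfl _ h.le _ (f1.trans inf_le_left) (Or.inr (Or.inl h))) hW b1 a
  have l : F₂ ⊓ Cent R ≤ F ⊓ Cent R := inf_le_inf_right _ (f1.trans inf_le_left)
  obtain ⟨pz, qF⟩ := s.z.resolve_left fun e => a (eq_bot_of_le l e)
  have zF : F ⊓ Cent R ≤ F₂ := ((eq_bot_or_eq_of_prime pz l).resolve_left a).ge.trans inf_le_left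
  have f4 : F ⊓ Nrm B₀ ≤ F₂ := f3.trans (sup_le le_rfl ((inf_le_inf_right _ inf_le_left).trans zF))
  obtain ⟨z, hz, z1⟩ := (Subgroup.bot_or_exists_ne_one _).resolve_left (nil_meet_zc s.nQ
    (normalIn_inf_of_nrm (nrm_cent (H := ⨆ f ∈ {f ∈ F | f ∉ Nrm B₀}, cj f W) fun a ha =>
      nrm_iSup fun f hf => ⟨f, hf, (cj_of_mem_nrm (QW' f hf.1 ha)).le⟩)) fun e => nx (by
      rw [mem_bot.1 (e.le ⟨s.xQ, cent_iSup fun f hf => s.reg cV (hW.cj (s.FV hf.1) (FB hf.1))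
        (cj_of_mem_nrm (FB hf.1) ▸ cj_mono f b2) (QW' f hf.1) fun k => hf.2 (mem_nrm_of_cj s.RF s.cRF
          (sol_prime s.pR) RB₀ (zF.trans (f1.trans inf_le_right)) hf.1 k)⟩)]
      exact one_mem _))
  have z2 : ∀ f ∈ F, f ∉ Nrm B₀ → z ∈ Cent (cj f W) := fun f hf n =>
    cent_anti (le_iSup₂_of_le f ⟨hf, n⟩ le_rfl) hz.1.2
  have z3 : z ∈ B₀ := norm_mem (L := Nrm B₀) cB FB (coprime_of_le s.cFQ le_rfl inf_le_left)
    (eq_bot_of_le (inf_le_inf_right _ inf_le_left) qF) hz.2 (fun f hf k => by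
      have := f2 (commutator_mem_commutator (f4 ⟨hf, k⟩) hz.2)
      rw [commutatorElement_def] at this
      rwa [← mem_cent.1 (comm_iff_le_cent.1 cB (inv_mem hz.2)) _ (conj_mem_of_mem_nrm (FB hf) hz.2)])
    fun f hf k => hW.mem le_rfl W0 (conj_mem_of_mem_nrm (FB hf) hz.2) (by
      have := z2 _ (inv_mem hf) fun m => k (inv_mem_iff.1 m)
      rwa [← cj_cent, mem_cj, inv_inv] at this)
  refine z1 (mem_bot.1 (K ▸ mem_inf.2 ⟨hz.2.1, gen z fun f hf => ?_⟩))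
  by_cases k : f ∈ Nrm B₀
  · rw [cj_of_mem_nrm (FW ⟨hf, k⟩)]
    exact le_cent_symm (hW.1.trans inf_le_right) z3
  · exact z2 f hf k

theorem sit_aux (n : ℕ) : ∀ {Γ : Type u} [Group Γ] [Finite Γ] {V Q F R : Subgroup Γ} {x : Γ},
    Nat.card V + Nat.card Q + Nat.card F < n → Sit V Q F R x → x ∈ Cent V := by
  induction n with
  | zero => exact fun h => absurd h (Nat.not_lt_zero _)
  | succ n ih =>
    intro Γ _ _ V Q F R x h s
    have xz := zpowers_le.2 s.xQ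
    have qu : ∀ K : Subgroup Γ, V ⊔ Q ⊔ F ⊔ R ≤ Nrm K → K ≠ ⊥ → K ≤ V ∨ K ≤ Q → ⁅zpowers x, V⁆ ≤ K :=
      fun K nK K0 l => by
      simp only [sup_le_iff] at nK
      rw [← quo_le_cent_iff (xz.trans nK.1.1.2) nK.1.1.1, quo_zpowers (nK.1.1.2 s.xQ), zpowers_le]
      have d : ∀ A : Subgroup Γ, (Nat.card A).Coprime (Nat.card V) → (Nat.card A).Coprime (Nat.card Q) →
          K ⊓ A = ⊥ := fun A h1 h2 => inf_eq_bot_of_coprime'
        (l.elim (coprime_of_le h1 le_rfl) (coprime_of_le h2 le_rfl)).symm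
      refine ih ?_ (s.toQuo nK.1.2 nK.2 (d F s.cFV s.cFQ) (d R s.cRV s.cRQ))
      have := Nat.le_of_dvd (card_pos' V) (card_quo_dvd V K)
      have := Nat.le_of_dvd (card_pos' Q) (card_quo_dvd Q K)
      have := Nat.le_of_dvd (card_pos' F) (card_quo_dvd F K)
      rcases l with l | l
      · have := card_quo_lt ⟨l, nK.1.1.1⟩ K0; omega
      · have := card_quo_lt ⟨l, nK.1.1.2⟩ K0; omega
    have nV : V ⊔ Q ⊔ F ⊔ R ≤ Nrm V := sup_le (sup_le (sup_le le_nrm_self s.QV) s.FV) s.RV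
    by_cases P : frattiniOf V = ⊥
    swap
    · exact zpowers_le.1 (coprime_cent_Phi (xz.trans s.QV) (coprime_of_le s.cQV xz le_rfl)
        ((commutator_comm _ _).trans_le (qu _ (nrm_frattiniOf nV) P (Or.inl (frattiniOf_le V)))))
    by_cases K : Q ⊓ Cent V = ⊥
    · refine s.main (der_eq_bot_iff.1 (eq_bot_of_le (der_le_frattiniOf_of_nil s.nV) P)) K
        fun V' h1 Q' h2 F' h3 k s' => ih ?_ s'
      have := card_le_of_le h1
      have := card_le_of_le h2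
      have := card_le_of_le h3
      rcases k with k | k | k <;> have := card_lt_of_lt k <;> omega
    exact zpowers_le.1 (commutator_eq_bot_iff.1 (eq_bot_of_le (le_inf ((qu _ (sup_le (sup_le (sup_le
      (nrm_of_le_cent (le_cent_symm inf_le_right)) (nrm_inf le_nrm_self (nrm_cent s.QV)))
      (nrm_inf s.FQ (nrm_cent s.FV))) (nrm_inf s.RQ (nrm_cent s.RV))) K (Or.inr inf_le_left)).trans
      inf_le_left) (commutator_le_right' (xz.trans s.QV))) (inf_eq_bot_of_coprime' s.cQV)))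

theorem Sit.cent (s : Sit V Q F R x) : x ∈ Cent V := sit_aux _ (Nat.lt_succ_self _) s

end H11.FL
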