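/- Frobenius-like operator groups: Fitting subgroup and Fitting height of the fixed points. -/
import Cfsg.Agent.H11.FL2
import Cfsg.Agent.H11.FPRows
import Cfsg.Agent.H26.FPThm
import Cfsg.Agent.H48.NRes
import Cfsg.Agent.H48.Blackburn
import Cfsg.Agent.H47.Final2
import Cfsg.Agent.H78.XSMap
import Cfsg.Agent.S3764

set_option autoImplicit false
set_option linter.unusedSectionVars false

open Cfsg hiding pRank
open Subgroup H46
open scoped commutatorElement

namespace H11.FL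

universe u
variable {Γ : Type u} [Group Γ] [Finite Γ]

structure Top (s : ℕ) (X F R : Subgroup Γ) : Prop where
  FX : F ≤ Nrm X
  RX : R ≤ Nrm X
  RF : R ≤ Nrm F
  pR : (Nat.card R).Prime
  ps : s.Prime
  ex : IsExtraspecial s F
  com : ⁅F, R⁆ = F
  cF : (Nat.card F).Coprime (Nat.card X)
  cR : (Nat.card R).Coprime (Nat.card X)
  cRF : (Nat.card R).Coprime (Nat.card F)
  sX : Group.IsSolvable X
  fX : X ⊓ Cent F = ⊥

variable {s : ℕ} {X F R N : Subgroup Γ}

theorem Top.zle (t : Top s X F R) : F ⊓ Cent R ≤ ⁅F, F⁆ := by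
  have n := (normalIn_der F).2
  have r := nrm_der t.RF
  rw [← quo_eq_bot_iff (inf_le_left.trans n),
    coprime_norm_quotient_cent' t.RF r t.cRF (Or.inl (sol_prime t.pR))]
  have := coprime_abel_cent_TI (comm_quo_der F) (quo_nrm _ t.RF)
    ((t.cRF.coprime_dvd_left (card_quo_dvd _ _)).coprime_dvd_right (card_quo_dvd _ _))
  rwa [← quo_commutator n r, t.com] at this

theorem Top.z (t : Top s X F R) : F ⊓ Cent R = ⊥ ∨ F ⊓ Cent R = ⁅F, F⁆ :=
  eq_bot_or_eq_of_prime ((H48.der_eq_zc_of_isExtraspecial t.ex).2.symm ▸ t.ps) t.zle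

theorem Top.quo_cent (t : Top s X F R) (h : R ≤ Nrm N) :
    quo X N ⊓ Cent (quo R N) = quo (X ⊓ Cent R) N :=
  (coprime_norm_quotient_cent' t.RX h t.cR (Or.inr t.sX)).symm

theorem Top.card_R (t : Top s X F R) (h : N ≤ X) (RN : R ≤ Nrm N) : Nat.card (quo R N) = Nat.card R :=
  card_quo_of_disjoint RN (inf_eq_bot_of_coprime' (coprime_of_le t.cR le_rfl h).symm)

theorem Top.toQuo (t : Top s X F R) (h : N ≤ X) (FN : F ≤ Nrm N) (RN : R ≤ Nrm N) :
    Top s (quo X N) (quo F N) (quo R N) := by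
  have c := fun {A B : Subgroup Γ} (h : (Nat.card A).Coprime (Nat.card B)) =>
    (h.coprime_dvd_left (card_quo_dvd A N)).coprime_dvd_right (card_quo_dvd B N)
  exact ⟨quo_nrm N t.FX, quo_nrm N t.RX, quo_nrm N t.RF, (t.card_R h RN).symm ▸ t.pR, t.ps,
    H78.isExtraspecial_of_equiv (quoEquiv FN (inf_eq_bot_of_coprime' (coprime_of_le t.cF le_rfl h).symm))
      t.ex, by rw [← quo_commutator FN RN, t.com], c t.cF, c t.cR, c t.cRF, sol_quo t.sX N,
    by rw [← coprime_norm_quotient_cent' t.FX FN t.cF (Or.inr t.sX), t.fX, bot_quo]⟩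

theorem Top.op_bot (t : Top s X F R) {q : ℕ} (hq : q.Prime) (h : Op q X = ⊥) :
    Op q (X ⊓ Cent R) = ⊥ := by
  have pF : IsPi {q}ᶜ (fittingOf X) := (nil_piCoreOf_hall {q} (fittingOf_nil X)).isPi_compl_of_eq_bot
    ((Op_fittingOf q X).trans h)
  have l := fittingOf_le X
  obtain ⟨Q, hQ, nQ⟩ := coprime_Hall_exists {q} (sup_le t.FX t.RX)
    ((Nat.Coprime.mul_left t.cF t.cR).coprime_dvd_left (card_sup_dvd t.RF)) t.sX
  have RQ := le_sup_right.trans nQ
  have SQ := (coprime_Hall_cent t.RX t.cR t.sX (sol_prime t.pR) hQ RQ).piCoreOf_le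
  have pS := isPi_piCoreOf {q} (X ⊓ Cent R)
  refine eq_bot_of_le (le_inf le_rfl fun x hx => cent_fittingOf_le t.sX ⟨hQ.1 (SQ hx).1,
    Sit.cent ⟨fittingOf_nil X, nil_of_isPGroup hq (hQ.isPGroup hq), hQ.1.trans (fittingOf_normalIn X).2,
      nrm_fittingOf t.FX, nrm_fittingOf t.RX, le_sup_left.trans nQ, RQ, t.RF, t.pR,
      IsPi.coprime hQ.2.1 pF, coprime_of_le t.cF le_rfl l, coprime_of_le t.cR le_rfl l,
      coprime_of_le t.cF le_rfl hQ.1, coprime_of_le t.cR le_rfl hQ.1, t.cRF,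
      eq_bot_of_le (inf_le_inf_right _ l) t.fX, t.z.imp_right fun e =>
        ⟨by rw [e, (H48.der_eq_zc_of_isExtraspecial t.ex).2]; exact t.ps,
          eq_bot_of_le (inf_le_inf_right _ hQ.1) t.fX⟩, (SQ hx).1, (SQ hx).2,
      cent_of_normalIn_of_coprime (piCoreOf_normalIn _ _) ⟨inf_le_inf_right _ l, nrm_inf
        (inf_le_left.trans (fittingOf_normalIn X).2) (nrm_cent (nrm_of_le_cent inf_le_right))⟩
        (pS.coprime (pF.of_le inf_le_left)) hx⟩⟩) (inf_eq_bot_of_coprime' (pS.coprime pF))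

theorem Top.fit_le (t : Top s X F R) : fittingOf (X ⊓ Cent R) ≤ fittingOf X := by
  refine nil_le_of_forall_Op (fittingOf_nil _) fun q hq _ => ?_
  have n := (piCoreOf_normalIn {q} X).2
  have r := nrm_piCoreOf {q} t.RX
  have := (t.toQuo (piCoreOf_le {q} X) (nrm_piCoreOf {q} t.FX) r).op_bot hq (by
    rw [Op, ← quo_piCoreOf n (isPi_piCoreOf _ _), quo_self])
  rw [t.quo_cent r] at this
  rw [Op_fittingOf]
  exact ((quo_eq_bot_iff ((piCoreOf_le _ _).trans (inf_le_left.trans n))).1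
    (eq_bot_of_le (quo_piCoreOf_le _ _ _) this)).trans (Op_le_fittingOf q X)

theorem Top.base (t : Top s X F R) (hr : ¬ ∃ k : ℕ, Nat.card R = 2 ^ k + 1) (h : X ⊓ Cent R = ⊥) :
    X = ⊥ := by
  by_contra n
  obtain ⟨V, hV, l⟩ := exists_minNormal_le n (sup_le t.RX t.FX)
  obtain ⟨p, hp, pd, eV⟩ := hV.exists_elem (sol_of_le t.sX l)
  have cV := hV.comm (sol_of_le t.sX l)
  have RV := le_sup_left.trans hV.nrm
  have FV := le_sup_right.trans hV.nrm
  have cF := coprime_of_le t.cF le_rfl l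
  have VR := eq_bot_of_le (inf_le_inf_right _ l) h
  have nF : ¬ F ≤ Cent V := fun k => hV.ne_bot (eq_bot_of_le (le_inf l (le_cent_symm k)) t.fX)
  obtain ⟨e1, e2⟩ := H48.der_eq_zc_of_isExtraspecial t.ex
  have sF : s ∣ Nat.card F := e2 ▸ card_dvd_of_le (der_le F)
  rcases t.z with z | z
  · exact nF (H47.frobenius_cent_of_cent_compl t.RF (semiregular_of_prime t.pR z) cV FV RV cF.symm VR)
  by_cases k : ⁅F, F⁆ ≤ Cent V
  · have a := (normalIn_der F).2
    have b := nrm_der t.RF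
    have c := nrm_of_le_cent (le_cent_symm k)
    have := H47.frobenius_cent_of_cent_compl (quo_nrm ⁅F, F⁆ t.RF) (semiregular_of_prime (by
        rw [card_quo_of_disjoint b (inf_eq_bot_of_coprime' (coprime_of_le t.cRF le_rfl (der_le F)).symm)]
        exact t.pR) (by
        rw [← coprime_norm_quotient_cent' t.RF b t.cRF (Or.inl (sol_prime t.pR)), z, quo_self]))
      (comm_quo cV _) (quo_nrm _ FV) (quo_nrm _ RV)
      ((cF.symm.coprime_dvd_left (card_quo_dvd _ _)).coprime_dvd_right (card_quo_dvd _ _)) (by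
        rw [← coprime_norm_quotient_cent' RV b (coprime_of_le t.cR le_rfl l) (Or.inl (sol_prime t.pR)),
          VR, bot_quo])
    exact nF (commutator_eq_bot_iff.1 (eq_bot_of_le (le_inf (((quo_le_cent_iff a c).1 this).trans
      (der_le F)) (commutator_le_right' FV)) (inf_eq_bot_of_coprime' cF)))
  have FK : F ⊓ Cent V = ⊥ := by_contra fun m => k (le_of_prime_of_inf_ne_bot (e2.symm ▸ t.ps) fun o =>
    nil_meet_zc (nil_of_isPGroup t.ps t.ex.1.1) (normalIn_inf_of_nrm (nrm_cent FV)) m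
      (eq_bot_of_le (le_inf (inf_le_right.trans e1.ge) (inf_le_left.trans inf_le_right)) o))
  refine hr ((Cfsg.Agent.S3764.result hp t.ps t.pR
    (fun e => hp.one_lt.ne' (Nat.eq_one_of_dvd_coprimes cF (e ▸ sF) pd))
    (fun e => hp.one_lt.ne' (Nat.eq_one_of_dvd_coprimes (coprime_of_le t.cR le_rfl l) (e ▸ dvd_rfl) pd))
    (fun e => t.ps.one_lt.ne' (Nat.eq_one_of_dvd_coprimes t.cRF (e ▸ dvd_rfl) sF)) R F V rfl t.ex t.RF
    (by rw [H47.map_center_subtype, ← e1, ← z]) eV RV FV ?_ VR).2.imp fun _ => And.left)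
  refine eq_bot_iff.2 fun g hg => by_contra fun g1 => ?_
  have KF : (R ⊔ F) ⊓ Cent V ≤ Cent F := cent_of_nrm_of_disjoint
    (inf_le_left.trans (sup_le t.RF le_nrm_self)) (nrm_inf (nrm_of_le le_sup_right) (nrm_cent FV))
    (eq_bot_of_le (le_inf inf_le_right (inf_le_left.trans inf_le_right)) FK)
  obtain ⟨y, hy, f, hf, rfl⟩ := (mem_sup_of_nrm' t.RF).1 hg.1
  have : R ≤ Cent F ⊔ F := by
    rw [← eq_zpowers_of_card_prime t.pR hy fun e => g1 (FK.le ⟨by rwa [e, one_mul], hg.2⟩), zpowers_le,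
      ← mul_inv_cancel_right y f]
    exact mul_mem (mem_sup_left (KF hg)) (mem_sup_right (inv_mem hf))
  refine (der_lt_of_sol (sol_of_nil (nil_of_isPGroup t.ps t.ex.1.1)) fun e => nF (e ▸ bot_le)).not_ge
    (t.com.ge.trans ((commutator_mono le_rfl this).trans (H98.commutator_sup_right_le
      (nrm_der (cent_le_nrm F)) (normalIn_der F).2 ?_ le_rfl)))
  rw [commutator_eq_bot_iff'.2 le_rfl]
  exact bot_le

theorem height (n : ℕ) : ∀ {Γ : Type u} [Group Γ] [Finite Γ] {X F R : Subgroup Γ}, Top s X F R →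
    (¬ ∃ k : ℕ, Nat.card R = 2 ^ k + 1) → H48.nres^[n] (X ⊓ Cent R) = ⊥ → H48.nres^[n] X = ⊥ := by
  induction n with
  | zero => exact fun t hr h => t.base hr h
  | succ n ih =>
    intro Γ _ _ X F R t hr h
    have a := (fittingOf_normalIn X).2
    have r := nrm_fittingOf t.RX
    rw [Function.iterate_succ_apply', H48.nres_eq_bot_iff] at h ⊢
    have := ih (t.toQuo (fittingOf_le X) (nrm_fittingOf t.FX) r) (t.card_R (fittingOf_le X) r ▸ hr) (by
      rw [t.quo_cent r, ← H48.quo_nresI n (inf_le_left.trans a)]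
      exact quo_eq_bot_of_le ((le_fittingOf (H48.nresI_normalIn n _) h).trans t.fit_le))
    rw [← H48.quo_nresI n a, quo_eq_bot_iff ((H48.nresI_le_self n X).trans a)] at this
    exact nil_of_le_fittingOf this

theorem top {r : ℕ} (hr : r.Prime) (hs : s.Prime) (hR : Nat.card R = r) (hF : IsExtraspecial s F)
    (RF : R ≤ Nrm F) (com : ⁅F, R⁆ = F) (RX : R ≤ Nrm X) (FX : F ≤ Nrm X) (hc : ¬ r ∣ Nat.card X)
    (fX : X ⊓ Cent F = ⊥) : Top s X F R := by
  have := Fact.mk hs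
  obtain ⟨k, hk⟩ := hF.1.1.exists_card_eq
  have F0 : F ≠ ⊥ := fun e => hs.one_lt.ne' (by
    rw [← (H48.der_eq_zc_of_isExtraspecial hF).2, e, commutator_bot_left, card_bot])
  have cF : (Nat.card F).Coprime (Nat.card X) := hk ▸ ((hs.coprime_iff_not_dvd.2 fun d => by
    obtain ⟨P, hP, l⟩ := exists_sylow_ge hs hF.1.1 (le_sup_right : F ≤ X ⊔ F)
    exact nil_meet_cent (nil_of_isPGroup hs (hP.isPGroup hs)) (hP.1.trans (sup_le le_nrm_self FX))
      (inf_comm P X ▸ (hP.inf_normal (normalIn_sup_left FX)).ne_bot hs rfl d)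
      (eq_bot_of_le (inf_le_inf inf_le_left (cent_anti l)) fX)).pow_left k)
  refine ⟨FX, RX, RF, hR ▸ hr, hs, hF, com, cF, hR ▸ hr.coprime_iff_not_dvd.2 hc, ?_,
    H11.FP.s2965_of H26.FP.thm F X FX cF (Or.inl (fX ▸ nil_bot)), fX⟩
  rw [hk, hR]
  refine ((Nat.coprime_primes hr hs).2 fun e => ?_).pow_right k
  exact (nil_commutator_lt (nil_of_isPGroup hs (hF.1.1.to_sup_of_normal_left'
    (IsPGroup.of_card (n := 1) (by rw [hR, e, pow_one])) RF)) le_sup_left le_sup_right RF F0).ne com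

end H11.FL
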