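/- Tower FPF: the row S4241 from `H26.FP.Thm`. -/
import Cfsg.Agent.H11.FPRows
import Cfsg.Agent.H18.InvMax2

set_option autoImplicit false

open Cfsg hiding pRank
open Subgroup H46 H26.FP SemidirectProduct

namespace H11.FP

universe u

theorem max_nil (h : Thm.{u}) : ∀ (n : ℕ) {Γ : Type u} [Group Γ] [Finite Γ] {G A : Subgroup Γ}
    (p : ℕ), Nat.card G = n → A ≤ Nrm G → (Nat.card A).Coprime (Nat.card G) → p.Prime →
    p ∣ Nat.card G → (∀ K < G, A ≤ Nrm K → p ∣ Nat.card K → Group.IsNilpotent K) →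
    Group.IsSolvable G := by
  intro n
  induction n using Nat.strong_induction_on with | _ n ih => ?_
  intro Γ _ _ G A p hn nG cop hp hd hy
  have := Fact.mk hp
  have all : ∀ {X : Type u} [Group X] [Finite X] {K B : Subgroup X}, Nat.card K < n → B ≤ Nrm K →
      (Nat.card B).Coprime (Nat.card K) → (∀ L < K, B ≤ Nrm L → Group.IsNilpotent L) →
      Group.IsSolvable K := fun {X _ _ K B} h1 h2 h3 h4 => by
    by_cases e : K = ⊥
    · rw [e]; infer_instance
    · exact ih _ h1 _ rfl h2 h3 (Nat.minFac_prime fun k => e (card_eq_one.1 k)) (Nat.minFac_dvd _)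
        fun L a b _ => h4 L a b
  rcases Nat.even_or_odd (Nat.card G) with he | ho
  swap
  · exact H42.odd_order ho
  have sA : Group.IsSolvable A :=
    H42.odd_order (Nat.coprime_two_right.1 (cop.coprime_dvd_right he.two_dvd))
  by_cases hN : ∃ N ≤ G, N ≠ ⊥ ∧ IsPGroup p N ∧ G ≤ Nrm N ∧ A ≤ Nrm N
  · obtain ⟨N, h1, h2, h3, h4, h5⟩ := hN
    refine sol_of_quo h4 (isPi_of_isPGroup hp h3).sol (all (B := A ⧸ₙ N)
      (hn ▸ card_quo_lt ⟨h1, h4⟩ h2) (quo_nrm N nG) ((cop.coprime_dvd_left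
        (card_quo_dvd _ _)).coprime_dvd_right (card_quo_dvd _ _)) fun L k1 k2 => ?_)
    rw [← qpre_quo_self L]
    refine nil_quo (hy _ (lt_of_le_of_ne ((qpre_le_iff ⟨h1, h4⟩).2 k1.le) fun e => k1.ne ?_)
      (le_nrm_qpre h5 k2) (((isPi_of_isPGroup hp h3).prime_and_dvd h2).2.trans
        (card_dvd_of_le (le_qpre L)))) N
    rw [← e, qpre_quo_self]
  have loc : ∀ N ≤ G, N ≠ ⊥ → IsPGroup p N → A ≤ Nrm N → Group.IsNilpotent ↥(G ⊓ Nrm N) :=
    fun N h1 h2 h3 h4 => hy _ (inf_lt_left.2 fun k => hN ⟨N, h1, h2, h3, k, h4⟩)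
      (H98.le_normalizer_inf nG (h4.trans le_normalizer))
      (((isPi_of_isPGroup hp h3).prime_and_dvd h2).2.trans (card_dvd_of_le (le_inf h1 le_normalizer)))
  obtain ⟨P, hP, nP⟩ := coprime_Sylow_exists hp nG cop (Or.inl sA)
  have pP := hP.isPGroup hp
  have P0 : P ≠ ⊥ := fun e => (isPi_compl_singleton hp).1 (hP.isPi_compl_of_eq_bot e) hd
  by_cases hC : p = 2 ∧ ¬ G ≤ Cent A
  · obtain ⟨rfl, hC⟩ := hC
    refine h _ G A ⟨nG, cop, ?_⟩
    rcases Nat.even_or_odd (Nat.card ↥(G ⊓ Cent A)) with e | e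
    · exact dec_of_nil (hy _ (inf_lt_left.2 hC) (H98.le_normalizer_inf nG
        (le_normalizer.trans (H98.normalizer_le_normalizer_centralizer A))) e.two_dvd)
    · exact dec_of_odd e
  have npc : NPC p G := (npc_iff hp).2 (by
    by_cases e : p = 2
    · have hC' : A ≤ Cent G := le_centralizer_iff.1 (by_contra fun k => hC ⟨e, k⟩)
      refine H18.IM.frob fun Q h1 h2 => H98.res_le_of_forall fun x hx ox => ?_
      by_cases q : Q = ⊥
      · rw [q]; exact fun y hy => by rw [mem_bot.1 hy, one_mul, mul_one]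
      obtain ⟨k, hk⟩ := h2.exists_card_eq
      exact nil_cent_of_coprime (loc Q h1 q h2 (hC'.trans ((centralizer_le h1).trans
        (centralizer_le_normalizer _)))) (zpowers_le.2 hx) (le_inf h1 le_normalizer)
        (by rw [card_zpowers', hk]; exact ox.pow_right k) (mem_zpowers x)
    · have hZ := H10.isCharFunctor_centerThompsonOf.{u} p
      have := loc _ ((hZ.le _ P).trans hP.1) (hZ.ne_bot _ P pP P0) (pP.to_le (hZ.le _ P))
        (nP.trans (H7.normalizer_le_normalizer_centerThompsonOf (p := p) P))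
      obtain ⟨S, rfl⟩ := hP.exists_sylow
      exact H18.IM.npc_of_zj e (H98.isSyl_map_subtype S) le_rfl)
  have sd := npc_isSd npc hP
  have nK : A ≤ Nrm (Op' p G) := nG.trans (nrm_le_nrm_piCoreOf _ _)
  have cK : (Nat.card P).Coprime (Nat.card (Op' p G)) :=
    (isPi_of_isPGroup hp pP).coprime (isPi_piCoreOf {p}ᶜ G)
  generalize Op' p G = K at sd nK cK
  rw [← sd.sup]
  refine sol_sup sd.norm (all (B := P ⊔ A) ?_ (sup_le sd.norm nK) ?_ fun L k1 k2 => ?_)
    (isPi_of_isPGroup hp pP).sol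
  · rw [← hn, ← sd.card]
    exact lt_mul_of_one_lt_right Nat.card_pos ((one_lt_card_iff_ne_bot _).2 P0)
  · exact (cK.mul_left (cop.coprime_dvd_right (card_dvd_of_le sd.le_left))).coprime_dvd_left
      (card_sup_dvd nP)
  · refine nil_of_le (hy (L ⊔ P) (lt_of_le_of_ne (sup_le (k1.le.trans sd.le_left) sd.le_right)
      fun e => ?_) (H98.le_normalizer_sup (le_sup_right.trans k2) nP)
      (((isPi_of_isPGroup hp pP).prime_and_dvd P0).2.trans (card_dvd_of_le le_sup_right))) le_sup_left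
    have := card_sup_dvd (le_sup_left.trans k2 : P ≤ Nrm L)
    rw [e, ← sd.card] at this
    exact (Nat.le_of_dvd Nat.card_pos (Nat.dvd_of_mul_dvd_mul_right Nat.card_pos this)).not_gt
      (H46.card_lt_of_lt k1)

theorem sdinv_iff {G : Type*} [Group G] [Finite G] (A : Subgroup (MulAut G)) [Finite (G ⋊[A.subtype] A)]
    (H : Subgroup G) : (inr : A →* G ⋊[A.subtype] A).range ≤ Nrm (H.map (inl : G →* G ⋊[A.subtype] A)) ↔
      ∀ a ∈ A, ∀ h ∈ H, a h ∈ H := by
  constructor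
  · intro k a ha h hh
    have := H98.conj_mem_of_mem_normalizer (k ⟨⟨a, ha⟩, rfl⟩) (mem_map_of_mem inl hh)
    rwa [← map_inv, ← inl_aut, mem_map_iff_mem inl_injective] at this
  · rintro k _ ⟨a, rfl⟩
    refine H98.mem_normalizer_of_cj_le ?_
    rintro _ ⟨_, ⟨h, hh, rfl⟩, rfl⟩
    exact ⟨_, k a a.2 h hh, (inl_aut (φ := A.subtype) a h).trans (by simp)⟩

theorem s4241_of (h : Thm.{u}) {A : Type*} {G : Type u} [Group A] [Group G] [Finite G]
    [MulDistribMulAction A G] (hcop : (Nat.card A).Coprime (Nat.card G)) (p : ℕ) (hp : p.Prime)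
    (hpG : p ∣ Nat.card G) (hmax : ∀ H : Subgroup G, H ≠ ⊤ → (∀ a : A, ∀ x ∈ H, a • x ∈ H) →
      (∀ K : Subgroup G, H < K → (∀ a : A, ∀ x ∈ K, a • x ∈ K) → K = ⊤) → p ∣ Nat.card H →
      Group.IsNilpotent H) : Group.IsSolvable G := by
  set B := (MulDistribMulAction.toMulAut A G).range
  have : Finite (G ⋊[B.subtype] B) := Finite.of_equiv _ SemidirectProduct.equivProd.symm
  have hi : Function.Injective (inl : G →* G ⋊[B.subtype] B) := inl_injective
  have c : Nat.card ↥((⊤ : Subgroup G).map (inl : G →* G ⋊[B.subtype] B)) = Nat.card G := by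
    rw [card_map_of_injective hi, card_top]
  have := max_nil h _ (G := (⊤ : Subgroup G).map (inl : G →* G ⋊[B.subtype] B))
    (A := (inr : B →* G ⋊[B.subtype] B).range) p rfl ((sdinv_iff B ⊤).2 fun _ _ _ _ => mem_top _)
    ?_ hp (c ▸ hpG) fun K h1 h2 h3 => ?_
  · exact Group.isSolvable_of_isSolvable_injective
      (f := ((inl : G →* G ⋊[B.subtype] B).subgroupMap ⊤).comp (topEquiv (G := G)).symm.toMonoidHom)
      fun a b e => hi (congrArg Subtype.val e)
  · rw [c, ← Nat.card_congr (MonoidHom.ofInjective inr_injective).toEquiv]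
    exact hcop.coprime_dvd_left (card_range_dvd _)
  · obtain ⟨L, rfl⟩ : ∃ L : Subgroup G, L.map inl = K :=
      ⟨_, map_comap_eq_self (by rw [MonoidHom.range_eq_map]; exact h1.le)⟩
    rw [card_map_of_injective hi] at h3
    obtain ⟨M, h4, h5⟩ := Finite.exists_le_maximal
      (p := fun M : Subgroup G => M ≠ ⊤ ∧ ∀ a : A, ∀ x ∈ M, a • x ∈ M) (a := L)
      ⟨fun e => h1.ne (by rw [e]), fun a => (sdinv_iff B L).1 h2 _ ⟨a, rfl⟩⟩
    have := nil_of_le (hmax M h5.prop.1 h5.prop.2 (fun K k1 k2 => by_contra fun k3 =>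
      k1.not_ge (h5.le_of_ge ⟨k3, k2⟩ k1.le)) (h3.trans (card_dvd_of_le h4))) h4
    exact H2.isNilpotent_map _ _

end H11.FP
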