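/- Tower FPF: the row S4165 from `H26.FP.Thm`. -/
import Cfsg.Agent.H11.FPMax
import Cfsg.Agent.H4.Cover

set_option autoImplicit false

open Cfsg hiding pRank
open Subgroup H46 H26.FP SemidirectProduct

namespace H11.FP

universe u

theorem cls_fin (h : Thm.{u}) {Γ : Type u} [Group Γ] [Finite Γ] {G A K : Subgroup Γ} (nG : A ≤ Nrm G)
    (cop : (Nat.card A).Coprime (Nat.card G)) (hK : K ⊴ G) (nK : A ≤ Nrm K) (d1 : Dec (K ⊓ Cent A))
    (d2 : (∀ y ∈ G ⊓ Cent A, (∃ k, y ^ 2 ^ k = 1) → y ∈ K) ∨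
      ∀ x ∈ G ⊓ Cent A, x ∈ K ∨ Odd ((Cent1 x).relIndex G)) : Group.IsSolvable G := by
  rcases Nat.even_or_odd (Nat.card G) with he | ho
  swap
  · exact H42.odd_order ho
  have sA : Group.IsSolvable A :=
    H42.odd_order (Nat.coprime_two_right.1 (cop.coprime_dvd_right he.two_dvd))
  have cK := cop.coprime_dvd_right (card_dvd_of_le hK.1)
  refine sol_of_quo hK.2 (h _ K A ⟨nK, cK, d1⟩) (h _ (G ⧸ₙ K) (A ⧸ₙ K) ⟨quo_nrm K nG,
    (cop.coprime_dvd_left (card_quo_dvd _ _)).coprime_dvd_right (card_quo_dvd _ _), ?_⟩)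
  change Dec ((G ⧸ₙ K) ⊓ Cent (A ⧸ₙ K))
  rw [← coprime_quotient_cent hK.1 nK cK (Or.inl sA)]
  intro x hx y hy _ ⟨k, ey⟩
  obtain ⟨z, hz, nz, rfl⟩ := mem_quo.1 hy
  obtain ⟨e, f, ef, ⟨j, hj⟩, hf⟩ := H24.exists_p_decomp Nat.prime_two z
  have e1 : qel K (z ^ f) = 1 := orderOf_eq_one_iff.1 (Nat.eq_one_of_dvd_coprimes
    (((Nat.Prime.coprime_iff_not_dvd Nat.prime_two).2 hf).pow_left k)
    (orderOf_dvd_of_pow_eq_one (by rw [qel, mel_pow _ nz, ← pow_mul, mul_comm, pow_mul, ey, one_pow]))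
    (orderOf_mel_dvd _ _))
  have e2 : qel K z = qel K (z ^ e) := by
    have := mel_mul (qmap K) (pow_mem nz e) (pow_mem nz f)
    rw [ef] at this
    exact this.trans ((congrArg _ e1).trans (mul_one _))
  have hy' := pow_mem hz e
  rw [e2]
  generalize z ^ e = y at hj hy'
  have p2 : IsPGroup 2 (zpowers y) := IsPGroup.of_card (by rw [card_zpowers', hj])
  rcases d2 with d | d
  · rw [qel_of_mem (d y hy' ⟨j, hj ▸ pow_orderOf_eq_one y⟩), mul_one, one_mul]
  obtain ⟨S, hS, nS, yS⟩ := coprime_Sylow_subset Nat.prime_two nG cop (Or.inl sA)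
    (zpowers_le.2 hy'.1) p2 (nrm_of_le_cent (le_centralizer_iff.1 (zpowers_le.2 hy'.2)))
  have key : G ⊓ Cent A ≤ K ⊔ (G ⊓ Cent1 y) := H4.le_of_forall_conj_mem fun x hx => by
    rcases d x hx with k | k
    · exact ⟨1, one_mem _, mem_sup_left (by simpa using k)⟩
    have n1 : A ≤ Nrm (G ⊓ Cent1 x) := H98.le_normalizer_inf nG
      (nrm_cent1 fun a ha => mem_centralizer_singleton_iff.2 (hx.2 a ha))
    obtain ⟨T, hT, nT⟩ := coprime_Sylow_exists Nat.prime_two n1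
      (cop.coprime_dvd_right (card_dvd_of_le inf_le_left)) (Or.inl sA)
    have hT' : IsSylowOf 2 T G := isSylowOf_mk Nat.prime_two (hT.1.trans inf_le_left)
      (hT.isPGroup Nat.prime_two) (by
        rw [← relIndex_mul_relIndex T _ G hT.1 inf_le_left, inf_comm, inf_relIndex_right,
          Nat.prime_two.dvd_mul, not_or]
        exact ⟨inf_comm G _ ▸ hT.not_dvd Nat.prime_two, k.not_two_dvd_nat⟩)
    obtain ⟨c, hc, e⟩ := coprime_Sylow_trans Nat.prime_two nG cop (Or.inl sA) hT' nT hS nS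
    obtain ⟨t, ht, et⟩ := (e ▸ yS : zpowers y ≤ cj c T) (mem_zpowers y)
    refine ⟨c, hc, mem_sup_right ⟨G.mul_mem (G.mul_mem hc.1 hx.1) (G.inv_mem hc.1),
      mem_centralizer_singleton_iff.2 ?_⟩⟩
    have := mem_centralizer_singleton_iff.1 (hT.1 ht).2
    rw [← et]
    change c * x * c⁻¹ * (c * t * c⁻¹) = c * t * c⁻¹ * (c * x * c⁻¹)
    calc _ = c * (x * t) * c⁻¹ := by group
      _ = _ := by rw [← this]; group
  have := quo_mono K key hx
  rw [sup_quo_self (inf_le_left.trans hK.2)] at this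
  obtain ⟨w, hw, nw, rfl⟩ := mem_quo.1 this
  rw [qel, qel, ← mel_mul _ nw (hK.2 hy'.1), mem_centralizer_singleton_iff.1 hw.2, mel_mul _ (hK.2 hy'.1) nw]

open H4 in
theorem cls_main (h : Thm.{u}) {G : Type u} [Group G] [Finite G] (A : Subgroup (MulAut G))
    (cop : (Nat.card A).Coprime (Nat.card G)) (X Y : Set G)
    (cov : ∀ x, (1 < ind x ∧ ∀ φ ∈ A, IsConj x (φ x)) ↔ (x ∈ X ∨ x ∈ Y))
    (spl : ∀ x ∈ X, ∀ y ∈ Y, (ind x).Coprime (ind y)) {b d : G} (hb : b ∈ X) (hd : d ∈ Y)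
    (mx : ∀ z, (∀ φ ∈ A, IsConj z (φ z)) → ind z ≤ ind b) : Group.IsSolvable G := by
  have imul : ∀ x y, x ∈ X ∨ x ∈ Y → y ∈ X ∨ y ∈ Y → (ind x).Coprime (ind y) →
      ∀ φ ∈ A, IsConj (x * y) (φ (x * y)) := fun x y hx hy c φ hφ => by
    obtain ⟨a, ea⟩ := isConj_iff.1 (((cov x).2 hx).2 φ hφ)
    obtain ⟨a', ea'⟩ := isConj_iff.1 (((cov y).2 hy).2 φ hφ)
    rw [map_mul, ← ea, ← ea']
    exact isConj_mul_of_coprime c a a'
  have yof : ∀ y ∈ Y, ∀ z, 1 < ind z → ind z ∣ ind y → (∀ φ ∈ A, IsConj z (φ z)) → z ∈ Y :=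
    fun y hy z h1 h2 h3 => ((cov z).1 ⟨h1, h3⟩).resolve_left fun k =>
      h1.ne' ((spl z k y hy).eq_one_of_dvd h2)
  have ycj : ∀ y ∈ Y, ∀ z, IsConj y z → z ∈ Y := fun y hy z c => by
    have e : ind z = ind y := by obtain ⟨g, rfl⟩ := isConj_iff.1 c; exact ind_conj g y
    exact yof y hy z (e ▸ ((cov y).2 (Or.inr hy)).1) e.dvd fun φ hφ =>
      c.symm.trans ((((cov y).2 (Or.inr hy)).2 φ hφ).trans (φ.toMonoidHom.map_isConj c))
  set K := centralizer Y
  have nK : K.Normal := ⟨fun k hk g y hy => by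
    have := hk _ (ycj y hy (g⁻¹ * y * g⁻¹⁻¹) (isConj_iff.2 ⟨_, rfl⟩))
    calc y * (g * k * g⁻¹) = g * (g⁻¹ * y * g⁻¹⁻¹ * k) * g⁻¹ := by group
      _ = _ := by rw [this]; group⟩
  have iK : ∀ φ ∈ A, ∀ k ∈ K, φ k ∈ K := fun φ hφ k hk y hy => by
    have := congrArg φ (hk _ (ycj y hy _ (((cov y).2 (Or.inr hy)).2 _ (inv_mem hφ))))
    simpa using this
  have YK : ∀ y ∈ Y, y ∈ K := fun y hy z hz => by
    have c : ∀ w ∈ Y, (Nat.card (classStab b)).Coprime (ind w) := fun w hw =>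
      (spl b hb w hw).coprime_dvd_left (card_classStab_dvd b)
    exact mem_centralizer_centralizer_of_coprime _ (c y hy) (commutator_mem_classStab
      (spl b hb y hy).symm (mx _ (imul y b (Or.inr hy) (Or.inl hb) (spl b hb y hy).symm))) z
      (mem_centralizer_of_coprime_ind _ (c z hz))
  have tri : ∀ x, (∀ φ ∈ A, φ x = x) → x ∈ center G ∨ x ∈ X ∨ x ∈ Y := fun x hx =>
    (Nat.lt_or_eq_of_le (ind_pos x)).symm.imp (fun e => ind_eq_one_iff.1 e.symm) fun k =>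
      (cov x).1 ⟨k, fun φ hφ => by rw [hx φ hφ]⟩
  obtain ⟨y, q, j, hq, hy, hj⟩ : ∃ (y : G) (q j : ℕ), q.Prime ∧ y ∈ Y ∧ orderOf y = q ^ j := by
    by_contra! k
    refine ((cov d).2 (Or.inr hd)).1.ne' (ind_eq_one_iff.2 (mem_of_forall_primePow_mem d
      fun e q j hq _ hj => by_contra fun n => k _ q j hq (yof d hd _ ?_ (ind_pow_dvd d e)
        fun φ hφ => ?_) hj))
    · exact lt_of_le_of_ne (ind_pos _) fun k => n (ind_eq_one_iff.1 k.symm)
    · rw [map_pow]; exact (((cov d).2 (Or.inr hd)).2 φ hφ).pow e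
  have f2 : ∀ x ∈ K, (∀ φ ∈ A, φ x = x) → ¬ q ∣ orderOf x → ∀ z ∈ K, x * z = z * x :=
    fun x hx fx ox z hz => by
    rcases tri x fx with k | k | k
    · exact (mem_center_iff.1 k z).symm
    · have c : (orderOf x).Coprime (orderOf y) :=
        hj ▸ ((Nat.Prime.coprime_iff_not_dvd hq).2 ox).symm.pow_right j
      have d1 := ind_dvd_ind_mul_left (hx y hy).symm c
      have d2 := ind_dvd_ind_mul_right (hx y hy).symm c
      have l1 := ((cov x).2 (Or.inl k)).1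
      rcases (cov _).1 ⟨l1.trans_le (Nat.le_of_dvd (ind_pos _) d1),
        imul x y (Or.inl k) (Or.inr hy) (spl x k y hy)⟩ with m | m
      · exact absurd ((spl _ m y hy).symm.eq_one_of_dvd d2)
          ((cov y).2 (Or.inr hy)).1.ne'
      · exact absurd ((spl x k _ m).eq_one_of_dvd d1) l1.ne'
    · exact hz x k
  have : Finite (G ⋊[A.subtype] A) := Finite.of_equiv _ SemidirectProduct.equivProd.symm
  have hi : Function.Injective (inl : G →* G ⋊[A.subtype] A) := inl_injective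
  have fx : ∀ x : G, (inl x : G ⋊[A.subtype] A) ∈ Cent (inr : A →* G ⋊[A.subtype] A).range →
      ∀ φ ∈ A, φ x = x := fun x hx φ hφ => hi (by
    have := mem_cent.1 hx _ ⟨⟨φ, hφ⟩, rfl⟩
    rw [← mul_inv_eq_iff_eq_mul, ← map_inv, ← inl_aut] at this
    exact this)
  have := cls_fin h (G := (⊤ : Subgroup G).map (inl : G →* G ⋊[A.subtype] A))
    (A := (inr : A →* G ⋊[A.subtype] A).range) (K := K.map inl)
    ((sdinv_iff A ⊤).2 fun _ _ _ _ => mem_top _) ?_
    ⟨map_mono le_top, (map_mono le_normalizer_of_normal).trans (le_normalizer_map _)⟩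
    ((sdinv_iff A K).2 iK) ?_ ?_
  · exact Group.isSolvable_of_isSolvable_injective
      (f := ((inl : G →* G ⋊[A.subtype] A).subgroupMap ⊤).comp (topEquiv (G := G)).symm.toMonoidHom)
      fun a b e => hi (congrArg Subtype.val e)
  · rwa [card_map_of_injective hi, card_top,
      ← Nat.card_congr (MonoidHom.ofInjective inr_injective).toEquiv]
  · rintro _ ⟨⟨x, hx, rfl⟩, cx⟩ _ ⟨⟨w, hw, rfl⟩, cw⟩ ox ⟨k, ew⟩
    rw [orderOf_injective _ hi] at ox
    rw [← map_mul, ← map_mul]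
    by_cases e : q = 2
    · rw [f2 x hx (fx x cx) (e ▸ ox.not_two_dvd_nat) w hw]
    · rw [f2 w hw (fx w cw) (fun k' => e ((Nat.prime_dvd_prime_iff_eq hq Nat.prime_two).1
        (hq.dvd_of_dvd_pow (k'.trans (orderOf_dvd_of_pow_eq_one
          (hi (by rw [map_pow, ew, map_one]))))))) x hx]
  by_cases ho : ∀ d ∈ Y, Odd (ind d)
  · left
    rintro _ ⟨⟨w, -, rfl⟩, cw⟩ ⟨k, ew⟩
    refine mem_map_of_mem _ ?_
    rcases tri w (fx w cw) with m | m | m
    · exact fun z _ => mem_center_iff.1 m z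
    · intro z hz
      have := Fact.mk Nat.prime_two
      obtain ⟨P, hP⟩ := (H98.isPGroup_zpowers (p := 2) (x := w) (k := k)
        (hi (by rw [map_pow, ew, map_one]))).exists_le_sylow
      obtain ⟨g, hg⟩ := exists_conj_mem_centralizer_sylow P (ho z hz).not_two_dvd_nat
      obtain ⟨c, hc, e, he, rfl⟩ := exists_mul_of_coprime_index (spl w m z hz) g
      have h1 := hg w (hP (mem_zpowers w))
      rw [mem_cent_iff] at hc he
      calc z * w = c⁻¹ * (c * (z * e) * e⁻¹ * c⁻¹ * (c * w) * c⁻¹) * c := by group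
        _ = c⁻¹ * (c * e * z * (c * e)⁻¹ * w) * c := by rw [← he, hc]; group
        _ = c⁻¹ * (w * c) * (e * z) * e⁻¹ := by rw [← h1]; group
        _ = _ := by rw [← hc, he]; group
    · exact YK w m
  · right
    push Not at ho
    obtain ⟨z, hz, ez⟩ := ho
    rintro _ ⟨⟨w, -, rfl⟩, cw⟩
    have e : (Cent1 (inl w : G ⋊[A.subtype] A)).relIndex ((⊤ : Subgroup G).map inl) = ind w := by
      rw [← relIndex_comap, relIndex_top_right]
      congr 1
      ext g
      simp only [mem_comap, mem_centralizer_singleton_iff, ← map_mul, hi.eq_iff]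
    rcases tri w (fx w cw) with m | m | m
    · exact Or.inl (mem_map_of_mem _ fun z _ => mem_center_iff.1 m z)
    · exact Or.inr (e ▸ Nat.coprime_two_right.1 ((spl w m z hz).coprime_dvd_right
        (Nat.not_odd_iff_even.1 ez).two_dvd))
    · exact Or.inl (mem_map_of_mem _ (YK w m))

theorem s4165_of (h : Thm.{u}) {G : Type u} {A : Type*} [Group G] [Finite G] [Group A]
    [MulDistribMulAction A G] (hcop : (Nat.card A).Coprime (Nat.card G))
    (X Y : Set (ConjClasses G)) (hX : X.Nonempty) (hY : Y.Nonempty)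
    (hcover : ∀ C : ConjClasses G, (1 < Nat.card C.carrier ∧ ∀ a : A, ∀ g ∈ C.carrier,
      a • g ∈ C.carrier) ↔ (C ∈ X ∨ C ∈ Y))
    (hsplit : ∀ C ∈ X, ∀ D ∈ Y, (Nat.card C.carrier).Coprime (Nat.card D.carrier)) :
    Group.IsSolvable G := by
  set B := (MulDistribMulAction.toMulAut A G).range
  have cop : (Nat.card B).Coprime (Nat.card G) := hcop.coprime_dvd_left (card_range_dvd _)
  have cov : ∀ x : G, (1 < H4.ind x ∧ ∀ φ ∈ B, IsConj x (φ x)) ↔
      (x ∈ ConjClasses.mk ⁻¹' X ∨ x ∈ ConjClasses.mk ⁻¹' Y) := fun x => by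
    refine Iff.trans ?_ (hcover (ConjClasses.mk x))
    rw [H24.card_carrier_eq_index]
    refine and_congr_right fun _ => ⟨fun k a g hg => ?_, ?_⟩
    · rw [ConjClasses.mem_carrier_iff_mk_eq, ConjClasses.mk_eq_mk_iff_isConj] at hg ⊢
      exact ((k _ ⟨a, rfl⟩).trans
        ((MulDistribMulAction.toMulAut A G a).toMonoidHom.map_isConj hg.symm)).symm
    · rintro k _ ⟨a, rfl⟩
      exact (ConjClasses.mk_eq_mk_iff_isConj.1 (ConjClasses.mem_carrier_iff_mk_eq.1
        (k a x ConjClasses.mem_carrier_mk))).symm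
  have spl : ∀ x ∈ ConjClasses.mk ⁻¹' X, ∀ y ∈ ConjClasses.mk ⁻¹' Y,
      (H4.ind x).Coprime (H4.ind y) := fun x hx y hy => by
    have := hsplit _ hx _ hy
    rwa [H24.card_carrier_eq_index, H24.card_carrier_eq_index] at this
  obtain ⟨x, hx⟩ := hX.preimage ConjClasses.mk_surjective
  obtain ⟨y, hy⟩ := hY.preimage ConjClasses.mk_surjective
  obtain ⟨b, hb, mx⟩ := Set.exists_max_image {z : G | ∀ φ ∈ B, IsConj z (φ z)} H4.ind
    (Set.toFinite _) ⟨x, ((cov x).2 (Or.inl hx)).2⟩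
  rcases (cov b).1 ⟨((cov x).2 (Or.inl hx)).1.trans_le (mx x ((cov x).2 (Or.inl hx)).2), hb⟩
    with k | k
  · exact cls_main h B cop _ _ cov spl k hy mx
  · exact cls_main h B cop _ _ (fun z => (cov z).trans or_comm)
      (fun a ha c hc => (spl c hc a ha).symm) k hx mx

end H11.FP
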