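import Cfsg.Agent.H11.PMin2
import Cfsg.Agent.H54.Over
import Cfsg.Agent.H54.BNModAll
import Cfsg.Agent.H63.AdMat
import Cfsg.Prelude.Def_AlmostLie

/-! `p`-minimal groups with a socle of Lie type: the families. -/

set_option autoImplicit false
set_option linter.unusedSectionVars false

namespace H11.PMin

open Cfsg H64 H54 H68.GA H54.BNM H54.CD

variable {p : ℕ} [Fact p.Prime] {K : Type*} [Group K] [Finite K]

/-- The list of possible socles. -/
def Concl (p : ℕ) (K : Type*) [Group K] (c : Prop) : Prop :=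
  IsLieRankOneChar p K ∨ (p = 2 ∧ c ∧
    ((∃ (F : Type) (_ : Field F) (_ : Fintype F) (_ : CharP F 2),
      Nonempty (K ≃* Matrix.ProjectiveSpecialLinearGroup (Fin 3) F)) ∨
    (∃ (F : Type) (_ : Field F) (_ : Fintype F) (_ : CharP F 2), 4 ≤ Fintype.card F ∧
      Nonempty (K ≃* PSp 2 F)) ∨ Nonempty (K ≃* alternatingGroup (Fin 6))))

theorem Sw.card_eq {Φ ι : Type*} {R : WData Φ ι} {G : Type*} [Group G] {T : GRD R G} [Finite Φ]
    {i j : ι} (h : Sw T i j) : Nat.card (T.X (R.p i)) = Nat.card (T.X (R.p j)) :=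
  h.choose_spec.2.card_eq

theorem Sw.eq {Φ ι : Type*} {R : WData Φ ι} {G : Type*} [Group G] {T : GRD R G} [Finite Φ]
    {i j : ι} (h : Sw T i j) (h1 : ∀ θ, Std T θ → Mp T θ i i) : i = j :=
  mp_unique (h1 _ h.choose_spec.1) h.choose_spec.2

theorem card_quot {G : Type*} [Group G] [Finite G] (L : LieS p G) (i : L.ι) :
    Nat.card (L.quotCenter.T.X (L.quotCenter.R.p i)) = Nat.card (L.T.X (L.R.p i)) :=
  L.T.card_map_of_le_U _ (fun g _ hg => L.T.mem_H_of_comm (by rw [L.top]; trivial)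
    fun _ x _ => (Subgroup.mem_center_iff.1 ((QuotientGroup.eq_one_iff g).1 hg) x).symm)
    (L.T.X_le_U (L.R.pos_p i))

theorem four_le_card {F : Type*} [Field F] [Fintype F] [CharP F 2] (h : 3 ≤ Fintype.card F) :
    4 ≤ Fintype.card F := by
  obtain ⟨n, -, hn⟩ := FiniteField.card F 2
  have : 2 ∣ Fintype.card F := hn ▸ dvd_pow_self 2 n.ne_zero
  omega

theorem g2_three {F : Type*} [Field F] [Finite F] [CharP F p] [H63.RS Lie.chevG2]
    [H65.Tab Lie.chevG2] [H65.Comm Lie.chevG2]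
    (h : Sw (lieChev Lie.chevG2 F p).T (0 : Fin 2) (1 : Fin 2)) : (3 : F) = 0 := by
  obtain ⟨θ, h1, h2⟩ := h
  have hS := H63.stB_xG (D := Lie.chevG2) (F := F) H64.matOK
  have hX : ∀ r, (lieChev Lie.chevG2 F p).T.X r = XR Lie.chevG2 (H63.xG Lie.chevG2 F) r := fun r => by
    ext g
    exact (mem_lieChev_X _ F p).trans ((exists_congr fun t => Subtype.ext_iff.symm).trans
      hS.toSt.mem_XR.symm)
  choose π hπ using h1.exists_mp (lieChev Lie.chevG2 F p).top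
  have h3 : H63.IsStd (H63.xG Lie.chevG2 F) θ π := fun i => by
    obtain ⟨a1, a2⟩ := hπ i
    rw [hX, hX] at a1 a2
    exact ⟨a1, a2⟩
  have e0 : π (0 : Fin 2) = (1 : Fin 2) := mp_unique (hπ _) h2
  have e1 : π (1 : Fin 2) = (0 : Fin 2) := by
    have := (h3.injective hS).ne (show (0 : Fin 2) ≠ (1 : Fin 2) by decide)
    rw [e0] at this
    exact (by decide : ∀ k : Fin 2, 1 ≠ k → k = 0) _ this
  exact h3.three_eq_zero hS (i := (0 : Fin 2)) (j := (1 : Fin 2)) (show (0 : Fin 2) ≠ 1 by decide)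
    (by decide) (by decide) (by rw [e0, e1]; decide) (by rw [e0, e1]; decide)

variable {U : Sylow p K} {A : Subgroup (MulAut K)} {M : Subgroup K}

theorem concl_lie (hL : IsLieTypeChar p K) (h : Cfg p (U : Subgroup K) A M) :
    Concl p K (¬ Inner (U : Subgroup K) A) := by
  have := isSimpleGroup_of_lieType hL
  rcases hL with ⟨F, _, _, _, n, hn, h1, ⟨e⟩⟩ | ⟨F, _, _, _, n, hn, h1, ⟨e⟩⟩ |
    ⟨F, _, _, _, n, q, hF, hn, h1, ⟨e⟩⟩ | ⟨F, _, _, _, n, hn, h1, ⟨e⟩⟩ | ⟨F, _, _, _, n, hn, ⟨e⟩⟩ |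
    ⟨F, _, _, _, n, a, b, hn, h1, ⟨e⟩⟩ | ⟨F, _, _, _, h1⟩ | ⟨F, _, _, _, q, hq, h1⟩ |
    h1 | ⟨rfl, F, _, _, m, hm, hF, ⟨e⟩⟩ | h1
  · obtain ⟨k, rfl⟩ : ∃ k, n = k + 1 := ⟨n - 1, by omega⟩
    obtain ⟨f, -⟩ := typA (htSL F (k + 1)) (fun a => Or.inr ⟨a, Or.inl rfl⟩) (fun k => ⟨k, rfl⟩) rfl
      (fun h => h) (fun ⟨a, k, h⟩ => single_ne_neg_single a k h) rfl
    rcases (by omega : k = 1 ∨ k = 2 ∨ 3 ≤ k) with rfl | rfl | hk
    · exact Or.inl (Or.inl ⟨F, _, _, ‹_›, h1 rfl, ⟨e⟩⟩)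
    · obtain ⟨rfl, h2, -⟩ := h.lie (liePSL F 3 p) e (i := f 0) (j := f 1) (f.injective.ne (by decide))
      exact Or.inr ⟨rfl, h2, Or.inl ⟨F, inferInstance, inferInstance, inferInstance, ⟨e⟩⟩⟩
    · exact (h.not_three (liePSL F _ p) e hk f).elim
  · obtain ⟨f, -⟩ := typB (htSp F n) (fdSp F n).wt_std (fdSp F n).wt_up (cdSp_short F n)
      (ht_short (cdSp_short F n))
    rcases (by omega : n = 2 ∨ 3 ≤ n) with rfl | hk
    · obtain ⟨rfl, h2, -⟩ := h.lie (liePSp F 2 p) e (i := f 0) (j := f 1) (f.injective.ne (by decide))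
      exact Or.inr ⟨rfl, h2, Or.inr (Or.inl ⟨F, _, _, ‹_›, four_le_card (h1 rfl), ⟨e⟩⟩)⟩
    · exact (h.not_three (liePSp F _ p) e hk f).elim
  · have hs : (cdSU hF n).short := cdGU_short hF n
    obtain ⟨f, hf, -⟩ := typB (htSU hF n) (fdU hF n).wt_std (fdU hF n).wt_up hs (ht_short hs)
    rcases (by omega : n = 3 ∨ n / 2 = 2 ∨ 3 ≤ n / 2) with rfl | hk | hk
    · exact Or.inl (Or.inr (Or.inl ⟨F, _, _, ‹_›, q, hF, fun e => h1 ⟨rfl, e⟩, ⟨e⟩⟩))
    · exfalso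
      obtain ⟨-, -, -, h2⟩ := h.lie (liePSU hF n p) e (i := f ⟨0, by omega⟩) (j := f ⟨1, by omega⟩)
        (f.injective.ne (by simp))
      have hq := H59.two_le_q hF
      have h3 : Nat.card (fdU hF n).Λ = q := H59.card_trace_eq hF (c := 0) (zero_pow (by omega))
      have h4 : Nat.card {k // (fdU hF n).wt k = 0} = Nat.card (Fin (n % 2)) := card_zero _
      have h5 : ∀ i, Nat.card ((liePSU hF n p).T.X ((liePSU hF n p).R.p (f i))) =
          H12.BN.qs (n / 2 - 1) (q ^ 2) ((q ^ 2) ^ (n % 2) * q) i := fun i => by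
        refine (card_quot (lieSU hF n p) (f i)).trans ?_
        change Nat.card ((cdSU hF n).US (ray (f i).1.1)) = _
        rw [hf, card_qs (fdU hF n) rfl (fun _ => Iff.rfl) hs, h3, h4, Nat.card_eq_fintype_card,
          Nat.card_eq_fintype_card, hF, Fintype.card_fin]
      have h6 := h2.card_eq
      rw [h5, h5, H12.BN.qs, H12.BN.qs, if_pos (by simp only; omega), if_neg (by simp only; omega),
        ← pow_mul, ← pow_succ] at h6
      have := Nat.pow_right_injective hq h6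
      omega
    · exact (h.not_three (liePSU hF n p) e hk f).elim
  · have h2 := H58.two_ne_zero_of_odd_card h1
    have hs : (cdOdd F n h2).short := Or.inr ⟨.inl (), rfl⟩
    obtain ⟨f, -⟩ := typB (D := cdOdd F n h2) ((isOrth_odd F n).htΩ _ _ _) (fdOdd F n).wt_std
      (fdOdd F n).wt_up hs (ht_short hs)
    exact (h.not_three (liePOmegaOdd F n h2 p) e hn f).elim
  · have hE : ¬ H56.IsExc (H58.qPlus n F) := H56.not_isExc_of_finrank (by simp; omega)
    have hs : ¬ (cdPlus F n hE).short := fun h =>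
      h.elim (fun h => h rfl) fun ⟨k, hk⟩ => cdPlus_wt_ne F n k hk
    obtain ⟨f, -⟩ := typD (D := cdPlus F n hE) ((isOrth_plus F n).htΩ _ _ _) (fdPlus F n).wt_std
      (fdPlus F n).wt_up (by omega) hs ⟨.inr ⟨0, by omega⟩, _, rfl⟩ (ht_long hs)
    exact (h.not_three (liePOmegaPlus F n hE p) e (by omega) f).elim
  · have hs : (cdMinus (n - 1) h1).short := Or.inr ⟨.inr 0, rfl⟩
    obtain ⟨f, -⟩ := typB (D := cdMinus (n - 1) h1) ((isOrth_minus (n - 1) h1).htΩ _ _ _)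
      (fdMinus _ h1).wt_std (fdMinus _ h1).wt_up hs (ht_short hs)
    exact (h.not_three (liePOmegaMinus (n - 1) h1 p) e (by omega) f).elim
  · exfalso
    have key : ∀ {D : Lie.ChevalleyDatum}, D ∈ [Lie.chevG2, Lie.chevB2, Lie.chevD4, Lie.chevF4,
        Lie.chevE6, Lie.chevE7, Lie.chevE8] → 3 ≤ D.rank → (K ≃* D.group F) → False := by
      intro D hD h3 e
      obtain ⟨_, _, _⟩ := H65.of_mem hD
      exact h.not_three (lieChev D F p) e h3 (Equiv.refl _)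
    rcases h1 with ⟨-, ⟨e⟩⟩ | ⟨⟨e⟩⟩ | ⟨⟨e⟩⟩ | ⟨⟨e⟩⟩ | ⟨⟨e⟩⟩
    · obtain ⟨_, _, _⟩ := H65.of_mem (D := Lie.chevG2) (by simp)
      obtain ⟨rfl, -, -, h2⟩ := h.lie (lieChev Lie.chevG2 F p) e (i := (0 : Fin 2)) (j := (1 : Fin 2))
        (show (0 : Fin 2) ≠ 1 by decide)
      have h3 := g2_three h2
      have h4 : (2 : F) = 0 := CharTwo.two_eq_zero
      exact one_ne_zero (α := F) (by linear_combination h3 - h4)
    all_goals exact key (by simp) (by decide) e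
  · exfalso
    rcases h1 with ⟨hF, ⟨e⟩⟩ | ⟨hF, ⟨e⟩⟩
    · exact h.not_three ((H68.isTw_E6 hq hF).lieS p) e (n := 4) (by decide) (Equiv.refl _)
    · have h01 : (0 : Fin 2) ≠ 1 := by decide
      obtain ⟨-, -, -, h2⟩ := h.lie ((H68.isTw_D4 hq hF).lieS p) e (i := (0 : Fin 2)) (j := (1 : Fin 2)) h01
      exact h01 (h2.eq fun θ hθ => H68.mp_D4 hq hF hθ 0)
  · exact Or.inl (Or.inr (Or.inr (Or.inl h1)))
  · exfalso
    have := H68.charP_two hF
    have h01 : (0 : Fin 2) ≠ 1 := by decide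
    obtain ⟨-, -, -, h2⟩ := h.lie ((H68.isTw_F4 hF).lieS 2) e (i := (0 : Fin 2)) (j := (1 : Fin 2)) h01
    exact h01 (h2.eq fun θ hθ => H68.mp_F4 hF hθ 0)
  · exact Or.inl (Or.inr (Or.inr (Or.inr ⟨h1.1, Or.inl h1.2⟩)))

theorem Cfg.not_fix {V : Subgroup K} (h : Cfg p V A M) {ι : Type*} {Q R : ι → Subgroup K}
    (hA : Amal V Q R) : ¬ ∀ a ∈ A, ∀ i, (Q i).map a.toMonoidHom = Q i := fun hc =>
  h.ne (hA.eq_top fun i => h.max _ (hA.ne_top i) (fun a ha => hc a ha i) (hA.le i))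

theorem Cfg.amal_le {V : Subgroup K} (h : Cfg p V A M) {ι : Type*} {Q R : ι → Subgroup K}
    (hA : Amal V Q R) : M ≤ Subgroup.normalizer (V : Set K) := by
  rcases hA.cases M (Subgroup.le_normalizer.trans h.leN) with rfl | ⟨i, rfl⟩ | e
  · exact Subgroup.le_normalizer
  · refine absurd (fun a ha j => ?_) (h.not_fix hA)
    obtain ⟨k, hk⟩ := hA.exists_map_eq (h.fixV a ha) j
    obtain ⟨l, -, hl⟩ := hA.ex i
    by_cases hj : j = i
    · exact hj ▸ h.fixM a ha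
    by_cases hki : k = i
    · subst hki
      exact absurd (Subgroup.map_injective a.injective (hk.trans (h.fixM a ha).symm)).le
        (hA.not_le _ _ hj)
    · rw [hk, (hl j).resolve_left hj, (hl k).resolve_left hki]
  · exact absurd e h.ne

theorem simple_ne (hK : IsChevSimple p K) (U : Sylow p K) :
    IsSimpleGroup K ∧ Subgroup.normalizer ((U : Subgroup K) : Set K) ≠ ⊤ := by
  have am : ∀ {ι : Type} {Q R : ι → Subgroup K}, Amal (U : Subgroup K) Q R →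
      IsSimpleGroup K ∧ Subgroup.normalizer ((U : Subgroup K) : Set K) ≠ ⊤ := fun hA =>
    have := hA.simple
    ⟨this, fun e => (Subgroup.normalizer_eq_top_iff.1 e).eq_bot_or_eq_top.elim hA.U_ne_bot hA.U_ne_top⟩
  rcases hK with h | ⟨rfl, ⟨⟨e⟩⟩ | h⟩ | ⟨rfl, F, _, _, hF, ⟨e⟩⟩
  · obtain ⟨L, ⟨i⟩, h2⟩ := exists_lieS_sylow h U
    refine ⟨isSimpleGroup_of_lieType h, fun e => L.T.n_not_mem_B i ?_⟩
    rw [← L.normalizer_U, h2, e]
    trivial
  · obtain ⟨ι, Q, R, h2⟩ := exists_amal_A6 e U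
    exact am h2
  · obtain ⟨ι, Q, R, h2, -⟩ := exists_amal_cent h U
    exact am h2
  · have := @MulEquiv.isSimpleGroup _ _ _ _ (H57.psl_fin_isSimpleGroup (n := 2) (F := F) le_rfl
      fun _ => by omega) e
    refine ⟨this, fun e' => ?_⟩
    have h2 := (psl8_le_normalizer hF e U).1
    rcases (Subgroup.normalizer_eq_top_iff.1 e').eq_bot_or_eq_top with h3 | h3
    · rw [h3, Subgroup.card_bot] at h2
      exact absurd h2 (by decide)
    · have h1 : Nat.card K = 504 := by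
        rw [Nat.card_congr e.toEquiv, H61.card_psl_of_even
          (by rw [Nat.card_eq_fintype_card, hF]; decide), Nat.card_eq_fintype_card, hF]
        rfl
      rw [h3, Subgroup.card_top, h1] at h2
      exact absurd h2 (by decide)

theorem concl (hK : IsChevSimple p K) (h : Cfg p (U : Subgroup K) A M) :
    M ≤ Subgroup.normalizer ((U : Subgroup K) : Set K) ∧ Concl p K (¬ Inner (U : Subgroup K) A) := by
  rcases hK with hL | ⟨rfl, ⟨⟨e⟩⟩ | hL⟩ | ⟨rfl, F, _, _, hF, ⟨e⟩⟩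
  · refine ⟨?_, concl_lie hL h⟩
    obtain ⟨L, _, h2⟩ := exists_lieS_sylow hL U
    rw [← h2] at h ⊢
    exact h.le_normalizer L.top
  · obtain ⟨ι, Q, R, h2⟩ := exists_amal_A6 e U
    refine ⟨h.amal_le h2, Or.inr ⟨rfl, fun hc => h.not_fix h2 fun a ha i => ?_, Or.inr (Or.inr ⟨e⟩)⟩⟩
    obtain ⟨v, hv, rfl⟩ := hc a ha
    exact map_conj_self (h2.le i hv)
  · obtain ⟨ι, Q, R, h2, h3⟩ := exists_amal_cent hL U
    exact absurd (fun a ha i => Amal.Cent.map_eq h2 U.2 h3 (h.fixV a ha) i) (h.not_fix h2)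
  · exact ⟨(psl8_le_normalizer hF e U).2 M (Subgroup.le_normalizer.trans h.leN) h.ne,
      Or.inl (Or.inr (Or.inr (Or.inr ⟨rfl, Or.inr ⟨F, _, _, hF, ⟨e⟩⟩⟩)))⟩

theorem main {X : Type*} [Group X] [Finite X] (hX : IsPMinimal p X) (N : Subgroup X) [N.Normal]
    (hK : IsChevSimple p N) (U : Sylow p N) :
    IsCoatom (Subgroup.normalizer (((U : Subgroup N).map N.subtype : Subgroup X) : Set X)) ∧
      Concl p N (N ≠ ⊤) := by
  obtain ⟨_, h1⟩ := simple_ne hK U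
  obtain ⟨A, M, h, h2, h3⟩ := exists_cfg hX N U h1
  obtain ⟨h4, h5⟩ := concl hK h
  exact ⟨h3 h4, h5.imp_right fun h6 => ⟨h6.1, fun e => h6.2.1 (h2 e), h6.2.2⟩⟩

end H11.PMin
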