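import Cfsg.Agent.H11.QGCore
import Cfsg.Agent.H18.QTXi4

/-! S1845: the choice of the configuration. -/

set_option autoImplicit false
set_option linter.unusedSectionVars false
set_option linter.unusedVariables false

namespace H11.QG

open Subgroup Cfsg H98 H96 H96.CG
open scoped commutatorElement

universe u

variable {G : Type u} [Group G] [Finite G]

/-- the largest subgroup of `S` normalized by `Y` -/
theorem exists_big (S Y : Subgroup G) : ∃ E ≤ S, Y ≤ nor E ∧ ∀ D ≤ S, Y ≤ nor D → D ≤ E :=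
  ⟨⨆ D : {D : Subgroup G // D ≤ S ∧ Y ≤ nor D}, D.1, iSup_le fun D => D.2.1,
    le_normalizer_iSup fun D => D.2.2, fun D h1 h2 =>
      le_iSup (fun D : {D : Subgroup G // D ≤ S ∧ Y ≤ nor D} => D.1) ⟨D, h1, h2⟩⟩

theorem exists_sq {S T : Subgroup G} (h2 : IsPGroup 2 T) (h : S < T) :
    ∃ s ∈ T, s ∈ nor S ∧ s ∉ S ∧ s * s ∈ S := by
  classical
  obtain ⟨y, hy, hy'⟩ := SetLike.exists_of_lt (lt_inf_normalizer h2 h)
  have ex : ∃ k, y ^ 2 ^ k ∈ S := by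
    obtain ⟨k, hk⟩ := isPGroup_iff_forall.1 h2 y hy.1
    exact ⟨k, hk ▸ S.one_mem⟩
  have h0 : Nat.find ex ≠ 0 := fun e => hy' (by simpa [e] using Nat.find_spec ex)
  obtain ⟨k, hk⟩ := Nat.exists_eq_succ_of_ne_zero h0
  refine ⟨y ^ 2 ^ k, T.pow_mem hy.1 _, (nor S).pow_mem hy.2 _, Nat.find_min ex (by omega), ?_⟩
  have := Nat.find_spec ex
  rwa [hk, pow_succ, pow_mul, pow_two] at this

theorem step0 (j : JobLF.{u}) (jB : JobB.{u}) (jP : JobP.{u}) {L S N P E : Subgroup G} (l2 : L2 L)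
    (S2 : IsPGroup 2 S) (SL : S ≤ nor L) (sylL : IsSyl 2 (S ⊓ L) L) (NS : N ≤ nor S) (SN : S ≤ N)
    (hP : IsSyl 2 P N) (PL : P ≤ nor L) (ES : E ≤ S) (LE : L ≤ nor E) (NE : N ≤ nor E)
    (mx : ∀ D ≤ S, L ≤ nor D → N ≤ nor D → D ≤ E) : o2 L ≤ E := by
  by_contra hn
  have : (E.subgroupOf (nor E)).Normal := normal_in_normalizer
  have b := br_quot (A := nor E) le_normalizer (S2.to_le ES)
  set f := QuotientGroup.mk' (E.subgroupOf (nor E)) with hf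
  have SA := SN.trans NE
  have q : o2 (bar f L) ≠ ⊥ := by
    rw [b.o2_bar LE, Ne, b.bar_eq_bot ((pCoreOf_le L).trans LE)]
    exact hn
  have mx' : ∀ D ≤ bar f S, bar f L ≤ nor D → bar f N ≤ nor D → D = ⊥ := fun D h1 h2 h3 => by
    rw [← b.bar_pre D, b.bar_eq_bot (pre_le D)]
    exact mx _ ((b.le_bar_iff ES).1 h1) (le_nor_pre LE h2) (le_nor_pre NE h3)
  have l2' := b.l2_bar j l2 LE
  have pd := jB _ (bar f L) (bar f S) l2' (j.1 _ _ l2') (isPGroup_bar S2) (bar_le_nor SL) (by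
    rw [inf_comm, ← b.bar_inf ES, inf_comm]
    exact isSyl_bar sylL LE) q fun C h1 h2 h3 h4 =>
      h2 (mx' C h1 h4 ((bar_le_nor NS).trans (nor_le_of_char h1 h3)))
  have h1 := jP _ _ _ _ _ _ (bar f N) _ pd (bar_le_nor NS) (by
    rw [← Nat.not_even_iff_odd, even_iff_two_dvd]
    exact fun h => (isSyl_bar (f := f) hP NE).not_dvd_relIndex (h.trans (relIndex_dvd_of_le_left _
      ((bar_le_nor PL).trans (normalizer_le_normalizer_pCoreOf _)))))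
  have h2 : ncl (bar f N) (o2 (bar f L)) ≤ bar f S ⊓ cq (bar f L) := ncl_le_iff.2 h1
  exact q (ncl_eq_bot_iff.1 (mx' _ (h2.trans inf_le_left) (le_nor_of_cq (le_ncl _ _) (h2.trans inf_le_right))
    (le_normalizer_ncl _ _)))

theorem Br.sqtk {Γ : Type u} [Group Γ] {A E Y : Subgroup G} {f : ↥A →* Γ} (b : Br A E f) (YA : Y ≤ A)
    (h : H97.QT.SQTK ↥Y) : H97.QT.SQTK ↥(bar f Y) := by
  refine H18.QT.sqtk_of_surjective h ((f.comp (inclusion YA)).codRestrict (bar f Y) fun y => mem_bar_of y.2)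
    (fun y => ?_) ?_
  · obtain ⟨a, ha, e⟩ := mem_bar'.1 y.2
    exact ⟨⟨a, ha⟩, Subtype.ext e⟩
  · refine (isPGroup_subgroupOf b.two Y).to_le fun y hy => ?_
    exact (b.ker (inclusion YA y)).1 (congrArg Subtype.val (MonoidHom.mem_ker.1 hy))

/-- a 2-subgroup normalized by `Y` and `S` lies in `U` -/
theorem Cd.le_U {L U S Y O : Subgroup G} (c : Cd L U S Y) (O2 : IsPGroup 2 O) (YO : Y ≤ nor O) : O ≤ U := by
  have h0 : ∀ D ≤ S, Y ≤ nor D → D ≤ U := fun D h1 h2 => by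
    by_contra hn
    have h3 : Y ≤ nor (U ⊔ D) := le_normalizer_sup c.YU h2
    exact c.out ((le_inf le_rfl h3).trans (c.mx _ (left_lt_sup.2 hn) (sup_le c.US h1) (c.SY.trans h3)
      (c.LY.trans h3)))
  have h1 : Y ≤ nor (O ⊓ nor U) := le_normalizer_inf YO (le_normalizer_of_le c.YU)
  have h2 : O ⊓ nor U ≤ U :=
    h0 _ (c.syl.le_of_le_normalizer (O2.to_le inf_le_left) inf_le_right (c.SY.trans h1)) h1
  have UO : U ≤ nor O := c.US.trans (c.SY.trans YO)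
  by_contra hn
  have h3 := lt_inf_normalizer (IsPGroup.to_sup_of_normal_right' (c.syl.isPGroup.to_le c.US) O2 UO)
    (left_lt_sup.2 hn)
  rw [sup_inf_of_le_left UO le_normalizer, sup_eq_left.2 h2] at h3
  exact lt_irrefl _ h3

theorem core2 (j : JobLF.{u}) (jM : JobMid.{u}) (jC : JobC.{u}) {L U S Y T : Subgroup G} {s : G} (c : Cd L U S Y)
    (ST : S ≤ T) (Ts : IsSyl 2 T ⊤) (TL : T ≤ nor L) (sT : s ∈ T) (sS : s ∈ nor S) (s0 : s ∉ S) (ss : s * s ∈ S)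
    (m1 : ∀ P : Subgroup G, IsPGroup 2 P → S ≤ P → P ≤ nor L → nor P ≤ nor L)
    (m2 : ∀ P X : Subgroup G, IsPGroup 2 P → S < P → P ≤ nor L → o2 L ≤ X → X ≤ P → P ≤ nor X → L ≤ nor X →
      nor X ≤ nor L)
    (q : o2 L ≠ ⊥) (hs : ∀ H : Subgroup G, o2 H ≠ ⊥ → H97.QT.SQTK ↥H)
    (he : ∀ z : G, z ≠ 1 → z * z = 1 → T ≤ cen1 z → CharP 2 (cen1 z)) : False := by
  obtain ⟨E, ER, hE, mx⟩ := exists_big (S ⊓ cq L) (Y ⊔ zpowers s)
  have YE : Y ≤ nor E := le_sup_left.trans hE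
  have sE : s ∈ nor E := hE (mem_sup_right (mem_zpowers s))
  have S2 := c.syl.isPGroup
  have E2 : IsPGroup 2 E := S2.to_le (ER.trans inf_le_left)
  have mx' : ∀ D ≤ S ⊓ cq L, Y ≤ nor D → s ∈ nor D → D ≤ E := fun D h1 h2 h3 =>
    mx D h1 (sup_le h2 (zpowers_le.2 h3))
  have sq : H97.QT.SQTK ↥Y := hs Y fun h => q (eq_bot_iff.2 (c.QU.trans
    ((le_pCoreOf (S2.to_le c.US) (c.US.trans c.SY) c.YU).trans h.le)))
  by_cases h0 : E = ⊥
  · exact core j jM jC c ST Ts TL sT sS ss (fun D h1 h2 h3 => eq_bot_iff.2 ((mx' D h1 h2 h3).trans h0.le)) q sq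
      (Or.inl he)
  have h1T : S ⊔ zpowers s ≤ T := sup_le ST (zpowers_le.2 sT)
  have h1A : S ⊔ zpowers s ≤ nor E := sup_le (c.SY.trans YE) (zpowers_le.2 sE)
  have QE : ¬ o2 L ≤ E := fun h => c.out (YE.trans (m2 _ E (Ts.isPGroup.to_le h1T)
    (left_lt_sup.2 fun h => s0 (zpowers_le.1 h)) (h1T.trans TL) h (ER.trans (inf_le_left.trans le_sup_left)) h1A
    (c.LY.trans YE)))
  have EU : E ≤ U := c.le_U E2 YE
  have : (E.subgroupOf (nor E)).Normal := normal_in_normalizer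
  have b := br_quot (A := nor E) le_normalizer E2
  set f := QuotientGroup.mk' (E.subgroupOf (nor E)) with hf
  obtain ⟨P, hP, h1P⟩ := exists_isSyl_le (Ts.isPGroup.to_le h1T) (le_inf h1A (h1T.trans TL))
  have SP : S ≤ P := le_sup_left.trans h1P
  have PL : P ≤ nor L := hP.le.trans inf_le_right
  have hP' : IsSyl 2 P (nor E) := isSyl_of_isSyl_normalizer (hP.of_le
    (le_inf (hP.le.trans inf_le_left) le_normalizer) (inf_le_inf_left _ (m1 P hP.isPGroup SP PL)))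
  have LA := c.LY.trans YE
  have EL : E ≤ nor L := EU.trans (c.US.trans c.SL)
  have sA : H97.QT.SQTK ↥(nor E) := hs _ fun h => h0 (eq_bot_iff.2
    ((le_pCoreOf E2 le_normalizer le_rfl).trans h.le))
  refine core j jM jC (c.bar j b YE EU) (T := bar f P) (s := f ⟨s, sE⟩) (bar_mono SP) ?_ (bar_le_nor PL)
    (mem_bar_of (h1P (mem_sup_right (mem_zpowers s)))) (nor_bar_of sS) ?_ (fun D h1 h2 h3 => ?_) ?_
    (b.sqtk YE sq) (Or.inr ⟨H18.QT.sqtk_of_surjective sA f b.surj b.two_ker, ?_⟩)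
  · rw [← b.bar_top]
    exact isSyl_bar hP' le_rfl
  · rw [← map_mul]
    exact mem_bar_of ss
  · rw [b.inf_cq_bar c.l2.1 LA EL, b.le_bar_iff ER] at h1
    rw [← b.bar_pre D, b.bar_eq_bot (pre_le D)]
    exact mx' _ h1 (le_nor_pre YE h2) (nor_pre_of h3)
  · rw [b.o2_bar LA, Ne, b.bar_eq_bot ((pCoreOf_le L).trans LA)]
    exact QE
  · have nO : nor E ≤ nor (pre f (pCore 2 _)) := le_nor_pre le_rfl le_normalizer_of_normal
    rw [← b.bar_pre (pCore 2 _), b.bar_eq_bot (pre_le _)]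
    exact mx' _ ((c.le_U (b.isPGroup_pre (isPGroup_pCore 2 _)) (YE.trans nO)).trans c.Ucq) (YE.trans nO) (nO sE)

theorem main (j : JobLF.{u}) (jB : JobB.{u}) (jP : JobP.{u}) (jM : JobMid.{u}) (jC : JobC.{u}) {L T0 : Subgroup G}
    (l2 : L2 L) (q : o2 L ≠ ⊥) (T0s : IsSyl 2 T0 ⊤) (T0L : T0 ≤ nor L)
    (hu : ∀ T X : Subgroup G, IsSyl 2 T ⊤ → T ≤ nor L → IsPGroup 2 X → X ≠ ⊥ → L ≤ nor X → T ≤ nor X →
      nor X ≤ nor L)
    (hs : ∀ H : Subgroup G, o2 H ≠ ⊥ → H97.QT.SQTK ↥H)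
    (he : ∀ (T : Subgroup G) (z : G), IsSyl 2 T ⊤ → z ≠ 1 → z * z = 1 → T ≤ cen1 z → CharP 2 (cen1 z))
    {S0 : Subgroup G} (h2 : IsPGroup 2 S0) (hL : S0 ≤ nor L) (hsyl : IsSyl 2 (S0 ⊓ L) L) : nor S0 ≤ nor L := by
  by_contra hn
  obtain ⟨S, -, hS, hmax⟩ := Finite.exists_le_maximal (a := S0) (p := fun S : Subgroup G =>
    IsPGroup 2 S ∧ S ≤ nor L ∧ IsSyl 2 (S ⊓ L) L ∧ ¬ nor S ≤ nor L) ⟨h2, hL, hsyl, hn⟩
  obtain ⟨S2, SL, sylL, out⟩ := hS
  have up : ∀ P : Subgroup G, IsPGroup 2 P → S ≤ P → IsSyl 2 (P ⊓ L) L := fun P h1 h3 => by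
    rw [sylL.eq_of_le (h1.to_le (inf_le_left : P ⊓ L ≤ P)) (inf_le_inf_right L h3) inf_le_right]
    exact sylL
  have m0 : ∀ P : Subgroup G, IsPGroup 2 P → S < P → P ≤ nor L → nor P ≤ nor L := fun P h1 h3 h4 => by
    by_contra h5
    exact h3.not_ge (hmax ⟨h1, h4, up P h1 h3.le, h5⟩ h3.le)
  have big : ∀ P : Subgroup G, IsPGroup 2 P → P ≤ nor L → ∃ T, IsSyl 2 T ⊤ ∧ T ≤ nor L ∧ P ≤ T := fun P h1 h3 => by
    obtain ⟨g, hg, hg'⟩ := (T0s.of_le T0L le_top).exists_le_cj h1 h3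
    exact ⟨_, T0s.cj_of_mem (mem_top g), cj_le_of_le_of_mem T0L hg, hg'⟩
  obtain ⟨E, ES, hE, mx⟩ := exists_big S (L ⊔ nor S)
  have LE : L ≤ nor E := le_sup_left.trans hE
  have NE : nor S ≤ nor E := le_sup_right.trans hE
  obtain ⟨P0, hP0, SP0⟩ := exists_isSyl_le S2 (le_inf le_normalizer SL)
  have P0L : P0 ≤ nor L := hP0.le.trans inf_le_right
  obtain ⟨T1, T1s, T1L, ST1⟩ := big S S2 SL
  have alt : S < P0 ∨ S = T1 := by
    rcases ST1.lt_or_eq with h | h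
    · refine Or.inl (lt_of_le_of_ne SP0 fun e => ?_)
      have h3 := lt_inf_normalizer T1s.isPGroup h
      rw [← e] at hP0
      exact h3.ne' (hP0.eq_of_le (T1s.isPGroup.to_le inf_le_left) h3.le
        (le_inf inf_le_right (inf_le_left.trans T1L)))
    · exact Or.inr h
  have hP0' : IsSyl 2 P0 (nor S) := by
    rcases alt with h | h
    · exact isSyl_of_isSyl_normalizer (hP0.of_le (le_inf (hP0.le.trans inf_le_left) le_normalizer)
        (inf_le_inf_left _ (m0 P0 hP0.isPGroup h P0L)))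
    · rw [← h] at T1s
      rw [T1s.eq_of_le hP0.isPGroup SP0 le_top]
      exact T1s.of_le le_normalizer le_top
  have QE : o2 L ≤ E := step0 j jB jP l2 S2 SL sylL le_rfl le_normalizer hP0' P0L ES LE NE
    fun D h1 h3 h4 => mx D h1 (sup_le h3 h4)
  have ne : ∀ X : Subgroup G, o2 L ≤ X → X ≠ ⊥ := fun X h e => q (eq_bot_iff.2 (h.trans e.le))
  have lt0 : S < P0 := alt.resolve_right fun h => out (NE.trans
    (hu S E (h ▸ T1s) SL (S2.to_le ES) (ne E QE) LE (le_normalizer.trans NE)))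
  -- the pair
  let ok : Subgroup G → Subgroup G → Prop := fun P X =>
    IsPGroup 2 P ∧ S < P ∧ P ≤ nor L ∧ o2 L ≤ X ∧ X ≤ P ∧ P ≤ nor X ∧ L ≤ nor X ∧ ¬ nor X ≤ nor L
  obtain ⟨P, -, ⟨X0, hX0⟩, Pmax⟩ := Finite.exists_le_maximal (a := P0) (p := fun P => ∃ X, ok P X)
    ⟨E, hP0.isPGroup, lt0, P0L, QE, ES.trans SP0, hP0'.le.trans NE, LE, fun h => out (NE.trans h)⟩
  obtain ⟨U, -, hU, Umax⟩ := Finite.exists_le_maximal (a := X0) (p := fun X => ok P X) hX0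
  obtain ⟨P2, SP, PL, QU, UP, PU, LU, Uout⟩ := hU
  have m1 : ∀ P' : Subgroup G, IsPGroup 2 P' → P ≤ P' → P' ≤ nor L → nor P' ≤ nor L := fun P' h1 h3 h4 =>
    m0 P' h1 (SP.trans_le h3) h4
  have m2 : ∀ P' X : Subgroup G, IsPGroup 2 P' → P < P' → P' ≤ nor L → o2 L ≤ X → X ≤ P' → P' ≤ nor X →
      L ≤ nor X → nor X ≤ nor L := fun P' X h1 h3 h4 h5 h6 h7 h8 => by
    by_contra h9
    exact h3.not_ge (Pmax ⟨X, h1, SP.trans h3, h4, h5, h6, h7, h8, h9⟩ h3.le)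
  have syl : IsSyl 2 P (nor U) := by
    obtain ⟨P', hP', hPP'⟩ := exists_isSyl_le P2 (le_inf PU le_normalizer)
    have h3 := hP'.le.trans (inf_le_right.trans (m1 P P2 le_rfl PL))
    have e : P = P' := hPP'.eq_or_lt.resolve_right fun h =>
      Uout (m2 P' U hP'.isPGroup h h3 QU (UP.trans hPP') (hP'.le.trans inf_le_left) LU)
    rw [← e] at hP'
    exact isSyl_of_isSyl_normalizer hP'
  obtain ⟨T, Ts, TL, PT⟩ := big P P2 PL
  have lt : P < T := lt_of_le_of_ne PT fun e => Uout (hu P U (e ▸ Ts) PL (P2.to_le UP) (ne U QU) LU PU)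
  obtain ⟨s, sT, sP, s0, ss⟩ := exists_sq Ts.isPGroup lt
  obtain ⟨Y, YU, ⟨LY, PY, Yout⟩, Ymin⟩ := Finite.exists_le_minimal (a := nor U) (p := fun Y : Subgroup G =>
    L ≤ Y ∧ P ≤ Y ∧ ¬ Y ≤ nor L) ⟨LU, PU, Uout⟩
  refine core2 j jM jC (L := L) (U := U) (S := P) (Y := Y) ⟨l2, QU, UP, YU, LY, PY, syl, PL, fun h => s0 ?_, Yout,
    fun H h1 h3 h4 => ?_, fun X h1 h3 h4 h5 => inf_le_right.trans ?_⟩ PT Ts TL sT sP s0 ss m1 m2 q hs
    fun z => he T z Ts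
  · have e : P ⊓ cq L = U := le_antisymm h (le_inf UP (le_cq (P2.to_le UP) (UP.trans PL) LU))
    have sU : s ∈ nor U := by
      rw [← e]
      exact le_normalizer_inf (zpowers_le.2 sP) (zpowers_le.2 (nor_le_nor_cq L (TL sT))) (mem_zpowers s)
    have e' := syl.eq_of_le (Ts.isPGroup.to_le (inf_le_left : T ⊓ nor U ≤ T)) (le_inf PT PU) inf_le_right
    exact e'.le ⟨sT, sU⟩
  · by_cases h : H ≤ nor L
    · exact Or.inl h
    · exact Or.inr (le_antisymm h4 (Ymin ⟨h1, h3, h⟩ h4))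
  · by_contra h
    exact h1.not_ge (Umax ⟨P2, SP, PL, QU.trans h1.le, h3, h4, h5, h⟩ h1.le)

end H11.QG
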