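import Cfsg.Agent.H11.QGSpec
import Cfsg.Agent.H11.QTC0

/-! S1845: sections `A / E`, images and preimages of subgroups. -/

set_option autoImplicit false

namespace H11.QG

open Subgroup Cfsg H98 H96 H96.CG
open scoped commutatorElement

universe u

instance fact_two : Fact (Nat.Prime 2) := ⟨Nat.prime_two⟩

section Basic

variable {G : Type u} [Group G]

theorem cj_nor (g : G) (H : Subgroup G) : cj g (nor H) = nor (cj g H) := cj_normalizer g H

theorem cj_cen (g : G) (H : Subgroup G) : cj g (cen H) = cen (cj g H) := cj_centralizer g H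

theorem mem_cq {L : Subgroup G} {g : G} : g ∈ cq L ↔ g ∈ nor L ∧ ∀ l ∈ L, ⁅l, g⁆ ∈ o2 L := by
  unfold cq
  rw [mem_inf, mem_stab]
  exact ⟨fun h => ⟨h.1, h.2.2⟩, fun h => ⟨h.1, normalizer_le_normalizer_pCoreOf L h.1, h.2⟩⟩

theorem cq_le (L : Subgroup G) : cq L ≤ nor L := inf_le_left

theorem nor_le_nor_cq (L : Subgroup G) : nor L ≤ nor (cq L) :=
  le_normalizer_inf le_normalizer (le_normalizer_stab le_rfl (normalizer_le_normalizer_pCoreOf L))

theorem comm_cq (L : Subgroup G) : ⁅L, cq L⁆ ≤ o2 L :=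
  commutator_le.2 fun l hl _ hg => (mem_cq.1 hg).2 l hl

/-- a 2-group normalized by `L` and normalizing `L` centralizes `L / O₂(L)` -/
theorem le_cq {L X : Subgroup G} (h2 : IsPGroup 2 X) (hX : X ≤ nor L) (hL : L ≤ nor X) : X ≤ cq L := by
  have h : L ⊓ X ≤ o2 L :=
    le_pCoreOf (h2.to_le inf_le_right) inf_le_left (le_normalizer_inf le_normalizer hL)
  intro x hx
  refine mem_cq.2 ⟨hX hx, fun l hl => h ⟨?_, ?_⟩⟩
  · exact commutator_le_left' hX (commutator_mem_commutator hl hx)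
  · exact commutator_le_right' hL (commutator_mem_commutator hl hx)

theorem o2_le_cq (L : Subgroup G) : o2 L ≤ cq L :=
  le_cq (isPGroup_pCoreOf L) ((pCoreOf_le L).trans le_normalizer) (self_le_normalizer_pCoreOf L)

/-- a subgroup between `O₂(L)` and `cq L` is normalized by `L` -/
theorem le_nor_of_cq {L X : Subgroup G} (h1 : o2 L ≤ X) (h2 : X ≤ cq L) : L ≤ nor X := by
  refine le_normalizer_of_commutator_le (A := X) ?_ le_rfl
  rw [commutator_comm]
  exact (commutator_mono le_rfl h2).trans ((comm_cq L).trans h1)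

theorem cq_of_bot {L : Subgroup G} (h : o2 L = ⊥) : cq L = cen L := by
  ext g
  rw [mem_cq, h]
  constructor
  · rintro ⟨-, hg⟩
    exact mem_centralizer_iff.2 fun l hl => commutatorElement_eq_one_iff_mul_comm.1 (mem_bot.1 (hg l hl))
  · intro hg
    refine ⟨le_normalizer_of_le_centralizer le_rfl hg, fun l hl => mem_bot.2 ?_⟩
    exact commutatorElement_eq_one_iff_mul_comm.2 (mem_centralizer_iff.1 hg l hl)

end Basic

variable {G Γ : Type u} [Group G] [Group Γ] {A E : Subgroup G}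

/-- `f` maps `A` onto `Γ` with kernel the 2-group `E` -/
structure Br (A E : Subgroup G) (f : ↥A →* Γ) : Prop where
  surj : Function.Surjective f
  ker : ∀ a : ↥A, f a = 1 ↔ (a : G) ∈ E
  EA : E ≤ A
  two : IsPGroup 2 E

/-- the image -/
def bar (f : ↥A →* Γ) (X : Subgroup G) : Subgroup Γ := (X.subgroupOf A).map f

/-- the preimage -/
def pre (f : ↥A →* Γ) (X : Subgroup Γ) : Subgroup G := (X.comap f).map A.subtype

variable {f : ↥A →* Γ}

theorem mem_bar' {X : Subgroup G} {y : Γ} : y ∈ bar f X ↔ ∃ a : ↥A, (a : G) ∈ X ∧ f a = y := by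
  simp only [bar, mem_map, mem_subgroupOf]

theorem mem_bar_of {X : Subgroup G} {a : ↥A} (h : (a : G) ∈ X) : f a ∈ bar f X := mem_bar'.2 ⟨a, h, rfl⟩

theorem mem_pre {X : Subgroup Γ} {a : ↥A} : (a : G) ∈ pre f X ↔ f a ∈ X := by
  unfold pre
  rw [mem_map]
  constructor
  · rintro ⟨b, hb, e⟩
    have : b = a := Subtype.ext e
    subst this
    exact hb
  · exact fun h => ⟨a, h, rfl⟩

theorem pre_le (X : Subgroup Γ) : pre f X ≤ A := map_subtype_le _

theorem bar_mono {X Y : Subgroup G} (h : X ≤ Y) : bar f X ≤ bar f Y :=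
  map_mono (fun _ ha => h ha)

theorem pre_mono {X Y : Subgroup Γ} (h : X ≤ Y) : pre f X ≤ pre f Y :=
  map_mono (comap_mono h)

theorem bar_le_iff {X : Subgroup G} {Y : Subgroup Γ} (hX : X ≤ A) : bar f X ≤ Y ↔ X ≤ pre f Y := by
  constructor
  · intro h x hx
    exact (mem_pre (a := ⟨x, hX hx⟩)).2 (h (mem_bar_of hx))
  · intro h y hy
    obtain ⟨a, ha, rfl⟩ := mem_bar'.1 hy
    exact mem_pre.1 (h ha)

theorem pre_inf (X Y : Subgroup Γ) : pre f (X ⊓ Y) = pre f X ⊓ pre f Y := by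
  unfold pre
  rw [comap_inf, map_inf _ _ _ A.subtype_injective]

theorem bar_sup {X Y : Subgroup G} (hX : X ≤ A) (hY : Y ≤ A) : bar f (X ⊔ Y) = bar f X ⊔ bar f Y := by
  unfold bar
  rw [← Subgroup.map_sup, subgroupOf_sup hX hY]

theorem bar_comm {X Y : Subgroup G} (hX : X ≤ A) (hY : Y ≤ A) : bar f ⁅X, Y⁆ = ⁅bar f X, bar f Y⁆ := by
  unfold bar
  rw [← map_commutator]
  congr 1
  apply map_injective A.subtype_injective
  rw [map_commutator, map_subgroupOf_eq_of_le hX, map_subgroupOf_eq_of_le hY,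
    map_subgroupOf_eq_of_le (commutator_le_of_le hX hY)]

theorem bar_zpowers (a : ↥A) : bar f (zpowers (a : G)) = zpowers (f a) := by
  unfold bar
  rw [← MonoidHom.map_zpowers]
  congr 1
  apply map_injective A.subtype_injective
  rw [MonoidHom.map_zpowers, map_subgroupOf_eq_of_le (zpowers_le.2 a.2)]
  rfl

theorem nor_bar_of {X : Subgroup G} {a : ↥A} (h : (a : G) ∈ nor X) : f a ∈ nor (bar f X) := by
  have h1 : zpowers a ≤ nor (X.subgroupOf A) := by
    have := comap_le_normalizer_comap A.subtype (H := zpowers (a : G)) (A := X) (zpowers_le.2 h)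
    exact le_trans (zpowers_le.2 (mem_comap.2 (mem_zpowers _))) this
  exact map_le_normalizer_map f h1 (mem_map_of_mem f (mem_zpowers a))

theorem bar_le_nor {X Y : Subgroup G} (h : Y ≤ nor X) : bar f Y ≤ nor (bar f X) := by
  intro y hy
  obtain ⟨a, ha, rfl⟩ := mem_bar'.1 hy
  exact nor_bar_of (h ha)

theorem nor_pre_of {X : Subgroup Γ} {a : ↥A} (h : f a ∈ nor X) : (a : G) ∈ nor (pre f X) := by
  have h1 : zpowers a ≤ nor (X.comap f) := by
    have := comap_le_normalizer_comap f (H := zpowers (f a)) (A := X) (zpowers_le.2 h)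
    exact le_trans (zpowers_le.2 (mem_comap.2 (mem_zpowers _))) this
  exact map_le_normalizer_map A.subtype h1 (mem_map_of_mem A.subtype (mem_zpowers a))

theorem le_nor_pre {X : Subgroup Γ} {Y : Subgroup G} (hY : Y ≤ A) (h : bar f Y ≤ nor X) :
    Y ≤ nor (pre f X) := fun y hy => nor_pre_of (a := ⟨y, hY hy⟩) (h (mem_bar_of hy))

theorem isPGroup_bar {X : Subgroup G} (h : IsPGroup 2 X) : IsPGroup 2 (bar f X) :=
  (isPGroup_subgroupOf h A).map f

theorem isSyl_bar [Finite G] {X Y : Subgroup G} (h : IsSyl 2 X Y) (hY : Y ≤ A) :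
    IsSyl 2 (bar f X) (bar f Y) := (h.subgroupOf hY).map f

namespace Br

theorem mem_bar (b : Br A E f) {X : Subgroup G} (hX : E ≤ X) {a : ↥A} : f a ∈ bar f X ↔ (a : G) ∈ X := by
  refine ⟨fun h => ?_, mem_bar_of⟩
  obtain ⟨c, hc, e⟩ := mem_bar'.1 h
  have h1 : f (c⁻¹ * a) = 1 := by rw [map_mul, map_inv, e, inv_mul_cancel]
  have h2 := X.mul_mem hc (hX ((b.ker _).1 h1))
  simpa using h2

theorem bar_pre (b : Br A E f) (X : Subgroup Γ) : bar f (pre f X) = X := by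
  ext y
  obtain ⟨a, rfl⟩ := b.surj y
  rw [mem_bar']
  exact ⟨fun ⟨c, hc, e⟩ => e ▸ mem_pre.1 hc, fun h => ⟨a, mem_pre.2 h, rfl⟩⟩

theorem le_pre (b : Br A E f) (X : Subgroup Γ) : E ≤ pre f X := fun e he => by
  refine (mem_pre (a := ⟨e, b.EA he⟩)).2 ?_
  rw [(b.ker ⟨e, b.EA he⟩).2 he]
  exact X.one_mem

theorem pre_bar (b : Br A E f) {X : Subgroup G} (h1 : E ≤ X) (h2 : X ≤ A) : pre f (bar f X) = X := by
  refine le_antisymm (fun x hx => ?_) ((bar_le_iff h2).1 le_rfl)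
  exact (b.mem_bar h1 (a := ⟨x, pre_le _ hx⟩)).1 ((mem_pre (a := ⟨x, pre_le _ hx⟩)).1 hx)

theorem le_bar_iff (b : Br A E f) {X : Subgroup G} {Y : Subgroup Γ} (h1 : E ≤ X) :
    Y ≤ bar f X ↔ pre f Y ≤ X := by
  constructor
  · intro h x hx
    exact (b.mem_bar h1 (a := ⟨x, pre_le _ hx⟩)).1 (h ((mem_pre (a := ⟨x, pre_le _ hx⟩)).1 hx))
  · intro h
    rw [← b.bar_pre Y]
    exact bar_mono h

theorem bar_le_bar (b : Br A E f) {X Y : Subgroup G} (hX : X ≤ A) (hY : E ≤ Y) :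
    bar f X ≤ bar f Y ↔ X ≤ Y :=
  ⟨fun h x hx => (b.mem_bar hY (a := ⟨x, hX hx⟩)).1 (h (mem_bar_of hx)), bar_mono⟩

theorem bar_eq_bot (b : Br A E f) {X : Subgroup G} (hX : X ≤ A) : bar f X = ⊥ ↔ X ≤ E := by
  rw [eq_bot_iff]
  constructor
  · intro h x hx
    exact (b.ker ⟨x, hX hx⟩).1 (mem_bot.1 (h (mem_bar_of hx)))
  · intro h y hy
    obtain ⟨a, ha, rfl⟩ := mem_bar'.1 hy
    exact mem_bot.2 ((b.ker a).2 (h ha))

theorem bar_top (b : Br A E f) : bar f A = ⊤ := by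
  rw [eq_top_iff]
  intro y _
  obtain ⟨a, rfl⟩ := b.surj y
  exact mem_bar_of a.2

theorem bar_inf (b : Br A E f) {X Y : Subgroup G} (hY : E ≤ Y) : bar f (X ⊓ Y) = bar f X ⊓ bar f Y := by
  refine le_antisymm (le_inf (bar_mono inf_le_left) (bar_mono inf_le_right)) fun y hy => ?_
  obtain ⟨a, ha, rfl⟩ := mem_bar'.1 hy.1
  exact mem_bar_of ⟨ha, (b.mem_bar hY).1 hy.2⟩

theorem nor_bar (b : Br A E f) {X : Subgroup G} (h1 : E ≤ X) (h2 : X ≤ A) {a : ↥A} :
    f a ∈ nor (bar f X) ↔ (a : G) ∈ nor X := by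
  refine ⟨fun h => ?_, nor_bar_of⟩
  have := nor_pre_of h
  rwa [b.pre_bar h1 h2] at this

theorem nor_bar_eq (b : Br A E f) {X : Subgroup G} (h1 : E ≤ X) (h2 : X ≤ A) :
    nor (bar f X) = bar f (A ⊓ nor X) := by
  ext y
  obtain ⟨a, rfl⟩ := b.surj y
  rw [b.nor_bar h1 h2, b.mem_bar (le_inf b.EA (h1.trans le_normalizer))]
  exact ⟨fun h => ⟨a.2, h⟩, fun h => h.2⟩

theorem ker_eq (b : Br A E f) : f.ker = E.subgroupOf A := by
  ext a
  rw [MonoidHom.mem_ker, b.ker, mem_subgroupOf]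

theorem nE (b : Br A E f) : A ≤ nor E := by
  have h : (E.subgroupOf A).Normal := b.ker_eq ▸ f.normal_ker
  exact (normal_subgroupOf_iff_le_normalizer b.EA).1 h

theorem two_ker (b : Br A E f) : IsPGroup 2 f.ker := by
  rw [b.ker_eq]
  exact isPGroup_subgroupOf b.two A

theorem isPGroup_pre (b : Br A E f) {X : Subgroup Γ} (h : IsPGroup 2 X) : IsPGroup 2 (pre f X) :=
  (h.comap_of_ker_isPGroup f b.two_ker).map A.subtype

theorem pre_bar_eq (b : Br A E f) {X : Subgroup G} (hX : X ≤ A) : pre f (bar f X) = X ⊔ E := by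
  have h : bar f X = bar f (X ⊔ E) := by
    rw [bar_sup hX b.EA, (b.bar_eq_bot b.EA).2 le_rfl, sup_bot_eq]
  rw [h, b.pre_bar le_sup_right (sup_le hX b.EA)]

theorem o2_bar (b : Br A E f) {L : Subgroup G} (hL : L ≤ A) : o2 (bar f L) = bar f (o2 L) := by
  unfold bar o2
  rw [← map_pCoreOf_of_ker b.two_ker, pCoreOf_subgroupOf_eq hL]

theorem nor_bar_perf [Finite G] (b : Br A E f) {L : Subgroup G} (hp : ⁅L, L⁆ = L) (hL : L ≤ A)
    (hE : E ≤ nor L) {a : ↥A} : f a ∈ nor (bar f L) ↔ (a : G) ∈ nor L := by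
  refine ⟨fun h => ?_, nor_bar_of⟩
  have h1 := nor_pre_of h
  rw [b.pre_bar_eq hL] at h1
  refine mem_normalizer_of_cj_le (QT.perf_le_of_le_sup (W := E) ?_ hE ?_ (cj_le_of_le le_sup_left h1))
  · rw [← cj_commutator, hp]
  · have := b.two.isNilpotent
    infer_instance

theorem cq_bar [Finite G] (b : Br A E f) {L : Subgroup G} (hp : ⁅L, L⁆ = L) (hL : L ≤ A)
    (hE : E ≤ nor L) {a : ↥A} : f a ∈ cq (bar f L) ↔ (a : G) ∈ cq L := by
  rw [mem_cq, mem_cq, b.nor_bar_perf hp hL hE, b.o2_bar hL]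
  refine and_congr_right fun ha => ⟨fun h l hl => ?_, fun h y hy => ?_⟩
  · have h1 := h _ (mem_bar_of (f := f) (a := ⟨l, hL hl⟩) hl)
    rw [← map_commutatorElement, ← mem_pre, b.pre_bar_eq ((pCoreOf_le L).trans hL)] at h1
    have h2 : ⁅l, (a : G)⁆ ∈ L :=
      commutator_le_left' (zpowers_le.2 ha) (commutator_mem_commutator hl (mem_zpowers _))
    have h3 : (o2 L ⊔ E) ⊓ L ≤ o2 L := by
      rw [sup_inf_of_le_left ((pCoreOf_le L).trans (hL.trans b.nE)) (pCoreOf_le L)]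
      exact sup_le le_rfl (le_pCoreOf (b.two.to_le inf_le_left) inf_le_right
        (le_normalizer_inf (hL.trans b.nE) le_normalizer))
    exact h3 ⟨h1, h2⟩
  · obtain ⟨l, hl, rfl⟩ := mem_bar'.1 hy
    rw [← map_commutatorElement]
    exact mem_bar_of (h l hl)

theorem inf_cq_bar [Finite G] (b : Br A E f) {L S : Subgroup G} (hp : ⁅L, L⁆ = L) (hL : L ≤ A)
    (hE : E ≤ nor L) : bar f S ⊓ cq (bar f L) = bar f (S ⊓ cq L) := by
  ext y
  constructor
  · rintro ⟨h1, h2⟩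
    obtain ⟨a, ha, rfl⟩ := mem_bar'.1 h1
    exact mem_bar_of ⟨ha, (b.cq_bar hp hL hE).1 h2⟩
  · intro h
    obtain ⟨a, ha, rfl⟩ := mem_bar'.1 h
    exact ⟨mem_bar_of ha.1, (b.cq_bar hp hL hE).2 ha.2⟩

theorem l2_bar [Finite G] [Finite Γ] (b : Br A E f) (j : JobLF.{u}) {L : Subgroup G} (h : L2 L) (hL : L ≤ A) :
    L2 (bar f L) := by
  refine (j.2.1 _ _ f _ (j.2.2 G L A h hL) ?_).1
  exact le_pCoreOf (b.two_ker.to_le inf_le_left) inf_le_right
    (le_normalizer_inf (le_normalizer_of_normal) le_normalizer)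

end Br

/-- the identity map of `A` -/
theorem br_id (A : Subgroup G) : Br A ⊥ (MonoidHom.id ↥A) :=
  ⟨fun a => ⟨a, rfl⟩, fun a => by simp, bot_le, IsPGroup.of_bot⟩

/-- the quotient map -/
theorem br_quot {A E : Subgroup G} (h : E ≤ A) (h2 : IsPGroup 2 E) [(E.subgroupOf A).Normal] :
    Br A E (QuotientGroup.mk' (E.subgroupOf A)) :=
  ⟨QuotientGroup.mk'_surjective _, fun a => by
    rw [QuotientGroup.mk'_apply, QuotientGroup.eq_one_iff, mem_subgroupOf], h, h2⟩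

end H11.QG
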