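import Cfsg.Agent.H11.QGFin
import Cfsg.Agent.H96.GUno
import Cfsg.Agent.H10.ThompsonRed

/-! S1845: the configuration `L, U, S, Y`, its images, and the reduction to the middle part. -/

set_option autoImplicit false
set_option linter.unusedSectionVars false
set_option linter.unusedVariables false

namespace H11.QG

open Subgroup Cfsg H98 H96 H96.CG
open scoped commutatorElement

universe u

variable {G Γ : Type u} [Group G] [Finite G] [Group Γ] [Finite Γ]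

/-- the configuration -/
structure Cd (L U S Y : Subgroup G) : Prop where
  l2 : L2 L
  QU : o2 L ≤ U
  US : U ≤ S
  YU : Y ≤ nor U
  LY : L ≤ Y
  SY : S ≤ Y
  syl : IsSyl 2 S (nor U)
  SL : S ≤ nor L
  UR : ¬ S ⊓ cq L ≤ U
  out : ¬ Y ≤ nor L
  min : ∀ H, L ≤ H → S ≤ H → H ≤ Y → H ≤ nor L ∨ H = Y
  mx : ∀ X, U < X → X ≤ S → S ≤ nor X → L ≤ nor X → Y ⊓ nor X ≤ nor L

theorem Cd.sylL {L U S Y : Subgroup G} (c : Cd L U S Y) : IsSyl 2 (S ⊓ L) L :=
  c.syl.inf_of_le_normalizer (c.LY.trans c.YU) c.SL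

theorem Cd.Ucq {L U S Y : Subgroup G} (c : Cd L U S Y) : U ≤ S ⊓ cq L :=
  le_inf c.US (le_cq (c.syl.isPGroup.to_le c.US) (c.US.trans c.SL) (c.LY.trans c.YU))

theorem Cd.bar {L U S Y A E : Subgroup G} {f : ↥A →* Γ} (c : Cd L U S Y) (j : JobLF.{u}) (b : Br A E f)
    (YA : Y ≤ A) (EU : E ≤ U) : Cd (bar f L) (bar f U) (bar f S) (bar f Y) := by
  have LA := c.LY.trans YA
  have SA := c.SY.trans YA
  have UA := c.US.trans SA
  have EL : E ≤ nor L := EU.trans (c.US.trans c.SL)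
  refine ⟨b.l2_bar j c.l2 LA, ?_, bar_mono c.US, bar_le_nor c.YU, bar_mono c.LY, bar_mono c.SY, ?_,
    bar_le_nor c.SL, ?_, fun h => c.out fun y hy => ?_, fun H h1 h2 h3 => ?_, fun X h1 h2 h3 h4 y hy => ?_⟩
  · rw [b.o2_bar LA]
    exact bar_mono c.QU
  · rw [b.nor_bar_eq EU UA]
    exact isSyl_bar (c.syl.of_le (le_inf SA c.syl.le) inf_le_right) inf_le_left
  · rw [b.inf_cq_bar c.l2.1 LA EL, b.bar_le_bar (inf_le_left.trans SA) EU]
    exact c.UR
  · exact (b.nor_bar_perf c.l2.1 LA EL (a := ⟨y, YA hy⟩)).1 (h (mem_bar_of hy))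
  · rcases c.min (pre f H) ((bar_le_iff LA).1 h1) ((bar_le_iff SA).1 h2)
      ((b.le_bar_iff (EU.trans (c.US.trans c.SY))).1 h3) with h | h
    · left
      rw [← b.bar_pre H]
      exact bar_le_nor h
    · right
      rw [← h, b.bar_pre]
  · obtain ⟨a, ha, rfl⟩ := mem_bar'.1 hy.1
    refine nor_bar_of (c.mx (pre f X) (lt_of_le_of_ne ((bar_le_iff UA).1 h1.le) fun h => h1.ne ?_)
      ((b.le_bar_iff (EU.trans c.US)).1 h2) (le_nor_pre SA h3) (le_nor_pre LA h4) ⟨ha, nor_pre_of hy.2⟩)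
    rw [h, b.bar_pre]

theorem pre_id {A : Subgroup G} (X : Subgroup ↥A) : pre (MonoidHom.id ↥A) X = X.map A.subtype := by
  unfold pre
  rw [comap_id]

theorem char_map {φ : Γ →* G} (hφ : Function.Injective φ) {C R : Subgroup Γ}
    (h : (C.subgroupOf R).Characteristic) : ((C.map φ).subgroupOf (R.map φ)).Characteristic := by
  have h1 := H10.characteristic_map_mulEquiv (R.equivMapOfInjective φ hφ) (C.subgroupOf R)
  have e : (C.subgroupOf R).map (R.equivMapOfInjective φ hφ).toMonoidHom = (C.map φ).subgroupOf (R.map φ) := by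
    ext y
    obtain ⟨a, rfl⟩ := (R.equivMapOfInjective φ hφ).surjective y
    rw [mem_subgroupOf, coe_equivMapOfInjective_apply, mem_map_iff_mem hφ]
    exact mem_map_iff_mem (f := (R.equivMapOfInjective φ hφ).toMonoidHom) (R.equivMapOfInjective φ hφ).injective
  rwa [e] at h1

theorem Xd.back {L U S Y : Subgroup G} {K : Subgroup ↥Y} {x : ↥Y} (hp : ⁅L, L⁆ = L) (LY : L ≤ Y) (US : U ≤ S)
    (SY : S ≤ Y)
    (h : Xd (bar (MonoidHom.id ↥Y) L) (bar (MonoidHom.id ↥Y) U) (bar (MonoidHom.id ↥Y) S) K x) :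
    Xd L U S (pre (MonoidHom.id ↥Y) K) (x : G) := by
  have b := br_id Y
  set f := MonoidHom.id ↥Y with hf
  have UY := US.trans SY
  have XY : zpowers (x : G) ≤ Y := zpowers_le.2 x.2
  have eX : bar f (zpowers (x : G)) = zpowers x := bar_zpowers x
  have eW : ⁅U, zpowers (x : G)⁆ = ⁅bar f U, zpowers x⁆.map Y.subtype := by
    rw [← eX, ← bar_comm UY XY, ← pre_id, b.pre_bar bot_le (commutator_le_of_le UY XY)]
  have key : ∀ N ≤ pre f K, bar f N = K → N = pre f K := fun N hN e => by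
    rw [← e, b.pre_bar bot_le (hN.trans (pre_le K))]
  refine ⟨mem_pre.2 h.xK, (bar_le_iff LY).1 h.LK, le_nor_pre SY h.SK, fun k hk => ?_, ?_, ?_,
    fun hx => h.xM (nor_bar_of (f := f) hx), ?_, ?_, ?_, fun D hD hx => ?_, ?_, fun N h1 h2 h3 => key N h1 ?_,
    fun N h1 h2 h3 => key N h1 ?_⟩
  · exact (b.nor_bar bot_le UY (a := ⟨k, pre_le K hk⟩)).1 (h.KU ((mem_pre (a := ⟨k, pre_le K hk⟩)).1 hk))
  · rw [pre_id, ← map_commutator, h.perf]
  · rw [orderOf_coe]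
    exact h.odd
  · rw [eW, Ne, map_eq_bot_iff_of_injective _ Y.subtype_injective]
    exact h.f0
  · rw [eW, card_map_of_injective Y.subtype_injective]
    exact h.f1
  · have := map_mono (f := Y.subtype) h.f1'
    rwa [map_commutator, map_oz Y.subtype_injective, ← pre_id, ← pre_id, b.pre_bar bot_le UY] at this
  · obtain ⟨h1, h2⟩ := h.f2 (bar f D) (bar_mono hD) (nor_bar_of (f := f) hx)
    rw [b.inf_cq_bar hp LY bot_le, b.bar_le_bar (inf_le_left.trans (hD.trans SY)) bot_le] at h1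
    rw [← eX, ← bar_comm (hD.trans SY) XY, b.bar_le_bar (commutator_le_of_le (hD.trans SY) XY) bot_le] at h2
    exact ⟨h1, h2⟩
  · have h2 := h.f3
    rwa [← eX, ← b.bar_inf bot_le, ← bar_comm (inf_le_left.trans SY) XY,
      b.bar_le_bar (commutator_le_of_le (inf_le_left.trans SY) XY) bot_le] at h2
  · refine h.f5 _ ((bar_mono h1).trans (b.bar_pre K).le) ?_ (mem_bar_of (f := f) h3)
    rw [← b.bar_pre K]
    exact bar_le_nor h2
  · refine h.f6 _ ((bar_mono h1).trans (b.bar_pre K).le) ?_ (bar_mono h3)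
    rw [← b.bar_pre K]
    exact bar_le_nor h2

theorem Cd.md {L U S Y : Subgroup G} {s : G} (c : Cd L U S Y) (j : JobLF.{u}) (sL : s ∈ nor L) (sS : s ∈ nor S)
    (e2 : ∀ D ≤ S ⊓ cq L, Y ≤ nor D → s ∈ nor D → D = ⊥) (q : o2 L ≠ ⊥) (sq : H97.QT.SQTK ↥Y) :
    Md (QG.bar (MonoidHom.id ↥Y) L) (QG.bar (MonoidHom.id ↥Y) U) (QG.bar (MonoidHom.id ↥Y) S) := by
  have b := br_id Y
  set f := MonoidHom.id ↥Y with hf
  have d := c.bar j b le_rfl bot_le
  rw [b.bar_top] at d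
  have eR : pre f (QG.bar f S ⊓ cq (QG.bar f L)) = S ⊓ cq L := by
    rw [b.inf_cq_bar c.l2.1 c.LY bot_le, b.pre_bar bot_le (inf_le_left.trans c.SY)]
  refine ⟨d.l2, d.QU, d.US, normal_of_top_le_normalizer d.YU, ?_, d.SL, d.UR, d.out,
    fun H h1 h2 => d.min H h1 h2 le_top, fun X h1 h2 h3 h4 => ?_, fun C h1 h2 h3 h4 => h2 ?_, fun h => q ?_, sq⟩
  · have := d.syl
    rwa [top_le_iff.1 d.YU] at this
  · have := d.mx X h1 h2 h3 h4
    rwa [top_inf_eq] at this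
  · have h5 := char_map Y.subtype_injective h3
    rw [← pre_id, ← pre_id, eR] at h5
    have h6 : pre f C ≤ S ⊓ cq L := (pre_mono h1).trans eR.le
    have h7 := e2 (pre f C) h6 (le_nor_pre le_rfl (le_top.trans h4))
      (nor_le_of_char h6 h5 (le_normalizer_inf (zpowers_le.2 sS) (zpowers_le.2 (nor_le_nor_cq L sL))
        (mem_zpowers s)))
    rw [← b.bar_pre C, h7]
    exact (b.bar_eq_bot bot_le).2 le_rfl
  · rw [b.o2_bar c.LY] at h
    have h1 := le_nor_pre (f := f) (Y := Y) le_rfl (le_top.trans h)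
    rw [b.pre_bar bot_le ((pCoreOf_le L).trans c.LY)] at h1
    exact e2 _ (le_inf (c.QU.trans c.US) (o2_le_cq L)) h1 (normalizer_le_normalizer_pCoreOf L sL)

/-- the contradiction in the reduced situation -/
theorem core (j : JobLF.{u}) (jM : JobMid.{u}) (jC : JobC.{u}) {L U S Y T : Subgroup G} {s : G} (c : Cd L U S Y)
    (ST : S ≤ T) (Ts : IsSyl 2 T ⊤) (TL : T ≤ nor L) (sT : s ∈ T) (sS : s ∈ nor S) (ss : s * s ∈ S)
    (e2 : ∀ D ≤ S ⊓ cq L, Y ≤ nor D → s ∈ nor D → D = ⊥) (q : o2 L ≠ ⊥) (sq : H97.QT.SQTK ↥Y)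
    (h : (∀ z : G, z ≠ 1 → z * z = 1 → T ≤ cen1 z → CharP 2 (cen1 z)) ∨ (H97.QT.SQTK G ∧ pCore 2 G = ⊥)) :
    False := by
  obtain ⟨K, x, -, xd⟩ := jM _ _ _ _ (c.md j (TL sT) sS e2 q sq)
  have xd' := xd.back c.l2.1 c.LY c.US c.SY
  have lf := j.1 G L c.l2
  refine fin lf xd' c.QU c.US c.syl ST Ts TL c.sylL sT sS ss (fun D h1 h2 h3 h4 h5 => ?_)
    (hc_of jC lf xd' c.US c.syl.isPGroup Ts c.sylL h)
  refine e2 D (h1.trans c.Ucq) ?_ h5
  rcases c.min (Y ⊓ nor D) (le_inf c.LY h2) (le_inf c.SY h3) inf_le_left with h6 | h6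
  · exact (xd'.xM (h6 ⟨x.2, h4⟩)).elim
  · exact h6.ge.trans inf_le_right

end H11.QG
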