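import Cfsg.Agent.H11.QGBar
import Cfsg.Agent.H98.FStarP
import Cfsg.Agent.H98.PReduced
import Cfsg.Agent.H1.Coprime

/-! S1845: the final contradiction. -/

set_option autoImplicit false
set_option linter.unusedSectionVars false
set_option linter.unusedVariables false

namespace H11.QG

open Subgroup Cfsg H98 H96 H96.CG
open scoped commutatorElement

universe u

variable {G : Type u} [Group G] [Finite G]

theorem res_zpowers {x : G} (h : Odd (orderOf x)) : res 2 (zpowers x) = zpowers x := by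
  apply res_eq_self_of_coprime
  rw [Nat.card_zpowers]
  exact (Nat.coprime_two_right).2 h

theorem eq_one_of_odd {x : G} (h : Odd (orderOf x)) {k : ℕ} (hk : x ^ 2 ^ k = 1) : x = 1 :=
  orderOf_eq_one_iff.1 (Nat.Coprime.eq_one_of_dvd (Nat.Coprime.pow_right k ((Nat.coprime_two_right).2 h))
    (orderOf_dvd_of_pow_eq_one hk))

theorem cop_odd {P : Subgroup G} {x : G} (h : Odd (orderOf x)) (hP : IsPGroup 2 P) (hx : x ∈ nor P) :
    ⁅⁅P, zpowers x⁆, zpowers x⁆ = ⁅P, zpowers x⁆ :=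
  commutator_commutator_of_res_eq hP (zpowers_le.2 hx) (res_zpowers h)

theorem cop_perf {P K : Subgroup G} (h : ⁅K, K⁆ = K) (hP : IsPGroup 2 P) (hK : K ≤ nor P) :
    ⁅⁅P, K⁆, K⁆ = ⁅P, K⁆ :=
  commutator_commutator_of_res_eq hP hK (res_eq_self_of_perfect h)

/-- a group of order at most four equal to its commutator with `x` is irreducible -/
theorem irr_four {W D : Subgroup G} {x : G} (h4 : Nat.card W ≤ 4) (h2 : IsPGroup 2 W) (hx : x ∈ nor W)
    (hW : W ≤ ⁅W, zpowers x⁆) (hD : D ≤ W) (h0 : D ≠ ⊥) (hxD : x ∈ nor D) : D = W := by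
  by_contra hne
  have hm : D.relIndex W * Nat.card D = Nat.card W := by
    have := (D.subgroupOf W).index_mul_card
    rwa [Nat.card_congr (subgroupOfEquivOfLe hD).toEquiv] at this
  have h1 : D.relIndex W ≠ 1 := fun h => hne (le_antisymm hD (relIndex_eq_one.1 h))
  have h3 : 1 < Nat.card D := (one_lt_card_iff_ne_bot D).2 h0
  have h5 : D.relIndex W ≠ 0 := index_ne_zero_of_finite
  have h6 : D.relIndex W = 2 := by
    rcases Nat.lt_or_ge (D.relIndex W) 3 with h | h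
    · omega
    · nlinarith
  have key : ⁅W, zpowers x⁆ ≤ D := by
    rw [commutator_le]
    intro w hw g hg
    have g1 : g ∈ nor W := zpowers_le.2 hx hg
    have g2 : g ∈ nor D := zpowers_le.2 hxD hg
    have hw' : g * w⁻¹ * g⁻¹ ∈ W := conj_mem_of_mem_normalizer g1 (W.inv_mem hw)
    have := (mul_mem_iff_of_index_two (H := D.subgroupOf W) h6 (a := ⟨w, hw⟩) (b := ⟨_, hw'⟩)).2 (by
      rw [mem_subgroupOf, mem_subgroupOf]
      show w ∈ D ↔ g * w⁻¹ * g⁻¹ ∈ D
      rw [← mem_normalizer_iff.1 g2, D.inv_mem_iff])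
    rw [mem_subgroupOf] at this
    simpa [commutatorElement_def, mul_assoc] using this
  exact hne (le_antisymm hD (hW.trans key))

theorem LF.not_le {L E : Subgroup G} (lf : LF L) (h : IsSyl 2 E L) : ¬ E ≤ o2 L := fun h' => by
  have := lf.four E h
  rw [relIndex_eq_one.2 h'] at this
  omega

theorem LF.eq_of_syl {L E N : Subgroup G} (lf : LF L) (h : IsSyl 2 E L) (hE : E ≤ N) (hN : N ≤ L)
    (hn : L ≤ nor N) : N = L :=
  (lf.simp N hN hn).resolve_left fun h' => lf.not_le h (hE.trans h')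

/-- the involution `z` -/
theorem exists_z {L U S K T : Subgroup G} {x : G} (lf : LF L) (xd : Xd L U S K x) (QU : o2 L ≤ U) (US : U ≤ S)
    (SU : S ≤ nor U) (ST : S ≤ T) (T2 : IsPGroup 2 T) (TL : T ≤ nor L) (sylL : IsSyl 2 (S ⊓ L) L) :
    ∃ z ∈ ⁅U, K⁆, z ≠ 1 ∧ z * z = 1 ∧ T ≤ cen1 z ∧ x ∈ cen1 z := by
  have S2 : IsPGroup 2 S := T2.to_le ST
  have U2 : IsPGroup 2 U := S2.to_le US
  have xU : x ∈ nor U := xd.KU xd.xK
  have XU : zpowers x ≤ nor U := zpowers_le.2 xU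
  have LU : L ≤ nor U := xd.LK.trans xd.KU
  set X := zpowers x with hX
  set W := ⁅U, X⁆ with hW
  have WU : W ≤ U := commutator_le_left' XU
  set P := S ⊓ L ⊔ U with hP
  have PS : P ≤ S := sup_le inf_le_left US
  have PX : ⁅P, X⁆ ≤ U := commutator_sup_left_le (inf_le_left.trans SU) le_normalizer xd.f3 WU
  have XP : X ≤ nor P := le_normalizer_of_commutator_le (A := P) (PX.trans le_sup_right) le_rfl
  have xP : x ∈ nor P := XP (mem_zpowers x)
  have PW : ⁅P, X⁆ = W := by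
    refine le_antisymm ?_ (commutator_mono le_sup_right le_rfl)
    rw [← cop_odd xd.odd (S2.to_le PS) xP]
    exact commutator_mono PX le_rfl
  have nW : P ≤ nor W := by
    rw [← PW]
    exact normalizer_commutator_ge_left P X
  have xW : x ∈ nor W := normalizer_commutator_ge_right U X (mem_zpowers x)
  have WP : W ≤ cen P := by
    have h := irr_four xd.f1 (U2.to_le WU) xW (cop_odd xd.odd U2 xU).ge (D := W ⊓ cen P) inf_le_left
      (inf_centralizer_ne_bot (U2.to_le WU) (S2.to_le PS) nW xd.f0)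
      (le_normalizer_inf (zpowers_le.2 xW) (le_normalizer_centralizer XP) (mem_zpowers x))
    exact h.ge.trans inf_le_right
  have hdec : P ⊓ cen X ⊔ W = P := by
    rw [sup_comm, ← PW]
    refine H1.commutator_sup_centralizer XP ?_ (Or.inr ?_)
    · obtain ⟨k, hk⟩ := IsPGroup.iff_card.1 (S2.to_le PS)
      rw [hk, hX, Nat.card_zpowers]
      exact Nat.Coprime.pow_right k ((Nat.coprime_two_right).2 xd.odd)
    · have := (S2.to_le PS).isNilpotent
      infer_instance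
  have PP : ⁅P, P⁆ ≤ cen X := by
    have nC : W ≤ nor (P ⊓ cen X) :=
      le_normalizer_of_le_centralizer (WP.trans (centralizer_anti inf_le_left))
    have e1 : ⁅P, P⁆ = ⁅P ⊓ cen X, P⁆ := by
      conv_lhs => lhs; rw [← hdec]
      exact commutator_sup_centralizer_left WP (Or.inl nC)
    have e2 : ⁅P, P ⊓ cen X⁆ = ⁅P ⊓ cen X, P ⊓ cen X⁆ := by
      conv_lhs => lhs; rw [← hdec]
      exact commutator_sup_centralizer_left (WP.trans (centralizer_anti inf_le_left)) (Or.inl nC)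
    rw [e1, commutator_comm, e2]
    exact commutator_le_of_le inf_le_right inf_le_right
  set Q := ⁅o2 L, L⁆ with hQ
  have QQ : Q ≤ o2 L := commutator_le_left' (self_le_normalizer_pCoreOf L)
  have nQ : nor L ≤ nor Q := le_normalizer_commutator (normalizer_le_normalizer_pCoreOf L) le_rfl
  have B0 : ⁅Q, S ⊓ L⁆ ≠ ⊥ := by
    intro h
    have h1 : S ⊓ L ≤ cen Q := by
      rw [commutator_comm] at h
      exact commutator_eq_bot_iff_le_centralizer.1 h
    have h2 := lf.eq_of_syl sylL (N := L ⊓ cen Q) (le_inf inf_le_right h1) inf_le_left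
      (le_normalizer_inf le_normalizer (le_normalizer_centralizer (le_normalizer.trans nQ)))
    have h3 : ⁅Q, L⁆ = ⊥ := by
      rw [commutator_comm]
      exact commutator_eq_bot_iff_le_centralizer.2 (h2.ge.trans inf_le_right)
    have h4 : Q = ⊥ := by
      rw [← h3]
      exact (cop_perf lf.perf (isPGroup_pCoreOf L) (self_le_normalizer_pCoreOf L)).symm
    have h5 : ⁅U, L⁆ ≤ o2 L := by
      rw [commutator_comm]
      exact (commutator_mono le_rfl (le_cq U2 (US.trans (ST.trans TL)) LU)).trans (comm_cq L)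
    have h6 : ⁅U, L⁆ = ⊥ := by
      rw [← cop_perf lf.perf U2 LU, eq_bot_iff, ← h4]
      exact commutator_mono h5 le_rfl
    have h7 := xd.f6 (K ⊓ cen U) inf_le_left
      (le_normalizer_inf le_normalizer (le_normalizer_centralizer xd.KU))
      (le_inf xd.LK (by rw [commutator_comm] at h6; exact commutator_eq_bot_iff_le_centralizer.1 h6))
    apply xd.f0
    rw [commutator_comm]
    exact commutator_eq_bot_iff_le_centralizer.2 (zpowers_le.2 (h7.ge xd.xK).2)
  have eT : T ⊓ L = S ⊓ L :=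
    sylL.eq_of_le (T2.to_le inf_le_left) (inf_le_inf_right L ST) inf_le_right
  have TB : T ≤ nor ⁅Q, S ⊓ L⁆ :=
    le_normalizer_commutator (TL.trans nQ) (by rw [← eT]; exact le_normalizer_inf le_normalizer TL)
  have BQ : ⁅Q, S ⊓ L⁆ ≤ Q := commutator_le_left' (inf_le_right.trans (le_normalizer.trans nQ))
  obtain ⟨z, hz, z1⟩ := (bot_or_exists_ne_one _).resolve_left
    (inf_oz_ne_bot T2 (BQ.trans (QQ.trans (QU.trans (US.trans ST)))) TB B0)
  have hz2 := mem_oz.1 hz.2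
  refine ⟨z, commutator_mono QU xd.LK (BQ hz.1), z1, by rw [← pow_two]; exact hz2.2.2, fun t ht => ?_, ?_⟩
  · exact mem_centralizer_singleton_iff.2 (mem_centralizer_iff.1 hz2.2.1 t ht)
  · have := PP (commutator_mono (QQ.trans (QU.trans le_sup_right)) le_sup_left hz.1)
    exact mem_centralizer_singleton_iff.2 (mem_centralizer_iff.1 this x (mem_zpowers x))

theorem fin {L U S K T : Subgroup G} {x s : G} (lf : LF L) (xd : Xd L U S K x) (QU : o2 L ≤ U) (US : U ≤ S)
    (syl : IsSyl 2 S (nor U)) (ST : S ≤ T) (Ts : IsSyl 2 T ⊤) (TL : T ≤ nor L) (sylL : IsSyl 2 (S ⊓ L) L)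
    (sT : s ∈ T) (sS : s ∈ nor S) (ss : s * s ∈ S)
    (e2 : ∀ D ≤ U, L ≤ nor D → S ≤ nor D → x ∈ nor D → s ∈ nor D → D = ⊥)
    (hc : ∀ z ∈ ⁅U, K⁆, z ≠ 1 → z * z = 1 → T ≤ cen1 z → x ∈ cen1 z → x ∉ cen (o2 (cen1 z))) : False := by
  have T2 := Ts.isPGroup
  have SU := syl.le
  obtain ⟨z, zW, z1, z2, Tz, xz⟩ := exists_z lf xd QU US SU ST T2 TL sylL
  have hx := hc z zW z1 z2 Tz xz
  set Q := o2 (cen1 z) with hQ
  have U2 : IsPGroup 2 U := T2.to_le (US.trans ST)
  have xU : x ∈ nor U := xd.KU xd.xK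
  have LU : L ≤ nor U := xd.LK.trans xd.KU
  have Ucq : U ≤ cq L := le_cq U2 (US.trans (ST.trans TL)) LU
  have QT : Q ≤ T := (Ts.of_le Tz le_top).pCoreOf_le
  have TQ : T ≤ nor Q := le_normalizer_pCoreOf_of_le Tz
  have xQ : x ∈ nor Q := self_le_normalizer_pCoreOf _ xz
  have NT : T ⊓ nor U = S := syl.eq_of_le (T2.to_le inf_le_left) (le_inf ST SU) inf_le_right
  have e1 : Q ⊓ S = Q ⊓ nor U := by
    rw [← NT, ← inf_assoc, inf_eq_left.2 QT]
  have QS : Q ≤ S := by
    by_contra hn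
    have h1 := (xd.f2 (Q ⊓ S) inf_le_right (by
      rw [e1]
      exact le_normalizer_inf (zpowers_le.2 xQ) (le_normalizer_of_le (zpowers_le.2 xU)) (mem_zpowers x))).1
    have UQ : U ≤ nor Q := US.trans (ST.trans TQ)
    have e3 : (U ⊔ Q) ⊓ S = U ⊔ Q ⊓ S := sup_inf_of_le_left UQ US
    have hlt : U ⊔ Q ⊓ S < U ⊔ Q := by
      refine lt_of_le_of_ne (sup_le_sup_left inf_le_left U) fun h => hn ?_
      exact le_sup_right.trans (h.ge.trans (sup_le US inf_le_right))
    obtain ⟨y, hy, hy'⟩ := SetLike.exists_of_lt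
      (lt_inf_normalizer (T2.to_le (sup_le (US.trans ST) QT)) hlt)
    have yT : y ∈ T := sup_le (US.trans ST) QT hy.1
    have e4 : (U ⊔ Q ⊓ S) ⊓ cq L = U := by
      rw [sup_inf_of_le_left (le_normalizer_inf UQ (le_normalizer_of_le US)) Ucq]
      exact sup_eq_left.2 h1
    have yU : y ∈ nor U := by
      rw [← e4]
      exact le_normalizer_inf (zpowers_le.2 hy.2) (zpowers_le.2 (nor_le_nor_cq L (TL yT))) (mem_zpowers y)
    apply hy'
    rw [← e3, ← NT]
    exact ⟨hy.1, yT, yU⟩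
  obtain ⟨h1, h2⟩ := xd.f2 Q QS xQ
  have WU : ⁅U, zpowers x⁆ ≤ U := commutator_le_left' (zpowers_le.2 xU)
  have h3 : ⁅Q, zpowers x⁆ = ⁅U, zpowers x⁆ := by
    refine irr_four xd.f1 (U2.to_le WU) (normalizer_commutator_ge_right U _ (mem_zpowers x))
      (cop_odd xd.odd U2 xU).ge ?_ (fun h => hx ?_) (normalizer_commutator_ge_right Q _ (mem_zpowers x))
    · rw [← cop_odd xd.odd (T2.to_le QT) xQ]
      exact commutator_mono h2 le_rfl
    · rw [commutator_comm] at h
      exact commutator_eq_bot_iff_le_centralizer.1 h (mem_zpowers x)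
  have h4 : ⁅U, zpowers x⁆ ≤ Q ⊓ cq L :=
    le_inf (h3.ge.trans (commutator_le_left' (zpowers_le.2 xQ))) (WU.trans Ucq)
  have h5 : Q ⊓ cq L ≤ cj s U := by
    have : s ∈ nor (Q ⊓ cq L) :=
      le_normalizer_inf TQ (TL.trans (nor_le_nor_cq L)) sT
    rw [← cj_eq_self this]
    exact cj_mono s h1
  have h6 : ⁅U, zpowers x⁆ ≤ U ⊓ cj s U := le_inf WU (h4.trans h5)
  have h7 : ∀ A : Subgroup G, s ∈ nor A → A ≤ nor U → A ≤ nor (U ⊓ cj s U) := fun A h h' => by
    refine le_normalizer_inf h' ?_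
    rw [← cj_normalizer, ← cj_eq_self h]
    exact cj_mono s h'
  have := e2 (U ⊓ cj s U) inf_le_left (h7 L (TL sT) LU) (h7 S sS SU)
    (le_normalizer_of_commutator_le (A := U) h6 inf_le_left (mem_zpowers x))
    (by rw [← cj_eq_self_iff, cj_inf, cj_cj, cj_eq_self (SU ss), inf_comm])
  exact xd.f0 (eq_bot_iff.2 (h6.trans this.le))

/-- the two ways of getting the last hypothesis of `fin` -/
theorem hc_of (jC : JobC.{u}) {L U S K T : Subgroup G} {x : G} (lf : LF L) (xd : Xd L U S K x) (US : U ≤ S)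
    (S2 : IsPGroup 2 S) (Ts : IsSyl 2 T ⊤) (sylL : IsSyl 2 (S ⊓ L) L)
    (h : (∀ z : G, z ≠ 1 → z * z = 1 → T ≤ cen1 z → CharP 2 (cen1 z)) ∨ (H97.QT.SQTK G ∧ pCore 2 G = ⊥)) :
    ∀ z ∈ ⁅U, K⁆, z ≠ 1 → z * z = 1 → T ≤ cen1 z → x ∈ cen1 z → x ∉ cen (o2 (cen1 z)) := by
  intro z zW z1 z2 Tz xz
  rcases h with h | ⟨h1, h2⟩
  · intro hx
    have h3 : x ∈ o2 (cen1 z) := (h z z1 z2 Tz).le ⟨xz, hx⟩
    obtain ⟨k, hk⟩ := isPGroup_iff_forall.1 (isPGroup_pCoreOf (p := 2) (cen1 z)) x h3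
    apply xd.f0
    rw [eq_one_of_odd xd.odd hk, zpowers_one_eq_bot, commutator_bot_right]
  · have WK : ⁅U, K⁆ ≤ K := commutator_le_right' (US.trans xd.SK)
    have ea : IsElementaryAbelian 2 ⁅U, K⁆ := H12.ea_mono (ea_oz U) xd.f1'
    refine jC G K ⁅U, K⁆ T z x h1 h2 xd.perf WK ea (cop_perf xd.perf (S2.to_le US) xd.KU) zW z1 Ts Tz xd.xK
      xd.odd xz xd.f5 fun N hN nN ho => xd.f6 N hN nN ?_
    have W2 : IsPGroup 2 ↥⁅U, K⁆ := (S2.to_le US).to_le (commutator_le_left' xd.KU)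
    have nW : K ≤ nor (N ⊔ ⁅U, K⁆) := le_normalizer_sup nN (normalizer_commutator_ge_right U K)
    obtain ⟨P, hP⟩ := exists_isSyl 2 (N ⊔ ⁅U, K⁆)
    have hP' : IsSyl 2 P K := isSyl_of_not_dvd hP (sup_le hN WK) (by
      rw [← even_iff_two_dvd, Nat.not_even_iff_odd]; exact ho)
    obtain ⟨g, hg, hg'⟩ := hP'.exists_le_cj (S2.to_le (inf_le_left : S ⊓ L ≤ S)) (inf_le_right.trans xd.LK)
    have h3 : S ⊓ L ≤ N ⊔ ⁅U, K⁆ := hg'.trans (cj_le_of_le hP.le (nW hg))
    have h4 := lf.eq_of_syl sylL (N := L ⊓ (N ⊔ ⁅U, K⁆)) (le_inf inf_le_right h3) inf_le_left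
      (le_normalizer_inf le_normalizer (xd.LK.trans nW))
    refine QT.perf_le_of_le_sup lf.perf (WK.trans nN) ?_ (h4.ge.trans inf_le_right)
    have := W2.isNilpotent
    infer_instance

end H11.QG
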