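import Cfsg.Agent.H11.QdLocal
import Cfsg.Agent.H11.LocalModel
import Cfsg.Agent.H94.FactorSat
import Cfsg.Agent.H92.Normal

/-! Consequences of Glauberman's Theorem B (control of strong fusion by `Z(J(D))` in
`Qd(p)`-free groups), carried as the hypothesis `ThmB`. -/

set_option autoImplicit false

namespace H11

open Cfsg Subgroup FusionSystem H16 H13
open scoped Pointwise

universe u

/-- Glauberman's Theorem B for strongly closed subgroups. -/
def ThmB (p : ℕ) [Fact p.Prime] : Prop :=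
  ∀ (G : Type u) [Group G] [Finite G] (P : Sylow p G) (D : Subgroup G),
    IsStronglyClosed D P → ¬ Involves (qd p) G → Ctrl (Nm (zj 0 D)) P ⊤

variable {p : ℕ} [hp : Fact p.Prime]

section
variable {G : Type*} [Group G]

theorem sc_of_ctrl {Z P : Subgroup G} (hZ : Z ≤ P) (h : Ctrl (Nm Z) P ⊤) :
    IsStronglyClosed Z P := by
  refine ⟨hZ, fun x hx g hg => ?_⟩
  obtain ⟨n, hn, he⟩ := h (zpowers x) (zpowers_le_of_mem (hZ hx)) g (mem_top g) (by
    rw [cj_le_iff_le_cj, zpowers_le, mem_cj, inv_inv]; exact hg)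
  rw [he x (mem_zpowers x)]
  exact H7.conj_mem_of_mem_normalizer hn hx

theorem exists_conj_eq_of_ctrl {M P : Subgroup G} (h : Ctrl M P ⊤) {x g : G} (hx : x ∈ P)
    (hg : g * x * g⁻¹ ∈ P) : ∃ n ∈ M, g * x * g⁻¹ = n * x * n⁻¹ := by
  obtain ⟨n, hn, he⟩ := h (zpowers x) (zpowers_le_of_mem hx) g (mem_top g) (by
    rw [cj_le_iff_le_cj, zpowers_le, mem_cj, inv_inv]; exact hg)
  exact ⟨n, hn, he x (mem_zpowers x)⟩

theorem stronglyClosed_group_iff {P R : Subgroup G} :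
    (groupFusionSystem P).StronglyClosed R ↔ IsStronglyClosed R P := by
  rw [H92.stronglyClosed_iff]
  refine and_congr_right fun hR => ⟨fun h x hx g hg => ?_, fun h T f hf x hx hxR => ?_⟩
  · refine h (zpowers x) (fun y => g * y * g⁻¹) (H92.mor_group_iff.mpr
      ⟨zpowers_le_of_mem (hR hx), ?_, g, fun _ _ => rfl⟩) x (mem_zpowers x) hx
    rw [← cj_le_iff, cj_le_iff_le_cj, zpowers_le, mem_cj, inv_inv]; exact hg
  · obtain ⟨-, h1, g, h2⟩ := H92.mor_group_iff.mp hf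
    rw [h2 x hx]
    exact h x hxR g (h2 x hx ▸ h1 x hx)

theorem isNormal_group_iff [Finite G] {P Q : Subgroup G} :
    (groupFusionSystem P).IsNormal Q ↔ Q ≤ P ∧ Ctrl (Nm Q) P ⊤ := by
  rw [H92.isNormal_iff]
  refine and_congr_right fun hQ => ⟨fun h T hT g _ hg => ?_, fun h T f hf => ?_⟩
  · obtain ⟨f, hf, e, hi⟩ := h T (fun y => g * y * g⁻¹)
      (H92.mor_group_iff.mpr ⟨hT, cj_le_iff.mp hg, g, fun _ _ => rfl⟩)
    obtain ⟨-, -, s, hs⟩ := H92.mor_group_iff.mp hf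
    refine ⟨s, H7.mem_normalizer_of_forall fun x hx => ?_, fun a ha => ?_⟩
    · rw [← hs x (mem_sup_right hx), ← hi]
      exact H92.mem_img_of_mem f hx
    · exact (e a ha).symm.trans (hs a (mem_sup_left ha))
  · obtain ⟨hT, h1, g, h2⟩ := H92.mor_group_iff.mp hf
    have hg : cj g T ≤ P := cj_le_iff.mpr fun x hx => h2 x hx ▸ h1 x hx
    obtain ⟨n, hn, he⟩ := h T hT g (mem_top g) hg
    refine ⟨fun y => n * y * n⁻¹, H92.mor_group_iff.mpr ⟨sup_le hT hQ, ?_, n, fun _ _ => rfl⟩,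
      fun x hx => (he x hx).symm.trans (h2 x hx).symm,
      (H94.img_conj_eq_cj _ _).trans (cj_eq_iff.mpr hn)⟩
    rw [← cj_le_iff, cj_sup, cj_eq_iff.mpr hn, ← cj_eq_of_agree he]
    exact sup_le hg hQ

theorem le_Nm_of_ctrl {Q P : Subgroup G} (hQ : Q ≤ P) (h : Ctrl (Nm Q) P ⊤) : P ≤ Nm Q :=
  sc_le_normalizer (sc_of_ctrl hQ h)

end

/-- Between two strongly closed subgroups there is a strongly closed abelian layer. -/
theorem ThmB.exists_sc_between (hB : ThmB.{u} p) (n : ℕ) : ∀ (G : Type u) [Group G] [Finite G],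
    Nat.card G = n → ¬ Involves (qd p) G → ∀ (P : Sylow p G) (R D : Subgroup G),
      IsStronglyClosed R P → IsStronglyClosed D P → R < D →
      ∃ W, IsStronglyClosed W P ∧ R < W ∧ W ≤ D ∧ ⁅W, W⁆ ≤ R := by
  induction n using Nat.strong_induction_on with
  | _ n ih =>
  intro G _ _ hn hG P R D hR hD hRD
  by_cases hR1 : R = ⊥
  · subst hR1
    refine ⟨zj 0 D, sc_of_ctrl ((zj_le 0 D).trans hD.1) (hB G P D hD hG),
      bot_lt_iff_ne_bot.mpr (zj_ne_bot (dvd_zero p) (P.2.to_le hD.1) hRD.ne'), zj_le 0 D, ?_⟩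
    have := (isEA_zj 0 D).1
    rw [le_bot_iff, commutator_eq_bot_iff_le_centralizer]
    exact le_centralizer _
  set Z := zj 0 R with hZ
  have hZR : Z ≤ R := zj_le 0 R
  have hZ1 : Z ≠ ⊥ := zj_ne_bot (dvd_zero p) (P.2.to_le hR.1) hR1
  have hc := hB G P R hR hG
  set N := Nm Z with hN
  have hPN : (P : Subgroup G) ≤ N := le_Nm_of_ctrl (hZR.trans hR.1) hc
  have hZn : (Z.subgroupOf N).Normal := normal_in_normalizer
  set π := QuotientGroup.mk' (Z.subgroupOf N) with hπ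
  have hs : Function.Surjective π := QuotientGroup.mk'_surjective _
  have hk : π.ker = Z.subgroupOf N := QuotientGroup.ker_mk' _
  have hP1 : H7.IsSylowIn p ((P : Subgroup G).subgroupOf N) ⊤ := H7.isSylowIn_top (P.subtype hPN)
  have hcm : ∀ X : Subgroup G, Z ≤ X → ((X.subgroupOf N).map π).comap π = X.subgroupOf N :=
    fun X hX => comap_map_eq_self (hk.le.trans (subgroupOf_mono N hX))
  have hlt : Nat.card (N ⧸ Z.subgroupOf N) < n := by
    have h1 := (Z.subgroupOf N).card_mul_index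
    have h2 : 1 < Nat.card (Z.subgroupOf N) := by
      rw [Nat.card_congr (subgroupOfEquivOfLe (le_normalizer : Z ≤ N)).toEquiv]
      exact (one_lt_card_iff_ne_bot Z).mpr hZ1
    have h3 : Nat.card N ≤ Nat.card G := Nat.card_le_card_of_injective _ N.subtype_injective
    have h4 : 0 < (Z.subgroupOf N).index := Nat.pos_of_ne_zero index_ne_zero_of_finite
    change (Z.subgroupOf N).index < n
    nlinarith
  obtain ⟨W, hW, hRW, hWD, hWW⟩ := ih _ hlt _ rfl
    (fun h => hG (H94.involves_trans h (H94.involves_trans (H94.involves_quotient _)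
      (H94.involves_subgroup N))))
    ((P.subtype hPN).mapSurjective hs) ((R.subgroupOf N).map π) ((D.subgroupOf N).map π)
    (sc_map π hs hP1 (sc_subgroupOf hR N)) (sc_map π hs hP1 (sc_subgroupOf hD N))
    (lt_of_le_of_ne (map_mono (subgroupOf_mono N hRD.le)) fun h => hRD.ne (le_antisymm hRD.le
      fun x hx => by
        have h1 := congrArg (comap π) h
        rw [hcm R hZR, hcm D (hZR.trans hRD.le)] at h1
        exact (h1.ge (show (⟨x, hPN (hD.1 hx)⟩ : N) ∈ D.subgroupOf N from hx) :)))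
  have hle : ∀ X : Subgroup G, Z ≤ X → ∀ Y : Subgroup (N ⧸ Z.subgroupOf N),
      Y ≤ (X.subgroupOf N).map π → (Y.comap π).map N.subtype ≤ X := fun X hX Y hY => by
    rw [map_le_iff_le_comap]
    exact (comap_mono hY).trans (hcm X hX).le
  have hWD' := hle D (hZR.trans hRD.le) W hWD
  refine ⟨(W.comap π).map N.subtype, ⟨hWD'.trans hD.1, ?_⟩, lt_of_le_of_ne ?_ fun h => hRW.ne ?_,
    hWD', ?_⟩
  · rintro _ ⟨x, hx, rfl⟩ g hg
    obtain ⟨m, hm, he⟩ := exists_conj_eq_of_ctrl hc (hD.1 (hWD' ⟨x, hx, rfl⟩)) hg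
    rw [he] at hg ⊢
    refine ⟨⟨m, hm⟩ * x * ⟨m, hm⟩⁻¹, ?_, rfl⟩
    have := hW.2 _ hx (π ⟨m, hm⟩) ⟨⟨m, hm⟩ * x * ⟨m, hm⟩⁻¹, hg, by simp⟩
    simpa using this
  · intro x hx
    exact ⟨⟨x, hPN (hR.1 hx)⟩, hRW.le (mem_map_of_mem π hx), rfl⟩
  · refine (congrArg (fun X : Subgroup G => (X.comap N.subtype).map π) h).trans ?_
    simp only [comap_map_eq_self_of_injective N.subtype_injective,
      map_comap_eq_self_of_surjective hs]
  · rw [← map_commutator]
    refine (map_mono ?_).trans (hle R hZR _ hWW)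
    rw [← map_le_iff_le_comap, map_commutator, map_comap_eq_self_of_surjective hs]

theorem ThmB.isSolvableSystem (hB : ThmB.{u} p) {G : Type u} [Group G] [Finite G]
    (hG : ¬ Involves (qd p) G) (P : Sylow p G) :
    (groupFusionSystem (P : Subgroup G)).IsSolvableSystem := by
  intro R hR hRP _ E hE
  obtain ⟨W, hW, hRW, hWP, hWW⟩ := hB.exists_sc_between _ G rfl hG P R P
    (stronglyClosed_group_iff.mp hR) (sc_self _) (lt_of_le_of_ne hR.1 hRP)
  have hW' := stronglyClosed_group_iff.mpr hW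
  set θ := QuotientGroup.mk' (R.subgroupOf (P : Subgroup G)) with hθ
  have hmem : ∀ y ∈ H92.img W (H92.ext1 θ), ∃ w ∈ W, H92.ext1 θ w = y := by
    intro y hy
    obtain ⟨w, hw, rfl⟩ := H94.fac_surj hE (mem_top y)
    exact ⟨w, (H94.fac_mem_img_iff hE hRW.le hWP hw).mp hy, rfl⟩
  have hm := H92.mulOn_ext1 θ
  have hn : E.IsNormal (H92.img W (H92.ext1 θ)) := by
    refine H92.isNormal_of_comm (H94.fac_isPGroup hE P.2)
      (H94.isSaturated_factor P.2 (H94.isSaturated_group P) hR hE)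
      (H92.stronglyClosed_iff.mpr ⟨le_top, fun T g hg y hy hyW => ?_⟩) fun x hx y hy => ?_
    · obtain ⟨f, hf, e⟩ := H94.fac_lift hE hg
      obtain ⟨w, hw, rfl⟩ := hmem y hyW
      have hw' := H94.mem_preimageAlong.mpr ⟨hWP hw, hy⟩
      rw [e w hw']
      exact H92.mem_img_of_mem _ (hf.mem_of_stronglyClosed hW' hw' hw)
    · obtain ⟨a, ha, rfl⟩ := hmem x hx
      obtain ⟨b, hb, rfl⟩ := hmem y hy
      rw [← hm a (hWP ha) b (hWP hb), ← hm b (hWP hb) a (hWP ha),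
        H94.fac_eq_iff hE (mul_mem (hWP ha) (hWP hb)) (mul_mem (hWP hb) (hWP ha))]
      have := hWW (commutator_mem_commutator (inv_mem hb) (inv_mem ha))
      simpa [commutatorElement_def, mul_assoc] using this
  intro h
  obtain ⟨w, hw, hwR⟩ := SetLike.exists_of_lt hRW
  have := (H93.le_core hn).trans h.le (H92.mem_img_of_mem _ hw)
  exact hwR ((H94.fac_eq_one hE (hWP hw)).mp this)

/-- The fusion system of a `Qd(p)`-free group is constrained. -/
theorem ThmB.centric_core (hB : ThmB.{u} p) {G : Type u} [Group G] [Finite G]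
    (hG : ¬ Involves (qd p) G) (P : Sylow p G) :
    (P : Subgroup G) ⊓ Ce (groupFusionSystem (P : Subgroup G)).core ≤
      (groupFusionSystem (P : Subgroup G)).core := by
  set Q := (groupFusionSystem (P : Subgroup G)).core with hQ
  obtain ⟨hQP, hc⟩ := isNormal_group_iff.mp (H93.isNormal_core (groupFusionSystem (P : Subgroup G)))
  rw [← hQ] at hQP hc
  have hD : IsStronglyClosed ((P : Subgroup G) ⊓ Ce Q) P := by
    refine ⟨inf_le_left, fun x hx g hg => ⟨hg, ?_⟩⟩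
    obtain ⟨n, hn, he⟩ := exists_conj_eq_of_ctrl hc hx.1 hg
    rw [he]
    exact H7.conj_mem_of_mem_normalizer (Nm_le_Nm_Ce Q hn) hx.2
  have hR : IsStronglyClosed ((P : Subgroup G) ⊓ Ce Q ⊓ Q) P :=
    ⟨inf_le_left.trans inf_le_left, fun x hx g hg =>
      ⟨hD.2 x hx.1 g hg, (sc_of_ctrl hQP hc).2 x hx.2 g hg⟩⟩
  by_contra hne
  obtain ⟨W, hW, hRW, hWD, hWW⟩ := hB.exists_sc_between _ G rfl hG P _ _ hR hD
    (lt_of_le_of_ne inf_le_left fun h => hne (h ▸ inf_le_right))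
  have hn : (groupFusionSystem (P : Subgroup G)).IsNormal W := by
    refine H92.isNormal_of_chain P.2 (H94.isSaturated_group P)
      (fun i => match i with
        | 0 => ⊥
        | 1 => (P : Subgroup G) ⊓ Ce Q ⊓ Q
        | _ => W) 2 rfl rfl (fun i hi => ?_) fun i hi q hq x hx => ?_
    · interval_cases i
      · exact stronglyClosed_group_iff.mpr hR
      · exact stronglyClosed_group_iff.mpr hW
    · interval_cases i
      · change _ ∈ (⊥ : Subgroup G)
        rw [conj_eq_of_mem_Ce (hWD hq).2 hx.2, inv_mul_cancel]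
        exact one_mem _
      · have := hWW (commutator_mem_commutator (inv_mem hx) hq)
        change _ ∈ (P : Subgroup G) ⊓ Ce Q ⊓ Q
        simpa [commutatorElement_def, mul_assoc] using this
  exact hRW.not_ge (le_inf hWD (H93.le_core hn))

/-- `Z(J(S))` controls fusion when the normalizers of the subgroups containing `Z(S)` are
`Qd(p)`-free. -/
theorem ThmB.ctrl_of_local (hB : ThmB.{u} p) {G : Type u} [Group G] [Finite G] (S : Sylow p G)
    (h : ∀ U : Subgroup G, (S : Subgroup G) ⊓ Ce S ≤ U → U ≤ S → ¬ Involves (qd p) (Nm U)) :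
    Ctrl (Nm (zj 0 (S : Subgroup G))) S ⊤ := by
  have hW : IsConjugacyFunctor p (zj 0 : Subgroup G → Subgroup G) := fun P hP =>
    ⟨zj_le 0 P, zj_ne_bot (dvd_zero p) hP, fun g => zj_conj_smul 0 g P⟩
  have := ctrl_l2g hW (H7.isSylowIn_top S) ((S : Subgroup G) ⊓ Ce S) le_rfl
    (fun R hR hZ x hx => mem_zj_of_mem_centralizer (hZ hx) (pow_zero x) (Ce_anti hR hx.2))
    fun U _ hZU hU => by
      have h1 := hU.syl
      rw [top_inf_eq] at h1 ⊢
      refine ctrl_of_subgroupOf inf_le_right ?_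
      have h2 := hB (Nm U) h1.toSylow _ (sc_self _) (h U hZU hU.le)
      rw [H7.IsSylowIn.coe_toSylow, zj_subgroupOf 0 inf_le_right] at h2
      rwa [subgroupOf_normalizer_eq ((zj_le 0 _).trans inf_le_right)]
  rwa [top_inf_eq] at this

variable {G : Type*} [Group G]

theorem le_of_cr [Finite G] {P Q R : Subgroup G} (hP : IsPGroup p P) (hQP : Q ≤ P)
    (hc : Ctrl (Nm Q) P ⊤) (hRP : R ≤ P) (hZ : H7.IsSylowIn p (R ⊓ Ce R) (Ce R))
    (hX : ∀ X : Subgroup G, X ≤ Nm R → (∀ n ∈ Nm R, cj n X = X) → R ⊔ Ce R ≤ X →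
      (∃ k : ℕ, (R ⊔ Ce R).relIndex X = p ^ k) → X = R ⊔ Ce R) : Q ≤ R := by
  have hY : Nm R ≤ Nm (R ⊔ Ce R) := fun g hg => Nm_sup_le _ _ ⟨hg, Nm_le_Nm_Ce R hg⟩
  have hYN : R ⊔ Ce R ≤ Nm R := sup_le le_normalizer (Ce_le_Nm R)
  have h1 := hX ((R ⊔ Ce R) ⊔ Q ⊓ Nm R) (sup_le hYN inf_le_right) (fun n hn => by
    obtain ⟨x, hx, hxn⟩ := agree_iff.mp (hc R hRP n (mem_top n) (by rw [cj_eq_iff.mpr hn]; exact hRP))
    have hxR : x ∈ Nm R := by
      have := mul_mem hn (inv_mem (Ce_le_Nm R hxn))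
      simpa using this
    have e : n = x * (x⁻¹ * n) := by group
    rw [e, ← cj_cj, cj_of_mem (mem_sup_left (mem_sup_right hxn)), cj_eq_iff]
    exact Nm_sup_le _ _ ⟨hY hxR, Nm_inf_le _ _ ⟨hx, le_normalizer hxR⟩⟩) le_sup_left (by
      obtain ⟨k, hk⟩ := IsPGroup.iff_card.mp (hP.to_le (inf_le_left.trans hQP : Q ⊓ Nm R ≤ P))
      have h2 : (R ⊔ Ce R).relIndex ((R ⊔ Ce R) ⊔ Q ⊓ Nm R) ∣ p ^ k := by
        have hn : ((R ⊔ Ce R).subgroupOf (Nm R)).Normal := normal_subgroupOf_of_le_normalizer hY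
        rw [← relIndex_subgroupOf (sup_le hYN inf_le_right), subgroupOf_sup hYN inf_le_right,
          relIndex_sup_left, relIndex_subgroupOf inf_le_right, ← hk]
        exact relIndex_dvd_card _ _
      obtain ⟨j, -, hj⟩ := (Nat.dvd_prime_pow hp.out).mp h2
      exact ⟨j, hj⟩)
  have h3 : P ⊓ Ce R = R ⊓ Ce R :=
    hZ.eq_of_le hP.to_inf_left (inf_le_inf_right _ hRP) inf_le_right
  refine H92.le_of_normalizerIn_le hP hRP hQP
    (fun y hy q hq => H7.conj_mem_of_mem_normalizer (le_Nm_of_ctrl hQP hc (hRP hy)) hq)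
    fun a ha => ?_
  obtain ⟨r, hr, c, hc', rfl⟩ := (H7.mem_sup_iff_of_le_normalizer (Ce_le_Nm R)).mp
    (h1.le (mem_sup_right ha))
  have : c ∈ P ⊓ Ce R := ⟨(mul_mem_cancel_left (hRP hr)).mp (hQP ha.1), hc'⟩
  exact mul_mem hr (h3.le this).1

theorem eq_of_core [Finite G] (P : Sylow p G) {Q : Subgroup G} (hQP : Q ≤ P)
    (hc : Ctrl (Nm Q) P ⊤) (hcen : (P : Subgroup G) ⊓ Ce Q ≤ Q)
    (hmax : ∀ T : Subgroup G, T ≤ P → Ctrl (Nm T) P ⊤ → T ≤ Q) (X : Subgroup G) (hX : X ≤ Nm Q)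
    (hn : ∀ n ∈ Nm Q, cj n X = X) (hQX : Q ⊔ Ce Q ≤ X)
    (hk : ∃ k : ℕ, (Q ⊔ Ce Q).relIndex X = p ^ k) : X = Q ⊔ Ce Q := by
  set N := Nm Q with hN
  have hPN : (P : Subgroup G) ≤ N := le_Nm_of_ctrl hQP hc
  have hP1 : H7.IsSylowIn p (P : Subgroup G) N := H7.isSylowIn_of_sylow_le P hPN
  have hNX : N ≤ Nm X := fun n h => cj_eq_iff.mp (hn n h)
  have hT : H7.IsSylowIn p ((P : Subgroup G) ⊓ X) X := by
    have := hP1.inf_of_le_normalizer hNX
    rwa [inf_of_le_right hX] at this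
  have hC : H7.IsSylowIn p ((P : Subgroup G) ⊓ Ce Q) (Ce Q) := by
    have := hP1.inf_of_le_normalizer (Nm_le_Nm_Ce Q)
    rwa [inf_of_le_right (Ce_le_Nm Q)] at this
  have hnpc := hasNPC_of_central_sylow hC (Ce_anti hcen)
  have hXe : Q ⊔ Ce Q ⊔ (P : Subgroup G) ⊓ X = X := by
    have h1 := H7.sup_eq_top_of_index (G := X) (N := (Q ⊔ Ce Q).subgroupOf X)
      (H := ((P : Subgroup G) ⊓ X).subgroupOf X) hk hT.not_dvd
    rw [← subgroupOf_sup hQX inf_le_right, subgroupOf_eq_top] at h1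
    exact le_antisymm (sup_le hQX inf_le_right) h1
  suffices h : (P : Subgroup G) ⊓ X ≤ Q by
    rw [← hXe]; exact sup_of_le_left (h.trans le_sup_left)
  refine hmax _ inf_le_left (hc.trans le_rfl le_rfl ?_)
  refine (ctrl_of_subgroupOf hPN ?_).mono inf_le_right le_rfl
  rw [subgroupOf_normalizer_eq (inf_le_left.trans hPN)]
  set π := QuotientGroup.mk' (pPrimeCore p N) with hπ
  have hs : Function.Surjective π := QuotientGroup.mk'_surjective _
  have hXn : (X.subgroupOf N).Normal := normal_subgroupOf_of_le_normalizer hNX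
  have hCn : ((Ce Q).subgroupOf N).Normal := normal_subgroupOf_of_le_normalizer (Nm_le_Nm_Ce Q)
  have hTs := (hT.subgroupOf hX).map π
  have hCp := isPGroup_map_of_hasNPC (H7.hasNPC_subgroupOf hnpc N)
  have hCn' : (((Ce Q).subgroupOf N).map π).Normal := Normal.map hCn _ hs
  have hXp : IsPGroup p ((X.subgroupOf N).map π) := by
    have e : X = (P : Subgroup G) ⊓ X ⊔ Ce Q :=
      le_antisymm (hXe.ge.trans (sup_le (sup_le (le_sup_of_le_left
        (le_inf hQP (le_sup_left.trans hQX))) le_sup_right) le_sup_left))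
        (sup_le inf_le_right (le_sup_right.trans hQX))
    rw [e, subgroupOf_sup (inf_le_left.trans hPN) (Ce_le_Nm Q), Subgroup.map_sup]
    exact hTs.isPGroup.to_sup_of_normal_right hCp
  have hTX := hTs.eq_of_le hXp hTs.le le_rfl
  refine ctrl_lift π hs (by rw [hπ, QuotientGroup.ker_mk']; exact H2.coprime_card_pPrimeCore p N)
    (H7.isSylowIn_top (P.subtype hPN)) (subgroupOf_mono N inf_le_left) ?_ (ctrl_of_le ?_)
  · rw [Nm, ← subgroupOf_normalizer_eq (inf_le_left.trans hPN)]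
    exact subgroupOf_mono N fun g hg => Nm_inf_le _ _ ⟨le_normalizer hg, hNX (hPN hg)⟩
  · have := Normal.map hXn _ hs
    rw [← hTX]
    exact le_normalizer_of_normal

/-- S1953, given Theorem B. -/
theorem ThmB.s1953 (hB : ThmB.{u} p) {G : Type u} [Group G] [Finite G] (P : Sylow p G)
    (hfree : ∀ Q : Subgroup G, IsPGroup p ↥Q → ¬ ∃ (H K : Subgroup G) (_ : (K.subgroupOf H).Normal),
      Subgroup.centralizer (Q : Set G) ≤ K ∧ K ≤ H ∧ H ≤ Subgroup.normalizer (Q : Set G) ∧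
      Nonempty ((↥H ⧸ K.subgroupOf H) ≃* Matrix.SpecialLinearGroup (Fin 2) (ZMod p)))
    (cr : Subgroup G → Prop)
    (hcr : ∀ Q : Subgroup G, cr Q ↔ (Q ≤ (P : Subgroup G) ∧
      (∃ R : Sylow p ↥(Subgroup.centralizer (Q : Set G)),
        (R : Subgroup ↥(Subgroup.centralizer (Q : Set G))).map (Subgroup.centralizer (Q : Set G)).subtype = Q ⊓ Subgroup.centralizer (Q : Set G)) ∧
      ∀ X : Subgroup G, X ≤ Subgroup.normalizer (Q : Set G) →
        (∀ n ∈ Subgroup.normalizer (Q : Set G), X.map (MulAut.conj n).toMonoidHom = X) →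
        Q ⊔ Subgroup.centralizer (Q : Set G) ≤ X → (∃ k : ℕ, (Q ⊔ Subgroup.centralizer (Q : Set G)).relIndex X = p ^ k) →
        X = Q ⊔ Subgroup.centralizer (Q : Set G))) :
    ∃ Q : Subgroup G, cr Q ∧ (∀ R : Subgroup G, cr R → Q ≤ R) ∧ (∀ x ∈ (P : Subgroup G), Q.map (MulAut.conj x).toMonoidHom = Q) ∧
      ∀ A : Subgroup G, A ≤ (P : Subgroup G) → ∀ g : G, A.map (MulAut.conj g).toMonoidHom ≤ (P : Subgroup G) →
        ∃ h ∈ Subgroup.normalizer (Q : Set G), ∃ c ∈ Subgroup.centralizer (A : Set G), g = h * c := by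
  have hG : ¬ Involves (qd p) G := fun h =>
    let ⟨Q, hQ, h⟩ := exists_automizer_sl_of_involves_qd h
    hfree Q hQ h
  have hcen := hB.centric_core hG P
  obtain ⟨hQP, hc⟩ := isNormal_group_iff.mp (H93.isNormal_core (groupFusionSystem (P : Subgroup G)))
  set Q := (groupFusionSystem (P : Subgroup G)).core with hQ
  have hPN : (P : Subgroup G) ≤ Nm Q := le_Nm_of_ctrl hQP hc
  refine ⟨Q, (hcr Q).mpr ⟨hQP, ?_, eq_of_core P hQP hc hcen fun T hT h =>
    H93.le_core (isNormal_group_iff.mpr ⟨hT, h⟩)⟩, fun R hR => ?_,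
    fun x hx => cj_eq_iff.mpr (hPN hx), fun A hA g hg => ?_⟩
  · have hC := (H7.isSylowIn_of_sylow_le P hPN).inf_of_le_normalizer (Nm_le_Nm_Ce Q)
    rw [inf_of_le_right (Ce_le_Nm Q)] at hC
    refine ⟨hC.toSylow, ?_⟩
    rw [H7.IsSylowIn.coe_toSylow, subgroupOf_map_subtype, inf_assoc, inf_idem]
    exact le_antisymm (le_inf hcen inf_le_right) (inf_le_inf_right _ hQP)
  · obtain ⟨hRP, ⟨Z, hZ⟩, hX⟩ := (hcr R).mp hR
    exact le_of_cr P.2 hQP hc hRP (hZ ▸ H7.isSylowIn_map_subtype Z) hX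
  · obtain ⟨x, hx, h⟩ := agree_iff.mp (hc A hA g (mem_top g) hg)
    exact ⟨x, hx, _, h, by group⟩

/-- S3071, given Theorem B. -/
theorem ThmB.s3071 (hB : ThmB.{u} p) {G : Type u} [Group G] [Finite G] (S : Sylow p G)
    (hfree : ∀ P : Subgroup G, (S : Subgroup G) ⊓ Subgroup.centralizer ((S : Subgroup G) : Set G) ≤ P → P ≤ S →
      ¬ ∃ (H K : Subgroup G) (_ : (K.subgroupOf H).Normal), H ≤ Subgroup.normalizer (P : Set G) ∧
        Nonempty ((H ⧸ K.subgroupOf H) ≃* Matrix.SpecialLinearGroup (Fin 2) (ZMod p))) :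
    ∀ x ∈ S, ∀ y ∈ S, (∃ g : G, g * x * g⁻¹ = y) ↔
      ∃ n ∈ Subgroup.normalizer (Cfsg.centerThompsonAOf (S : Subgroup G) : Set G), n * x * n⁻¹ = y := by
  have hc := hB.ctrl_of_local S fun U h1 h2 =>
    not_involves_qd_of_not_involves_sl fun h => hfree U h1 h2 (section_of_involves h)
  intro x hx y hy
  rw [centerThompsonAOf_eq]
  constructor
  · rintro ⟨g, rfl⟩
    obtain ⟨n, hn, he⟩ := exists_conj_eq_of_ctrl hc hx hy
    exact ⟨n, hn, he.symm⟩
  · rintro ⟨n, -, h⟩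
    exact ⟨n, h⟩

end H11
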