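import Cfsg.Agent.H11.QdSylow
import Cfsg.Agent.H7.SylowIn

/-! Localization of sections `Qd(p)`: natural modules in `p`-subgroups, centric subgroups. -/

set_option autoImplicit false

namespace H11

open Matrix MatrixGroups Cfsg Subgroup
open scoped commutatorElement Pointwise

variable {p : ℕ} [hp : Fact p.Prime] {G : Type*} [Group G]

/-- `y` normalizes `Q` and acts on the image of `φ` as the matrix `m`. -/
def ActsAs {Q : Subgroup G} (φ : Q →* Multiplicative (Fin 2 → ZMod p)) (y : G)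
    (m : SL(2, ZMod p)) : Prop :=
  ∀ q : Q, ∃ q' : Q, (q' : G) = y * q * y⁻¹ ∧
    φ q' = .ofAdd ((m : Matrix (Fin 2) (Fin 2) (ZMod p)) *ᵥ (φ q).toAdd)

theorem ActsAs.mem_normalizer [Finite G] {Q : Subgroup G}
    {φ : Q →* Multiplicative (Fin 2 → ZMod p)} {y : G} {m : SL(2, ZMod p)} (h : ActsAs φ y m) :
    y ∈ normalizer (Q : Set G) :=
  H7.mem_normalizer_of_forall fun x hx => by
    obtain ⟨q', h1, -⟩ := h ⟨x, hx⟩
    exact h1 ▸ q'.2

theorem ActsAs.mem_normalizer_ker [Finite G] {Q : Subgroup G}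
    {φ : Q →* Multiplicative (Fin 2 → ZMod p)} {y : G} {m : SL(2, ZMod p)} (h : ActsAs φ y m) :
    y ∈ normalizer ((φ.ker.map Q.subtype : Subgroup G) : Set G) :=
  H7.mem_normalizer_of_forall (by
    rintro _ ⟨q, hq, rfl⟩
    obtain ⟨q', h1, h2⟩ := h q
    refine ⟨q', ?_, h1⟩
    rw [SetLike.mem_coe, MonoidHom.mem_ker] at hq ⊢
    rw [h2, hq]; simp)

theorem ActsAs.cent_mul {Q : Subgroup G} {φ : Q →* Multiplicative (Fin 2 → ZMod p)} {y c : G}
    {m : SL(2, ZMod p)} (h : ActsAs φ y m) (hc : c ∈ centralizer (Q : Set G)) :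
    ActsAs φ (c * y) m := fun q => by
  obtain ⟨q', h1, h2⟩ := h q
  refine ⟨q', ?_, h2⟩
  have := hc q' q'.2
  calc (q' : G) = c * q' * c⁻¹ := by rw [← this]; group
    _ = _ := by rw [h1]; group

theorem ActsAs.mul {Q : Subgroup G} {φ : Q →* Multiplicative (Fin 2 → ZMod p)} {y z : G}
    {m n : SL(2, ZMod p)} (h : ActsAs φ y m) (k : ActsAs φ z n) : ActsAs φ (y * z) (m * n) :=
  fun q => by
    obtain ⟨q', h1, h2⟩ := k q
    obtain ⟨q'', h3, h4⟩ := h q'
    refine ⟨q'', by rw [h3, h1]; group, ?_⟩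
    rw [h4, h2, toAdd_ofAdd, Matrix.mulVec_mulVec]; rfl

theorem actsAs_one {Q : Subgroup G} (φ : Q →* Multiplicative (Fin 2 → ZMod p)) : ActsAs φ 1 1 :=
  fun q => ⟨q, by group, by simp⟩

theorem ActsAs.unique {Q : Subgroup G} {φ : Q →* Multiplicative (Fin 2 → ZMod p)}
    (hφ : Function.Surjective φ) {y : G} {m n : SL(2, ZMod p)} (h : ActsAs φ y m)
    (k : ActsAs φ y n) : m = n := by
  apply sl_mulVec_faithful
  intro v
  obtain ⟨q, hq⟩ := hφ (.ofAdd v)
  obtain ⟨q', h1, h2⟩ := h q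
  obtain ⟨q'', h3, h4⟩ := k q
  have : q' = q'' := Subtype.ext (h1.trans h3.symm)
  rw [this, h4, hq] at h2
  exact (Multiplicative.ofAdd.injective h2).symm

/-- The elements acting as some matrix form a subgroup mapping to `SL(2,p)`. -/
theorem exists_actsAs_hom [Finite G] {Q : Subgroup G} {φ : Q →* Multiplicative (Fin 2 → ZMod p)}
    (hφ : Function.Surjective φ) : ∃ (L : Subgroup G) (ψ : L →* SL(2, ZMod p)),
      (∀ y, y ∈ L ↔ ∃ m, ActsAs φ y m) ∧ ∀ l : L, ActsAs φ l (ψ l) := by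
  let L0 : Submonoid G :=
    { carrier := {y | ∃ m, ActsAs φ y m}
      mul_mem' := fun ⟨_, h⟩ ⟨_, k⟩ => ⟨_, h.mul k⟩
      one_mem' := ⟨1, actsAs_one φ⟩ }
  let L : Subgroup G :=
    { L0 with
      inv_mem' := fun {x} hx => by
        have : x⁻¹ = x ^ (orderOf x - 1) := by
          rw [inv_eq_iff_mul_eq_one, ← pow_succ', Nat.sub_add_cancel (orderOf_pos x),
            pow_orderOf_eq_one]
        rw [this]
        exact L0.pow_mem hx _ }
  choose f hf using fun l : L => l.2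
  exact ⟨L, MonoidHom.mk' f fun a b => (hf (a * b)).unique hφ ((hf a).mul (hf b)),
    fun _ => Iff.rfl, hf⟩

/-- A natural `SL(2,p)`-module in a section of `Y` gives a section `Qd(p)`. -/
theorem involves_qd_of_actsAs (hp2 : p ≠ 2) [Finite G] {Q Y : Subgroup G} (hQY : Q ≤ Y)
    {φ : Q →* Multiplicative (Fin 2 → ZMod p)} (hφ : Function.Surjective φ)
    (h : ∀ m, ∃ y ∈ Y, ActsAs φ y m) : Involves (qd p) Y := by
  set R := φ.ker.map Q.subtype with hR
  set Z := Y ⊓ normalizer (R : Set G) with hZ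
  have hQZ : Q ≤ Z := le_inf hQY (by
    have := le_normalizer_map (H := φ.ker) Q.subtype
    rwa [normalizer_eq_top, ← MonoidHom.range_eq_map, range_subtype] at this)
  have hn : (R.subgroupOf Z).Normal := normal_subgroupOf_of_le_normalizer inf_le_right
  let j : Q →* Z ⧸ R.subgroupOf Z := (QuotientGroup.mk' _).comp (inclusion hQZ)
  have hj : j.ker = φ.ker := by
    ext q
    change ((inclusion hQZ q : Z) : Z ⧸ R.subgroupOf Z) = 1 ↔ _
    rw [QuotientGroup.eq_one_iff, mem_subgroupOf]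
    exact mem_map_iff_mem Q.subtype_injective
  let ι := φ.liftOfSurjective hφ ⟨j, hj.ge⟩
  have hι : ∀ q, ι (φ q) = j q := fun q => φ.liftOfRightInverse_comp_apply _ _ _ q
  refine H94.involves_trans (involves_qd_of_nat hp2 ι ?_ fun m => ?_)
    (H94.involves_trans (H94.involves_quotient _) (H94.involves_of_le inf_le_left))
  · rw [injective_iff_map_eq_one]
    intro v hv
    obtain ⟨q, rfl⟩ := hφ v
    rw [hι, ← MonoidHom.mem_ker, hj] at hv
    exact hv
  · obtain ⟨y, hy, hm⟩ := h m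
    refine ⟨((⟨y, hy, hm.mem_normalizer_ker⟩ : Z) : Z ⧸ R.subgroupOf Z), fun v => ?_⟩
    obtain ⟨q, hq⟩ := hφ (.ofAdd v)
    obtain ⟨q', h1, h2⟩ := hm q
    rw [hq, toAdd_ofAdd] at h2
    rw [← h2, ← hq, hι, hι]
    change ((_ * inclusion hQZ q * _⁻¹ : Z) : Z ⧸ R.subgroupOf Z) = (inclusion hQZ q' : Z)
    congr 1
    exact Subtype.ext h1.symm

/-- A section `Qd(p)` gives a natural `SL(2,p)`-module in a quotient of a `p`-subgroup. -/
theorem exists_actsAs_of_involves [Finite G] (h : Involves (qd p) G) :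
    ∃ (Q : Subgroup G) (φ : Q →* Multiplicative (Fin 2 → ZMod p)), IsPGroup p Q ∧
      Function.Surjective φ ∧ ∀ m, ∃ y, ActsAs φ y m := by
  obtain ⟨K, f, hf⟩ := H94.involves_iff.mp h
  let f' : K →* qdOver (ZMod p) := f
  have hf' : Function.Surjective f' := hf
  let M : Subgroup K := (qLin.comp f').ker
  obtain ⟨T, hT⟩ := H7.exists_isSylowIn (p := p) M
  have hM : M.map f' = qLin.ker := by
    change (qLin.ker.comap f').map f' = _
    exact map_comap_eq_self_of_surjective hf' _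
  have hTV : T.map f' = qLin.ker := by
    have := hT.map f'
    rw [hM] at this
    exact (this.eq_of_le (isPGroup_ker_qLin p) this.le le_rfl).symm
  let e : Multiplicative (Fin 2 → ZMod p) ≃* (qLin (F := ZMod p)).ker :=
    (MonoidHom.ofInjective qTr_injective).trans (MulEquiv.subgroupCongr ker_qLin.symm)
  let e' := T.equivMapOfInjective _ K.subtype_injective
  let φ0 : T →* (qLin (F := ZMod p)).ker :=
    (f'.comp T.subtype).codRestrict _ fun t => hTV ▸ mem_map_of_mem _ t.2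
  let φ : T.map K.subtype →* Multiplicative (Fin 2 → ZMod p) :=
    e.symm.toMonoidHom.comp (φ0.comp e'.symm.toMonoidHom)
  have hφ : ∀ t : T, qa 1 (φ (e' t)).toAdd = f' t := fun t => by
    change ((e (e.symm (φ0 (e'.symm (e' t)))) : (qLin (F := ZMod p)).ker) : qdOver (ZMod p)) = _
    rw [e.apply_symm_apply, e'.symm_apply_apply]; rfl
  refine ⟨T.map K.subtype, φ, hT.isPGroup.map _, ?_, fun m => ?_⟩
  · intro v
    obtain ⟨t, ht, htv⟩ : qa 1 v.toAdd ∈ T.map f' := hTV ▸ mem_ker_qLin.mpr ⟨_, rfl⟩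
    exact ⟨e' ⟨t, ht⟩, (qa_inj.mp ((hφ ⟨t, ht⟩).trans htv)).2⟩
  · obtain ⟨k, hk⟩ := hf' (qa m 0)
    obtain ⟨n, hn, y, hy, rfl⟩ := hT.frattini (g := k) (by rw [normalizer_eq_top]; trivial)
    obtain ⟨A, w, hA⟩ := exists_qa (f' y)
    have hAm : A = m := by
      have h1 := congrArg qLin hk
      have hn' : qLin (f' n) = 1 := hn
      rwa [map_mul, map_mul, hn', one_mul, hA, qLin_qa, qLin_qa] at h1
    refine ⟨y, fun q => ?_⟩
    obtain ⟨t, rfl⟩ := e'.surjective q
    refine ⟨e' ⟨y * t * y⁻¹, H7.conj_mem_of_mem_normalizer hy t.2⟩, rfl, ?_⟩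
    have h1 := hφ ⟨y * t * y⁻¹, H7.conj_mem_of_mem_normalizer hy t.2⟩
    rw [map_mul, map_mul, map_inv, ← hφ t, hA, qa_conj, hAm] at h1
    exact (qa_inj.mp h1).2

/-- If `Qd(p)` is involved in `G` then it is involved in the normalizer of a `p`-centric
subgroup. -/
theorem exists_centric_of_involves_qd (hp2 : p ≠ 2) [Finite G] (h : Involves (qd p) G) :
    ∃ T : Subgroup G, IsPGroup p T ∧
      (∀ X : Subgroup G, IsPGroup p X → X ≤ centralizer (T : Set G) → X ≤ T) ∧
      Involves (qd p) (normalizer (T : Set G)) := by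
  obtain ⟨Q, φ, hQ, hφ, hm⟩ := exists_actsAs_of_involves h
  obtain ⟨T, hT, hQT⟩ := H7.exists_isSylowIn_ge hQ
    (le_sup_left : Q ≤ Q ⊔ centralizer (Q : Set G))
  refine ⟨T, hT.isPGroup, fun X hX hXT => ?_,
    involves_qd_of_actsAs hp2 (hQT.trans le_normalizer) hφ fun m => ?_⟩
  · exact hT.le_of_normalizes hX ((hXT.trans (centralizer_le hQT)).trans le_sup_right)
      (hXT.trans (centralizer_le_normalizer _))
  · obtain ⟨y, hy⟩ := hm m
    have hyQ := hy.mem_normalizer
    have hyN : y ∈ normalizer ((Q ⊔ centralizer (Q : Set G) : Subgroup G) : Set G) := by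
      have h2 := H7.normalizer_le_normalizer_centralizer Q hyQ
      rw [← H7.conj_smul_eq_iff_mem_normalizer] at hyQ h2 ⊢
      rw [smul_sup, hyQ, h2]
    obtain ⟨n, hn, z, hz, hyz⟩ := hT.frattini hyN
    obtain ⟨q, hq, c, hc, hqc⟩ :=
      (H7.mem_sup_iff_of_le_normalizer (centralizer_le_normalizer _)).mp (inv_mem hn)
    refine ⟨c * y, ?_, hy.cent_mul hc⟩
    have : c * y = q⁻¹ * z := by
      rw [hyz, eq_inv_mul_iff_mul_eq, ← mul_assoc, ← hqc]; group
    rw [this]
    exact mul_mem (inv_mem (le_normalizer (hQT hq))) hz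

/-- If `Qd(p)` is involved in `G` then `SL(2,p)` is involved in some `N(Q)/C(Q)`. -/
theorem exists_automizer_sl_of_involves_qd [Finite G] (h : Involves (qd p) G) :
    ∃ Q : Subgroup G, IsPGroup p Q ∧ ∃ (H K : Subgroup G) (_ : (K.subgroupOf H).Normal),
      centralizer (Q : Set G) ≤ K ∧ K ≤ H ∧ H ≤ normalizer (Q : Set G) ∧
      Nonempty ((H ⧸ K.subgroupOf H) ≃* SL(2, ZMod p)) := by
  obtain ⟨Q, φ, hQ, hφ, hm⟩ := exists_actsAs_of_involves h
  obtain ⟨L, ψ, hL, hψ⟩ := exists_actsAs_hom hφ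
  have hs : Function.Surjective ψ := fun m => by
    obtain ⟨y, hy⟩ := hm m
    exact ⟨⟨y, (hL y).mpr ⟨m, hy⟩⟩, (hψ _).unique hφ hy⟩
  have e : (ψ.ker.map L.subtype).subgroupOf L = ψ.ker :=
    comap_map_eq_self_of_injective (subtype_injective _) _
  have hn : ((ψ.ker.map L.subtype).subgroupOf L).Normal := by rw [e]; infer_instance
  refine ⟨Q, hQ, L, ψ.ker.map L.subtype, hn, fun c hc => ?_, map_subtype_le _, fun y hy => ?_,
    ⟨(QuotientGroup.quotientMulEquivOfEq e).trans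
      (QuotientGroup.quotientKerEquivOfSurjective ψ hs)⟩⟩
  · have h1 : ActsAs φ c 1 := by simpa using (actsAs_one φ).cent_mul hc
    exact ⟨⟨c, (hL c).mpr ⟨1, h1⟩⟩, (hψ _).unique hφ h1, rfl⟩
  · obtain ⟨m, hm⟩ := (hL y).mp hy
    exact hm.mem_normalizer

theorem eq_bot_of_normal_coprime_qd {F : Type*} [Field F] [Finite F] [CharP F p]
    (N : Subgroup (qdOver F)) [N.Normal] (h : (Nat.card N).Coprime p) : N = ⊥ := by
  obtain ⟨n, hn⟩ := IsPGroup.iff_card.mp (isPGroup_ker_qLin (F := F) p)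
  have hd : N ⊓ qLin.ker = ⊥ :=
    disjoint_iff.mp (disjoint_of_coprime_natCard (hn ▸ h.pow_right n))
  have h1 : N ≤ centralizer ((qLin (F := F)).ker : Set (qdOver F)) := by
    rw [← commutator_eq_bot_iff_le_centralizer, eq_bot_iff, ← hd]
    exact commutator_le_inf _ _
  rw [centralizer_ker_qLin] at h1
  rwa [inf_of_le_left h1] at hd

/-- Sections `Qd(p)` survive in quotients by `p'`-groups. -/
theorem involves_qd_of_coprime_ker [Finite G] {L : Type*} [Group L] (f : G →* L)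
    (hk : (Nat.card f.ker).Coprime p) (h : Involves (qd p) G) : Involves (qd p) L := by
  obtain ⟨K, g, hg⟩ := H94.involves_iff.mp h
  let g' : K →* qdOver (ZMod p) := g
  have hg' : Function.Surjective g' := hg
  have hn : ((f.subgroupMap K).ker.map g').Normal := Normal.map inferInstance _ hg'
  have h1 : (f.subgroupMap K).ker ≤ g'.ker := by
    rw [← Subgroup.map_eq_bot_iff]
    refine eq_bot_of_normal_coprime_qd (p := p) _
      (Nat.Coprime.coprime_dvd_left ((card_map_dvd _ _).trans ?_) hk)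
    rw [ker_subgroupMap]
    exact card_comap_dvd_of_injective _ _ K.subtype_injective
  refine H94.involves_iff.mpr ⟨K.map f, (f.subgroupMap K).liftOfSurjective
    (f.subgroupMap_surjective K) ⟨g', h1⟩, fun x => ?_⟩
  obtain ⟨k, rfl⟩ := hg' x
  exact ⟨f.subgroupMap K k, (f.subgroupMap K).liftOfRightInverse_comp_apply _ _ _ k⟩

end H11
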