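/- SPECTRA (S3535), section SP-R: Frattini arguments and self-centralizing subgroups. -/
import Cfsg.Agent.H40.SPSpec
import Cfsg.Agent.H5.FrobCompl
import Cfsg.Agent.H5.FrobAction
import Cfsg.Agent.H3.DihQuat
import Cfsg.Agent.H31.ConjCount

set_option autoImplicit false
set_option linter.unusedSectionVars false

namespace H11.SP

open Subgroup H40.SP

universe u

section
variable {G : Type*} [Group G] [Finite G] {r s : ℕ}

theorem mem_om (h : r.Coprime s) {x y : G} (hx : r ∣ orderOf x) (hy : s ∣ orderOf y)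
    (c : Commute x y) : r * s ∈ om G := by
  have e1 := orderOf_pow_orderOf_div (orderOf_pos x).ne' hx
  have e2 := orderOf_pow_orderOf_div (orderOf_pos y).ne' hy
  exact ⟨_, by rw [(c.pow_pow _ _).orderOf_mul_eq_mul_orderOf_of_coprime (by rwa [e1, e2]), e1, e2]⟩

theorem dvd_ord (hr : r.Prime) {R : Subgroup G} (hR : IsPGroup r R) {x : G} (hx : x ∈ R)
    (h1 : x ≠ 1) : r ∣ orderOf x := by
  have := Fact.mk hr
  obtain ⟨k, hk⟩ := IsPGroup.iff_orderOf.1 hR ⟨x, hx⟩
  rw [orderOf_mk] at hk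
  rw [hk]
  exact dvd_pow_self r fun e => h1 (orderOf_eq_one_iff.1 (by rw [hk, e, pow_zero]))

theorem fpf1 (hr : r.Prime) (h : r.Coprime s) (n : r * s ∉ om G) {R : Subgroup G}
    (hR : IsPGroup r R) {y : G} (hy : s ∣ orderOf y) : R ⊓ centralizer {y} = ⊥ :=
  eq_bot_iff.2 fun _ hx => mem_bot.2 (by_contra fun h1 =>
    n (mem_om h (dvd_ord hr hR hx.1 h1) hy (mem_centralizer_singleton_iff.1 hx.2)))

theorem fpf (hr : r.Prime) (hs : s.Prime) (h : r ≠ s) (n : r * s ∉ om G) {R T : Subgroup G}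
    (hR : IsPGroup r R) (hT : IsPGroup s T) : ∀ y ∈ T, y ≠ 1 → R ⊓ centralizer {y} = ⊥ :=
  fun _ hy h1 => fpf1 hr ((Nat.coprime_primes hr hs).2 h) n hR (dvd_ord hs hT hy h1)

theorem inverts {R : Subgroup G} {z : G} (h2 : z * z = 1) (hz : z ∈ normalizer (R : Set G))
    (h : R ⊓ centralizer {z} = ⊥) : ∀ x ∈ R, z * x * z⁻¹ = x⁻¹ := fun x hx => by
  have := MonoidHom.FixedPointFree.coe_eq_inv_of_involutive (φ := R.normalizerMonoidHom ⟨z, hz⟩)
    (fun g e => Subtype.ext (mem_bot.1 (h.le ⟨g.2, mem_centralizer_singleton_iff.2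
      (mul_inv_eq_iff_eq_mul.1 (congrArg Subtype.val e)).symm⟩)))
    fun g => by
      rw [← MulAut.mul_apply, ← map_mul, show (⟨z, hz⟩ * ⟨z, hz⟩ : normalizer (R : Set G)) = 1 from
        Subtype.ext h2, map_one, MulAut.one_apply]
  exact congrArg Subtype.val (congrFun this ⟨x, hx⟩)

/-- Frattini's argument -/
theorem frat (hr : r.Prime) (N : Subgroup G) [N.Normal] : ∃ R : Subgroup G, R ≤ N ∧ IsPGroup r R ∧
    Nat.card R = r ^ (Nat.card N).factorization r ∧
    ∀ g, ∃ n ∈ normalizer (R : Set G), ∃ k ∈ N, g = n * k := by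
  have := Fact.mk hr
  obtain ⟨P⟩ := (inferInstance : Nonempty (Sylow r N))
  refine ⟨(P : Subgroup N).map N.subtype, map_subtype_le _, P.isPGroup'.map _, ?_, fun g => ?_⟩
  · rw [card_map_of_injective N.subtype_injective, P.card_eq_multiplicity]
  · have : g ∈ (normalizer ((P : Subgroup N).map N.subtype : Set G) ⊔ N : Subgroup G) :=
      P.normalizer_sup_eq_top.ge (mem_top g)
    rw [← SetLike.mem_coe, mul_normal] at this
    obtain ⟨n, hn, k, hk, e⟩ := this
    exact ⟨n, hn, k, hk, e.symm⟩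

theorem frat_ker {A : Type*} [Group A] {π : G →* A} (hπ : Function.Surjective π) (hr : r.Prime)
    (h : r ∣ Nat.card π.ker) : ∃ R : Subgroup G, R ≠ ⊥ ∧ IsPGroup r R ∧
      ∀ a, ∃ n ∈ normalizer (R : Set G), π n = a := by
  obtain ⟨R, -, h1, h2, h3⟩ := frat hr π.ker
  refine ⟨R, fun e => ?_, h1, fun a => ?_⟩
  · rw [e, card_bot, eq_comm, Nat.pow_eq_one] at h2
    exact h2.elim hr.one_lt.ne' (hr.factorization_pos_of_dvd Nat.card_pos.ne' h).ne'
  · obtain ⟨g, rfl⟩ := hπ a
    obtain ⟨n, hn, k, hk, rfl⟩ := h3 g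
    exact ⟨n, hn, by rw [map_mul, MonoidHom.mem_ker.1 hk, mul_one]⟩

theorem exists_psub (hs : s.Prime) {N : Subgroup G} {b : ℕ} (h : s ^ b ∣ Nat.card N) :
    ∃ T : Subgroup G, T ≤ N ∧ Nat.card T = s ^ b := by
  have := Fact.mk hs
  obtain ⟨T, hT⟩ := Sylow.exists_subgroup_card_pow_prime s h
  exact ⟨T.map N.subtype, map_subtype_le _, by rw [card_map_of_injective N.subtype_injective, hT]⟩

end

theorem jobR1 : JobR1.{u} := by
  intro G A _ _ _ π hπ r s hr hs h2 hrs h
  refine or_iff_not_imp_left.2 fun n b hb => ?_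
  have := Fact.mk hs
  obtain ⟨R, h0, hR, hN⟩ := frat_ker hπ hr h
  obtain ⟨T, hT, e⟩ := exists_psub hs (hb.trans (card_dvd_of_surjective
    (π.comp (normalizer (R : Set G)).subtype) fun a => by
      obtain ⟨n, hn, e⟩ := hN a
      exact ⟨⟨n, hn⟩, e⟩))
  have p := IsPGroup.of_card e
  have := (H5.isCyclic_or_quaternion_of_fpf h0 hT (fpf hr hs hrs n hR p) p).resolve_right
    fun h => h2 h.1
  obtain ⟨g, hg⟩ := IsCyclic.exists_ofOrder_eq_natCard (α := T)
  exact ⟨g, by rw [orderOf_coe, hg, e]⟩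

theorem jobRA : JobRA.{u} := by
  intro A _ _ S _ r s b e hr hs hrs hb pp n h
  obtain ⟨Q, -, hQ, cQ, hN⟩ := frat hs S
  rw [show (Nat.card S).factorization s = b from le_antisymm (Nat.le_of_lt_succ (not_le.1 fun l =>
    pp.2 ((hs.pow_dvd_iff_le_factorization Nat.card_pos.ne').2 l)))
    ((hs.pow_dvd_iff_le_factorization Nat.card_pos.ne').1 pp.1)] at cQ
  have d : Nat.card (A ⧸ S) ∣ Nat.card (normalizer (Q : Set A)) := card_dvd_of_surjective
    ((QuotientGroup.mk' S).comp (normalizer (Q : Set A)).subtype) fun a => by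
      obtain ⟨g, rfl⟩ := QuotientGroup.mk'_surjective S a
      obtain ⟨n, hn, k, hk, rfl⟩ := hN g
      exact ⟨⟨n, hn⟩, by rw [map_mul, show QuotientGroup.mk' S k = 1 from
        (QuotientGroup.eq_one_iff k).2 hk, mul_one]; rfl⟩
  obtain ⟨U, hU, cU⟩ := exists_psub hr (Nat.ordProj_dvd (Nat.card (normalizer (Q : Set A))) r)
  have := Fact.mk hr
  have m := H5.card_modEq_one_of_fpf_subgroup hU
    (fpf hs hr hrs.symm (mul_comm r s ▸ n) hQ (IsPGroup.of_card cU))
  rw [cQ, cU] at m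
  rw [card_eq_card_quotient_mul_card_subgroup S, mul_comm] at h
  replace h := h.trans (mul_dvd_mul_left _ d)
  rw [← Nat.ordProj_mul_ordCompl_eq_self (Nat.card (normalizer (Q : Set A))) r, ← mul_assoc] at h
  exact (((Nat.coprime_ordCompl hr Nat.card_pos.ne').pow_left e).dvd_of_dvd_mul_right h).trans
    (mul_dvd_mul_left _ ((Nat.modEq_iff_dvd' (Nat.pow_pos hs.pos)).1 m.symm))

/-- quotients of a quaternion group by its central involution -/
theorem quat_quot {P : Type*} [Group P] [Finite P] {m : ℕ} [NeZero m] (h : QuaternionGroup m →* P)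
    (hs : Function.Surjective h) (hz : h (.a m) = 1) :
    IsCyclic P ∨ ∃ n, 2 ≤ n ∧ Nonempty (P ≃* DihedralGroup n) := by
  have gen : ∀ H : Subgroup P, h (.a 1) ∈ H → h (.xa 0) ∈ H → H = ⊤ := fun H h1 h2 =>
    eq_top_iff.2 fun p _ => by
      have k : ∀ i, h (.a i) ∈ H := fun i => by
        have := H.pow_mem h1 i.val
        rwa [← map_pow, QuaternionGroup.a_one_pow, ZMod.natCast_zmod_val] at this
      obtain ⟨i | i, rfl⟩ := hs p
      · exact k i
      · have := H.mul_mem h2 (k i)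
        rwa [← map_mul, QuaternionGroup.xa_mul_a, zero_add] at this
  by_cases e : h (.xa 0) ∈ zpowers (h (.a 1))
  · exact .inl (isCyclic_iff_exists_zpowers_eq_top.2 ⟨_, gen _ (mem_zpowers _) e⟩)
  by_cases e' : h (.a 1) = 1
  · exact .inl (isCyclic_iff_exists_zpowers_eq_top.2 ⟨_, gen _ (e' ▸ one_mem _) (mem_zpowers _)⟩)
  refine .inr ⟨_, ?_, H3.nonempty_mulEquiv_dihedral_of_closure (a := h (.a 1)) rfl
    (by rw [← map_pow, QuaternionGroup.xa_sq, hz]) ?_ e
    (gen _ (subset_closure (by simp)) (subset_closure (by simp)))⟩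
  · have := orderOf_pos (h (.a 1))
    have := mt orderOf_eq_one_iff.1 e'
    omega
  · rw [mul_inv_eq_iff_eq_mul, eq_inv_mul_iff_mul_eq, ← map_mul, ← map_mul,
      QuaternionGroup.xa_mul_a, QuaternionGroup.a_mul_xa]
    simp

theorem jobR0 (hS : JobSyl.{u}) : JobR0.{u} := by
  intro G A _ _ _ π hπ S simp hn r hr h2 h
  by_contra n
  obtain ⟨R, h0, hR, hN⟩ := frat_ker hπ hr h
  have cop : r.Coprime 2 := (Nat.coprime_primes hr Nat.prime_two).2 h2
  have : Finite A := .of_surjective π hπ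
  have h4 : 4 ∣ Nat.card S := (by decide : ∀ n ∈ ords, 4 ∣ n) _ hn
  let K : Subgroup G := normalizer (R : Set G) ⊓ S.comap π
  let f : K →* S := (π.comp K.subtype).codRestrict S fun k => k.2.2
  have hf : Function.Surjective f := fun a => by
    obtain ⟨n, hn, e⟩ := hN a
    exact ⟨⟨n, hn, show π n ∈ S from e ▸ a.2⟩, Subtype.ext e⟩
  let C : Subgroup K := (centralizer (R : Set G)).subgroupOf K
  have nC : C.Normal := ⟨fun c hc k x hx => by
    have := hc _ ((mem_normalizer_iff''.1 k.2.1 x).1 hx)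
    calc x * ((k : G) * c * (k : G)⁻¹) = k * ((k : G)⁻¹ * x * k * c) * (k : G)⁻¹ := by group
      _ = (k : G) * c * (k : G)⁻¹ * x := by rw [show (k : G)⁻¹ * x * k * c = _ from this]; simp [mul_assoc]⟩
  have fC : C.map f = ⊥ := ((nC.map f hf).eq_bot_or_eq_top).resolve_right fun e => by
    have d : 2 ∣ Nat.card C := by
      refine (Dvd.dvd.trans (by norm_num) h4).trans ?_
      rw [← card_top, ← e]
      exact card_map_dvd _ _
    obtain ⟨c, hc⟩ := exists_prime_orderOf_dvd_card' 2 d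
    refine h0 (eq_bot_iff.2 (le_trans (le_inf le_rfl fun x hx => ?_)
      (fpf1 hr cop n hR (y := ((c : K) : G)) (by rw [orderOf_coe, orderOf_coe, hc])).le))
    exact mem_centralizer_singleton_iff.2 (c.2 x hx)
  have inv : ∀ z : K, z * z = 1 → f z = 1 := fun z hz => by
    by_contra h1
    have i : ∀ k : K, ∀ x ∈ R, ((k * z * k⁻¹ : K) : G) * x * ((k * z * k⁻¹ : K) : G)⁻¹ = x⁻¹ := fun k => by
      have e : k * z * k⁻¹ * (k * z * k⁻¹) = 1 := by rw [conj_mul, hz, mul_one, mul_inv_cancel]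
      refine inverts (congrArg Subtype.val e) (k * z * k⁻¹).2.1 (fpf1 hr cop n hR ?_)
      rw [orderOf_coe, orderOf_eq_prime ((pow_two _).trans e) fun e' =>
        h1 (by rw [conj_eq_one_iff.1 e', map_one])]
    have c : ∀ a : S, a * f z * a⁻¹ = f z := fun a => by
      obtain ⟨k, rfl⟩ := hf a
      have m : z⁻¹ * (k * z * k⁻¹) ∈ C := fun x hx => by
        have e1 := i 1 x hx
        have e2 := i k x hx
        rw [one_mul, inv_one, mul_one, ← e2] at e1
        generalize k * z * k⁻¹ = w at e1 ⊢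
        calc x * ((z : G)⁻¹ * w) = (z : G)⁻¹ * ((z : G) * x * (z : G)⁻¹) * w := by group
          _ = (z : G)⁻¹ * w * x := by rw [e1]; group
      have := mem_bot.1 (fC.le ⟨_, m, rfl⟩)
      rw [map_mul, map_inv, inv_mul_eq_one, map_mul, map_mul, map_inv] at this
      exact this.symm
    have nz : (zpowers (f z)).Normal := ⟨by
      rintro _ ⟨j, rfl⟩ a
      exact ⟨j, by rw [← conj_zpow, c]⟩⟩
    rcases nz.eq_bot_or_eq_top with e | e
    · exact h1 (zpowers_eq_bot.1 e)
    · rw [← card_top, ← e, Nat.card_zpowers] at h4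
      exact absurd (h4.trans (orderOf_dvd_of_pow_eq_one (n := 2)
        (by rw [pow_two, ← map_mul, hz, map_one]))) (by decide)
  obtain ⟨T⟩ := (inferInstance : Nonempty (Sylow 2 K))
  obtain ⟨c1, c2, -⟩ := hS S simp hn (T.mapSurjective hf)
  let e := (T : Subgroup K).equivMapOfInjective K.subtype K.subtype_injective
  have sj := f.subgroupMap_surjective T
  have p := T.isPGroup'.map K.subtype
  rcases H5.isCyclic_or_quaternion_of_fpf h0 ((map_subtype_le _).trans inf_le_left)
    (fpf hr Nat.prime_two h2 n hR p) p with c | ⟨-, m, ⟨q⟩⟩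
  · exact c1 (isCyclic_of_surjective ((f.subgroupMap T).comp e.symm.toMonoidHom)
      (sj.comp e.symm.surjective))
  · let q' := (e.trans q).symm
    rcases quat_quot ((f.subgroupMap T).comp q'.toMonoidHom) (sj.comp q'.surjective)
      (Subtype.ext (inv _ (congrArg Subtype.val (show q' _ * q' _ = 1 by
        rw [← map_mul, QuaternionGroup.a_mul_a, ← two_mul, ← map_one q', QuaternionGroup.one_def]
        exact congrArg _ (congrArg _ (by exact_mod_cast ZMod.natCast_self _)))))) with c | ⟨k, hk, c⟩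
    exacts [c1 c, c2 k hk c]

theorem jobCC : JobCC.{u} := by
  intro S _ _ H h0 hH
  have d := H31.relIndex_dvd_card_sub_one H (normalizer (H : Set S)) (fun n hn k hk => (hn k).1 hk)
    fun k hk h1 n _ e => hH k hk h1 ▸ mem_centralizer_singleton_iff.2 e
  have c : Nat.card (normalizer (H : Set S)) =
      Nat.card H * (H.subgroupOf (normalizer (H : Set S))).index := by
    rw [← card_mul_index (H.subgroupOf _), Nat.card_congr (subgroupOfEquivOfLe le_normalizer).toEquiv]
  refine ⟨_, (normalizer (H : Set S)).index, by rw [← c, card_mul_index], d, ?_, c⟩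
  have cop : (Nat.card H).Coprime (H.subgroupOf (normalizer (H : Set S))).index :=
    ((Nat.coprime_self_sub_right Nat.card_pos).2 (Nat.coprime_one_right _)).coprime_dvd_right d
  refine H5.card_modEq_one_of_semiregular (A := H) ((1 : S) : S ⧸ normalizer (H : Set S))
    (fun a => QuotientGroup.eq.2 (by simpa using le_normalizer a.2)) fun a x e ne => ?_
  induction x using QuotientGroup.induction_on with | H g => ?_
  have m : g⁻¹ * a * g ∈ normalizer (H : Set S) := by
    simpa [mul_assoc] using QuotientGroup.eq.1 e.symm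
  have : (H.subgroupOf (normalizer (H : Set S))).Normal := normal_in_normalizer
  have m' : g⁻¹ * a * g ∈ H := by
    have e1 := pow_index_mem (H := H.subgroupOf (normalizer (H : Set S))) ⟨_, m⟩
    have e2 : (g⁻¹ * a * g) ^ Nat.card H = 1 := by
      rw [show g⁻¹ * a * g = g⁻¹ * a * g⁻¹⁻¹ by rw [inv_inv], conj_pow, ← coe_pow,
        pow_card_eq_one', coe_one, mul_one, mul_inv_cancel]
    exact zpowers_le.2 (show (g⁻¹ * a * g) ^ _ ∈ H from e1) (mem_zpowers_pow_iff.2
      (cop.coprime_dvd_left (orderOf_dvd_of_pow_eq_one e2)).symm)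
  refine Subtype.ext (H31.ti_of_centralizer_eq H hH g⁻¹ (fun e => ne ?_) a a.2 (by rwa [inv_inv]))
  exact QuotientGroup.eq.2 (by rwa [mul_one])

theorem cent_eq {S : Type*} [Group S] [Finite S] {H : Subgroup S}
    (ab : ∀ x ∈ H, ∀ y ∈ H, x * y = y * x)
    (h : ∀ r s : ℕ, r.Prime → s.Prime → r ∣ Nat.card H → s ∣ H.index → r ≠ s ∧ r * s ∉ om S) :
    ∀ x ∈ H, x ≠ 1 → centralizer {x} = H := fun x hx h1 => by
  have l : H ≤ centralizer {x} := fun y hy => mem_centralizer_singleton_iff.2 (ab y hy x hx)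
  refine le_antisymm (relIndex_eq_one.1 (by_contra fun e => ?_)) l
  obtain ⟨s, hs, d⟩ := Nat.exists_prime_and_dvd e
  obtain ⟨r, hr, d'⟩ := Nat.exists_prime_and_dvd (mt orderOf_eq_one_iff.1 h1)
  have := Fact.mk hs
  obtain ⟨y, hy⟩ := exists_prime_orderOf_dvd_card' s (d.trans (relIndex_dvd_card H _))
  obtain ⟨a, b⟩ := h r s hr hs (d'.trans (H.orderOf_dvd_natCard hx))
    (d.trans (relIndex_dvd_index_of_le l))
  exact b (mem_om ((Nat.coprime_primes hr hs).2 a) d' (by rw [orderOf_coe, hy])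
    (mem_centralizer_singleton_iff.1 y.2).symm)

theorem dvd3 {s p q r a b c : ℕ} (hs : s.Prime) (hp : p.Prime) (hq : q.Prime) (hr : r.Prime)
    (h : s ∣ p ^ a * q ^ b * r ^ c) : s = p ∨ s = q ∨ s = r := by
  rw [hs.dvd_mul, hs.dvd_mul, or_assoc] at h
  exact h.imp (Nat.prime_eq_prime_of_dvd_pow hs hp)
    (Or.imp (Nat.prime_eq_prime_of_dvd_pow hs hq) (Nat.prime_eq_prime_of_dvd_pow hs hr))

theorem jobJ2a : JobJ2a.{u} := by
  intro S _ _ c n1 n2 n3
  have := Fact.mk Nat.prime_five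
  obtain ⟨H, hH⟩ := Sylow.exists_subgroup_card_pow_prime (G := S) 5 (n := 2) (by rw [c]; norm_num)
  have hi : H.index = 2 ^ 7 * 3 ^ 3 * 7 ^ 1 := by
    have := H.card_mul_index
    rw [hH] at this
    omega
  obtain ⟨e, n, a1, a2, a3, -⟩ := jobCC S H (fun e => by rw [e, card_bot] at hH; omega)
    (cent_eq (fun x hx y hy => congrArg Subtype.val
      ((IsPGroup.isMulCommutative_of_card_eq_prime_sq hH).is_comm.comm ⟨x, hx⟩ ⟨y, hy⟩))
      fun r s hr hs d d' => by
        obtain rfl := Nat.prime_eq_prime_of_dvd_pow hr Nat.prime_five (hH ▸ d)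
        rcases dvd3 hs Nat.prime_two Nat.prime_three Nat.prime_seven (hi ▸ d') with rfl | rfl | rfl
        exacts [⟨by decide, n1⟩, ⟨by decide, n2⟩, ⟨by decide, n3⟩])
  rw [hH] at a1 a2 a3
  have := Nat.le_of_dvd (by norm_num) a2
  unfold Nat.ModEq at a3
  interval_cases e <;> omega

theorem jobRu : JobRu.{u} := by
  rintro S _ _ c ⟨x, hx⟩ n
  have hH : Nat.card (zpowers x) = 47125 := by rw [Nat.card_zpowers, hx]
  have hi : (zpowers x).index = 2 ^ 14 * 3 ^ 3 * 7 ^ 1 := by
    have := (zpowers x).card_mul_index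
    rw [hH] at this
    omega
  obtain ⟨e, n, a1, a2, a3, -⟩ := jobCC S _ (fun e => by rw [e, card_bot] at hH; omega)
    (cent_eq (H := zpowers x) (by
      rintro _ ⟨i, rfl⟩ _ ⟨j, rfl⟩
      exact zpow_mul_comm x i j)
      fun r s hr hs d d' => by
        have h1 := dvd3 (p := 5) (q := 13) (r := 29) (a := 3) (b := 1) (c := 1) hr (by norm_num)
          (by norm_num) (by norm_num) (by rwa [hH] at d)
        have h2 := dvd3 hs Nat.prime_two Nat.prime_three Nat.prime_seven (hi ▸ d')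
        exact ⟨by omega, n r (by simpa using h1) s (by simpa using h2)⟩)
  rw [hH] at a1 a2 a3
  have a4 : 3096576 = e * n := by rw [c, mul_assoc] at a1; omega
  have a5 : e ∈ Nat.divisors 252 := Nat.mem_divisors.2 ⟨Nat.dvd_gcd a2 ⟨n, a4⟩, by norm_num⟩
  unfold Nat.ModEq at a3
  rw [show Nat.divisors 252 = {1, 2, 3, 4, 6, 7, 9, 12, 14, 18, 21, 28, 36, 42, 63, 84, 126, 252}
    by decide +kernel] at a5
  fin_cases a5 <;> omega

end H11.SP
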