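/- SPECTRA (S3535), section SP-ISO: an isolated prime dividing the order of the socle once. -/
import Cfsg.Agent.H11.SPR
import Cfsg.Agent.H40.SPAsm
import Cfsg.Agent.H5.ThompsonFpf
import Cfsg.Agent.H18.Misc2
import Cfsg.Agent.H70.Maz
import Cfsg.Agent.H99.SPE
import Cfsg.Agent.H98.Coprime
import Cfsg.Agent.H41.CenQuot

set_option autoImplicit false
set_option linter.unusedSectionVars false

namespace H11.SP

open Subgroup H40.SP

universe u

section
variable {G : Type u} [Group G] [Finite G] {p t e r : ℕ}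

/-- `p` is nonadjacent to all other primes -/
def Iso (p : ℕ) (G : Type u) [Group G] : Prop := ∀ r : ℕ, r.Prime → r ≠ p → p * r ∉ om G

theorem Iso.mono {H : Type u} [Group H] (h : Iso p G) (l : om H ⊆ om G) : Iso p H :=
  fun r hr n m => h r hr n (l m)

theorem aut_cyc {P : Subgroup G} (hp : p.Prime) (c : Nat.card P = p) :
    IsCyclic (MulAut P) ∧ Nat.card (MulAut P) = p - 1 := by
  subst c
  have := Fact.mk hp
  have : IsCyclic P := isCyclic_of_prime_card rfl
  exact ⟨isCyclic_of_surjective (IsCyclic.mulAutMulEquiv P).symm (MulEquiv.surjective _),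
    by rw [IsCyclic.card_mulAut, Nat.totient_prime hp]⟩

theorem aut_eq_one {P : Subgroup G} {z : normalizer (P : Set G)} :
    P.normalizerMonoidHom z = 1 ↔ ∀ y ∈ P, (z : G) * y = y * z := by
  rw [← MonoidHom.mem_ker, normalizerMonoidHom_ker]
  exact ⟨fun h y hy => (h y hy).symm, fun h y hy => (h y hy).symm⟩

theorem exists_z0 {P : Subgroup G} (hp : p.Prime) (cP : Nat.card P = p) (iso : Iso p G)
    (hc : Nat.card G = p * t) (he : t ≡ e [MOD p]) (h0 : 0 < e) (lt : e < p) :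
    ∃ z ∈ normalizer (P : Set G), z ^ e = 1 ∧
      ∀ i, (∀ y ∈ P, z ^ i * y = y * z ^ i) → e ∣ i := by
  have := Fact.mk hp
  have : IsCyclic P := isCyclic_of_prime_card cP
  have ab : ∀ x ∈ P, ∀ y ∈ P, x * y = y * x := fun x hx y hy =>
    congrArg Subtype.val (IsCyclic.isMulCommutative.is_comm.comm (⟨x, hx⟩ : P) ⟨y, hy⟩)
  have hi : P.index = t := Nat.eq_of_mul_eq_mul_left hp.pos (by rw [← hc, ← cP, card_mul_index])
  have hC := cent_eq ab fun r s hr hs d d' => by
    obtain rfl := (Nat.prime_dvd_prime_iff_eq hr hp).1 (cP ▸ d)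
    have n : r ≠ s := fun e' => Nat.not_dvd_of_pos_of_lt h0 lt
      ((he.dvd_iff dvd_rfl).1 (by rwa [hi, ← e'] at d'))
    exact ⟨n, iso s hs n.symm⟩
  have P0 : P ≠ ⊥ := fun e => hp.one_lt.ne (by rw [← cP, e, card_bot])
  obtain ⟨e', n, a1, a2, a3, a4⟩ := jobCC G P P0 hC
  rw [cP] at a1 a2 a3 a4
  obtain rfl : e' = e := by
    have b : t = e' * n := Nat.eq_of_mul_eq_mul_left hp.pos (by rw [← hc, a1, mul_assoc])
    have := Nat.le_of_dvd (by have := hp.one_lt; omega) a2
    exact Nat.ModEq.eq_of_lt_of_lt ((by simpa using (a3.mul_left e').symm :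
      e' ≡ e' * n [MOD p]).trans (b ▸ he)) (by omega) lt
  let φ := P.normalizerMonoidHom
  have k : φ.ker = P.subgroupOf _ := by
    obtain ⟨⟨x, hx⟩, h1⟩ := ne_bot_iff_exists_ne_one.1 P0
    ext z
    exact aut_eq_one.trans ⟨fun h => (hC x hx fun e => h1 (Subtype.ext e)).le
      (mem_centralizer_singleton_iff.2 (h x hx)), fun h => ab _ h⟩
  have cr : Nat.card φ.range = e' := Nat.eq_of_mul_eq_mul_left hp.pos (by
    rw [← a4, ← index_ker, ← card_mul_index φ.ker, k,
      Nat.card_congr (subgroupOfEquivOfLe le_normalizer).toEquiv, cP])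
  have := (aut_cyc hp cP).1
  obtain ⟨w, hz⟩ := IsCyclic.exists_ofOrder_eq_natCard (α := φ.range)
  obtain ⟨z, e⟩ := w.2
  rw [← orderOf_coe, ← e, cr] at hz
  refine ⟨(z ^ p : normalizer (P : Set G)), (z ^ p).2, ?_, fun i h => ?_⟩
  · rw [← coe_pow, ← pow_mul, ← a4, pow_card_eq_one', coe_one]
  · have := aut_eq_one (z := (z ^ p) ^ i).2 h
    rw [← pow_mul, map_pow] at this
    exact ((Nat.coprime_of_lt_prime h0.ne' lt hp).symm).dvd_of_dvd_mul_left
      (hz ▸ orderOf_dvd_of_pow_eq_one this)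

theorem exists_z {D P : Subgroup G} (l : P ≤ D) (hp : p.Prime) (cP : Nat.card P = p) (iso : Iso p G)
    (hc : Nat.card D = p * t) (he : t ≡ e [MOD p]) (h0 : 0 < e) (lt : e < p) :
    ∃ z ∈ D ⊓ normalizer (P : Set G), z ^ e = 1 ∧
      ∀ i, (∀ y ∈ P, z ^ i * y = y * z ^ i) → e ∣ i := by
  obtain ⟨z, h1, h2, h3⟩ := exists_z0 (P := P.subgroupOf D) hp
    ((Nat.card_congr (subgroupOfEquivOfLe l).toEquiv).trans cP) (iso.mono (om_sub D)) hc he h0 lt
  rw [← subgroupOf_normalizer_eq l] at h1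
  exact ⟨z, ⟨z.2, h1⟩, congrArg Subtype.val h2, fun i h => h3 i fun y hy => Subtype.ext (h y hy)⟩

/-- `A / S` is a `p`-group -/
theorem mem_socle {S : Subgroup G} [S.Normal] (hp : p.Prime) (iso : Iso p G)
    (hc : Nat.card S = p * t) (he : t ≡ e [MOD p]) (h0 : 0 < e) (lt : e < p)
    (hm : ∀ m ∈ om G, m ∣ p - 1 → m ∣ e) {g : G} (hg : ¬ p ∣ orderOf g) : g ∈ S := by
  have := Fact.mk hp
  have nt : ¬ p ∣ t := fun d => Nat.not_dvd_of_pos_of_lt h0 lt ((he.dvd_iff dvd_rfl).1 d)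
  obtain ⟨P, l, -, cP, hN⟩ := frat hp S
  rw [hc, Nat.factorization_mul hp.ne_zero (fun e : t = 0 => nt (e ▸ dvd_zero p)), Finsupp.add_apply,
    hp.factorization_self, Nat.factorization_eq_zero_of_not_dvd nt, pow_one] at cP
  obtain ⟨z, ⟨z1, z2⟩, z3, z4⟩ := exists_z l hp cP iso hc he h0 lt
  obtain ⟨n, hn, k, hk, rfl⟩ := hN g
  let φ := P.normalizerMonoidHom
  obtain ⟨c1, c2⟩ := aut_cyc hp cP
  have d : orderOf (φ ⟨n, hn⟩) ∣ orderOf (φ ⟨z, z2⟩) :=
    (hm _ (om_dvd (orderOf_map_dvd φ _) ⟨n, (orderOf_mk _ _).symm⟩) (c2 ▸ orderOf_dvd_natCard _)).trans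
      (z4 _ (aut_eq_one (z := ⟨z, z2⟩ ^ _).1 (by rw [map_pow, pow_orderOf_eq_one])))
  obtain ⟨i, hi⟩ := H18.mem_zpowers_of_orderOf_dvd (K := ⊤) inferInstance (mem_top _) (mem_top _) d
  have c := aut_eq_one (z := (⟨z, z2⟩ ^ i)⁻¹ * ⟨n, hn⟩).1
    (by rw [map_mul, map_inv, map_zpow, ← hi, inv_mul_cancel])
  obtain ⟨x, hx⟩ := exists_prime_orderOf_dvd_card' (G := P) p cP.symm.dvd
  let π := QuotientGroup.mk' S
  have e1 : π (n * k) = π ((z ^ i)⁻¹ * n) := by
    rw [map_mul, map_mul, map_inv, show π k = 1 from (QuotientGroup.eq_one_iff k).2 hk,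
      show π (z ^ i) = 1 from (QuotientGroup.eq_one_iff _).2 (S.zpow_mem z1 i), inv_one, one_mul, mul_one]
  refine (QuotientGroup.eq_one_iff _).1 (orderOf_eq_one_iff (x := π (n * k)).1 (by_contra fun e => ?_))
  obtain ⟨r, hr, d⟩ := Nat.exists_prime_and_dvd e
  have n : r ≠ p := fun e => hg ((e ▸ d).trans (orderOf_map_dvd π _))
  exact iso r hr n (mem_om ((Nat.coprime_primes hp hr).2 n.symm) (x := (x : G))
    (by rw [orderOf_coe, hx]) ((e1 ▸ d).trans (orderOf_map_dvd π _)) (c x x.2).symm)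

theorem mul_pow_nor {V : Subgroup G} {v z : G} (hv : v ∈ V) (hz : z ∈ normalizer (V : Set G))
    (n : ℕ) : (v * z) ^ n * (z ^ n)⁻¹ ∈ V := by
  induction n with
  | zero => simp
  | succ n ih =>
    rw [show (v * z) ^ (n + 1) * (z ^ (n + 1))⁻¹ =
      (v * z) ^ n * (z ^ n)⁻¹ * (z ^ n * v * (z ^ n)⁻¹) by rw [pow_succ, pow_succ]; group]
    exact mul_mem ih ((pow_mem hz n v).1 hv)

/-- Mazurov's lemma for the Frobenius group `p : e` -/
theorem maz {D K : Subgroup G} [K.Normal] (hp : p.Prime) (iso : Iso p G) (hK : ¬ p ∣ Nat.card K)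
    (hc : Nat.card D = Nat.card K * (p * t)) (he : t ≡ e [MOD p]) (h0 : 0 < e) (lt : e < p)
    (hr : r.Prime) (d : r ∣ Nat.card K) : e * r ∈ om G := by
  have := Fact.mk hp
  have := Fact.mk hr
  obtain ⟨P, l, cP⟩ := exists_psub hp (N := D) (b := 1) (by rw [hc, pow_one]; exact ⟨Nat.card K * t, by ring⟩)
  rw [pow_one] at cP
  have pP : IsPGroup p P := .of_card (cP.trans (pow_one p).symm)
  have fp : ∀ y ∈ P, y ≠ 1 → K ⊓ centralizer {y} = ⊥ := fun y hy h1 => eq_bot_iff.2 fun w hw =>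
    mem_bot.2 (orderOf_eq_one_iff.1 (by_contra fun e => by
      obtain ⟨s, hs, d⟩ := Nat.exists_prime_and_dvd e
      have n : s ≠ p := fun e => hK ((e ▸ d).trans (K.orderOf_dvd_natCard hw.1))
      exact iso s hs n (mem_om ((Nat.coprime_primes hp hs).2 n.symm) (dvd_ord hp pP hy h1) d
        (mem_centralizer_singleton_iff.1 hw.2).symm)))
  have P0 : P ≠ ⊥ := fun e => hp.one_lt.ne (by rw [← cP, e, card_bot])
  have m := H5.card_modEq_one_of_fpf_subgroup (le_normalizer_of_normal (H := K)) fp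
  rw [cP] at m
  obtain ⟨z, ⟨-, z2⟩, z3, z4⟩ := exists_z (t := Nat.card K * t) l hp cP iso (by rw [hc]; ring)
    (by simpa using m.mul he) h0 lt
  have := H5.isNilpotent_of_fpf_subgroup P0 (le_normalizer_of_normal (H := K)) fp
  obtain ⟨R₀⟩ := (inferInstance : Nonempty (Sylow r K))
  have := R₀.characteristic_of_normal inferInstance
  let R := (R₀ : Subgroup K).map K.subtype
  have pR : IsPGroup r R := R₀.isPGroup'.map _
  let V := R ⊓ centralizer (R : Set G)
  have V0 : V ≠ ⊥ := H98.inf_centralizer_ne_bot pR pR le_normalizer fun e =>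
    R₀.ne_bot_of_dvd_card d ((map_eq_bot_iff_of_injective _ K.subtype_injective).1 e)
  have VK : V ≤ K := inf_le_left.trans (map_subtype_le _)
  have cop : (Nat.card K).Coprime (Nat.card P) := cP ▸ (hp.coprime_iff_not_dvd.2 hK).symm
  have nV : ∀ g, g ∈ normalizer (V : Set G) := fun g => le_normalizer_of_normal (mem_top g)
  obtain ⟨v, hv, ne⟩ : ∃ v ∈ V, (v * z) ^ e ≠ z ^ e := by
    by_contra c
    push Not at c
    obtain ⟨⟨x, hx⟩, h1⟩ := ne_bot_iff_exists_ne_one.1 P0
    refine V0 (eq_bot_iff.2 fun v hv => (fp x hx fun e => h1 (Subtype.ext e)).le ⟨VK hv,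
      mem_centralizer_singleton_iff.2 (H70.Maz.cent_of_pow (V := V) (fun a ha b hb => hb.2 a ha.1)
        (fun g _ => nV g) (nV z) z2 h0 (fun i i0 ie y hy c => by_contra fun y1 => ?_)
        (cop.coprime_dvd_left (card_dvd_of_le VK)) c x hx v hv).symm⟩)
    refine Nat.not_dvd_of_pos_of_lt i0 ie (z4 i fun w hw => ?_)
    have : zpowers y = P := eq_of_le_of_card_ge (zpowers_le.2 hy) (by
      rw [cP, Nat.card_zpowers]
      exact Nat.le_of_dvd (orderOf_pos y) (dvd_ord hp pP hy y1))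
    obtain ⟨j, rfl⟩ := this.ge hw
    exact Commute.zpow_right c j
  have m1 := mul_pow_nor hv (nV z) e
  have m2 := mul_pow_nor hv (nV z) (orderOf (v * z))
  rw [z3] at ne m1
  rw [inv_one, mul_one] at m1
  rw [pow_orderOf_eq_one, one_mul, inv_mem_iff] at m2
  obtain ⟨o, ho⟩ := z4 (orderOf (v * z)) fun y hy => by
    have := (disjoint_of_coprime_natCard cop).le_bot (show z ^ _ * y * (z ^ _)⁻¹ * y⁻¹ ∈ K ⊓ P from
      ⟨by
        rw [mul_assoc, mul_assoc, ← mul_assoc y]
        exact mul_mem (VK m2) (Normal.conj_mem ‹_› _ (inv_mem (VK m2)) y),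
      P.mul_mem ((pow_mem z2 _ y).1 hy) (P.inv_mem hy)⟩)
    rwa [mem_bot, mul_inv_eq_one, mul_inv_eq_iff_eq_mul] at this
  have d := dvd_ord hr pR m1.1 ne
  rw [orderOf_pow, ho, Nat.gcd_mul_right_left, Nat.mul_div_cancel_left _ h0] at d
  exact om_dvd (mul_dvd_mul_left e d) ⟨_, ho⟩

theorem lift {A : Type*} [Group A] (π : G →* A) {D : Subgroup G} {y : A} (hy : y ∈ D.map π)
    (c : (orderOf y).Coprime (Nat.card π.ker)) : ∃ x ∈ D, π x = y ∧ orderOf x = orderOf y := by
  obtain ⟨d, hd, rfl⟩ := hy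
  obtain ⟨k, hk⟩ := Nat.exists_mul_mod_eq_of_coprime 1 c.symm
    (π.isOfFinOrder (isOfFinOrder_of_finite d)).orderOf_pos.ne'
  have e : π (d ^ (Nat.card π.ker * k)) = π d := by
    rw [map_pow, ← pow_mod_orderOf, hk.2, pow_mod_orderOf, pow_one]
  refine ⟨_, D.pow_mem hd _, e, Nat.dvd_antisymm (orderOf_dvd_of_pow_eq_one ?_)
    (e ▸ orderOf_map_dvd π _)⟩
  have : (d ^ orderOf (π d)) ^ Nat.card π.ker = 1 := congrArg Subtype.val
    (pow_card_eq_one' (x := (⟨_, by rw [MonoidHom.mem_ker, map_pow, pow_orderOf_eq_one]⟩ : π.ker)))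
  rw [← pow_mul, mul_comm, ← mul_assoc, pow_mul, pow_mul, this, one_pow]

theorem lift_cent {A : Type*} [Group A] {π : G →* A} (hπ : Function.Surjective π) {x : G} {y : A}
    (cx : (orderOf x).Coprime (Nat.card π.ker)) (cy : (orderOf y).Coprime (Nat.card π.ker))
    (c : y * π x = π x * y) : ∃ w, Commute w x ∧ π w = y ∧ orderOf w = orderOf y := by
  obtain ⟨w, h1, h2⟩ := lift π ((H18.map_centralizer_singleton_of_coprime π hπ cx).ge
    (mem_centralizer_singleton_iff.2 c)) cy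
  exact ⟨w, mem_centralizer_singleton_iff.1 h1, h2⟩

theorem mem_sup_zp {x z b : G} (c : Commute x z) (h : b ∈ zpowers x ⊔ zpowers z) :
    ∃ i j : ℕ, b = x ^ i * z ^ j := by
  let K : Subgroup G :=
    { carrier := {b | ∃ i j : ℤ, b = x ^ i * z ^ j}
      one_mem' := ⟨0, 0, by simp⟩
      mul_mem' := by
        rintro _ _ ⟨i, j, rfl⟩ ⟨i', j', rfl⟩
        exact ⟨i + i', j + j', by rw [zpow_add, zpow_add, (c.zpow_zpow i' j).symm.mul_mul_mul_comm]⟩
      inv_mem' := by
        rintro _ ⟨i, j, rfl⟩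
        exact ⟨-i, -j, by rw [(c.zpow_zpow i j).eq, mul_inv_rev, zpow_neg, zpow_neg]⟩ }
  obtain ⟨i, j, rfl⟩ := (sup_le (zpowers_le.2 ⟨1, 0, by simp⟩) (zpowers_le.2 ⟨0, 1, by simp⟩) :
    zpowers x ⊔ zpowers z ≤ K) h
  obtain ⟨i, hi⟩ := mem_powers_iff_mem_zpowers.2 (zpow_mem_zpowers x i)
  obtain ⟨j, hj⟩ := mem_powers_iff_mem_zpowers.2 (zpow_mem_zpowers z j)
  exact ⟨i, j, by rw [← hi, ← hj]⟩

/-- an element of order `7` centralizing a four-group modulo a `3`-group -/
theorem cent_bot {A : Type*} [Group A] {π : G →* A} (hπ : Function.Surjective π)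
    (hK : IsPGroup 3 π.ker) (n : 42 ∉ om G) {y : G} (hy : orderOf y = 7) {a b : A}
    (ha : orderOf a = 2) (hb : orderOf b = 2) (ne : a ≠ b) (c : a * b = b * a)
    (ca : a * π y = π y * a) (cb : b * π y = π y * b) : π.ker ⊓ centralizer {y} = ⊥ := by
  have := Fact.mk Nat.prime_three
  obtain ⟨k, hk⟩ := hK.exists_card_eq
  have cop : ∀ {m : ℕ}, m.Coprime 3 → m.Coprime (Nat.card π.ker) := fun h => hk ▸ h.pow_right k
  obtain ⟨a', a1, rfl, a3⟩ := lift_cent hπ (cop (by rw [hy]; decide)) (cop (by rw [ha]; decide)) ca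
  rw [ha] at a3
  have o : ∀ {t : G}, Commute t y → 2 ∣ orderOf t → orderOf t ∣ 2 → orderOf (t * y) = 14 :=
    fun c h1 h2 => by
      rw [c.orderOf_mul_eq_mul_orderOf_of_coprime (by rw [Nat.dvd_antisymm h2 h1, hy]; decide),
        Nat.dvd_antisymm h2 h1, hy]
  obtain ⟨b', b1, rfl, b3⟩ := lift_cent hπ (x := a' * y)
    (cop (by rw [o a1 a3.symm.dvd a3.dvd]; decide)) (cop (by rw [hb]; decide))
    (by rw [map_mul, ← mul_assoc, ← c, mul_assoc, cb, mul_assoc])
  rw [hb] at b3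
  have a2 : a' ^ 2 = 1 := a3 ▸ pow_orderOf_eq_one a'
  have b2 : b' ^ 2 = 1 := b3 ▸ pow_orderOf_eq_one b'
  have y7 : y ^ 7 = 1 := hy ▸ pow_orderOf_eq_one y
  have b4 : Commute b' a' := by
    have := b1.pow_right 7
    rwa [a1.mul_pow, y7, mul_one, pow_succ, pow_mul a' 2 3, a2, one_pow, one_mul] at this
  have b5 : Commute b' y := by simpa using b4.inv_right.mul_right b1
  obtain ⟨e1, e2, e3⟩ := H99.exists_noncyclic_of_commute (p := 2) a3 b3 b4.symm fun h => by
    classical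
    rw [mem_zpowers_iff_mem_range_orderOf, a3] at h
    simp only [Finset.mem_image, Finset.mem_range] at h
    obtain ⟨i, hi, rfl⟩ := h
    interval_cases i
    · simp at b3
    · exact ne (by rw [pow_one])
  have l : zpowers a' ⊔ zpowers b' ≤ centralizer {y} := sup_le
    (zpowers_le.2 (mem_centralizer_singleton_iff.2 a1)) (zpowers_le.2 (mem_centralizer_singleton_iff.2 b5))
  have pW : IsPGroup 3 (π.ker ⊓ centralizer {y} : Subgroup G) := hK.to_inf_left
  refine eq_bot_iff.2 (H1.le_of_noncyclic_centralizer_le e3 (fun g hg => ?_)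
    (IsPGroup.coprime_card_of_ne 2 3 (by decide) _ _ e1 pW) ⊥ fun t ht h1 => ?_)
  · have cg : Commute g y := mem_centralizer_singleton_iff.1 (l hg)
    refine mem_normalizer_fintype fun w hw => ⟨π.normal_ker.conj_mem w hw.1 g,
      mem_centralizer_singleton_iff.2 ?_⟩
    exact ((cg.mul_left (mem_centralizer_singleton_iff.1 hw.2)).mul_left cg.inv_left).eq
  · have ct : Commute t y := mem_centralizer_singleton_iff.1 (l ht)
    obtain ⟨i, j, e⟩ := mem_sup_zp b4.symm ht
    have := fpf1 (s := 14) Nat.prime_three (by decide) n pW (y := t * y)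
      (o ct (dvd_ord Nat.prime_two e1 ht h1) (orderOf_dvd_of_pow_eq_one (by
        rw [e, (b4.symm.pow_pow i j).mul_pow, pow_right_comm, a2, pow_right_comm, b2]; simp))).symm.dvd
    exact fun w hw => this.le ⟨hw.1, mem_centralizer_singleton_iff.2
      (Commute.mul_right (mem_centralizer_singleton_iff.1 hw.2)
        (mem_centralizer_singleton_iff.1 hw.1.2)).eq⟩

end

theorem jobJ2r (hR : JobR0.{u}) : JobJ2r.{u} := by
  rintro G A _ _ _ π S h c ⟨g, hg⟩ pr n
  have : Finite A := .of_surjective π h.surj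
  have := h.normal
  simp only [List.mem_cons, List.not_mem_nil, or_false, forall_eq_or_imp, forall_eq] at pr n
  have iso : Iso 7 G := fun r hr ne m => by
    rcases pr r hr (om_dvd (dvd_mul_left r 7) m) with rfl | rfl | rfl | rfl
    exacts [n.1 m, n.2.2.1 m, n.2.2.2 m, ne rfl]
  have k3 : ¬ 3 ∣ Nat.card π.ker := fun d => n.2.1 (maz (D := S.comap π) (t := 86400) (e := 6)
    Nat.prime_seven iso (fun d => n.1 (hR G A π h.surj S h.simple (by rw [c]; decide) 7
      Nat.prime_seven (by decide) d)) (by rw [H41.card_comap_of_surjective h.surj, c]) (by decide)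
    (by decide) (by decide) Nat.prime_three d)
  have o := (orderOf_map_of_coprime π g (hg ▸ ((Nat.prime_three.coprime_iff_not_dvd.2 k3).pow_left 2 :
    Nat.Coprime 9 _))).trans hg
  exact ⟨⟨π g, mem_socle (t := 86400) (e := 6) Nat.prime_seven (iso.mono (om_surj h.surj)) c
    (by decide) (by decide) (by decide) (fun _ _ d => d) (by rw [o]; decide)⟩,
    (orderOf_mk _ _).trans o⟩

theorem jobHe0 (hR : JobR0.{u}) : JobHe0.{u} := by
  rintro G A _ _ _ π S h c ⟨g, hg⟩ pr n
  have : Finite A := .of_surjective π h.surj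
  have := h.normal
  have := Fact.mk Nat.prime_three
  have := Fact.mk Nat.prime_seven
  simp only [List.mem_cons, List.not_mem_nil, or_false, forall_eq_or_imp, forall_eq] at pr n
  obtain ⟨n16, n28, n34, n40, n42, n51, n85, n119⟩ := n
  have p17 : Nat.Prime 17 := by norm_num
  have iso : Iso 17 G := fun r hr ne m => by
    rcases pr r hr (om_dvd (dvd_mul_left r 17) m) with rfl | rfl | rfl | rfl | rfl
    exacts [n34 m, n51 m, n85 m, n119 m, ne rfl]
  have k17 : ¬ 17 ∣ Nat.card π.ker := fun d =>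
    n34 (hR G A π h.surj S h.simple (by rw [c]; decide) 17 p17 (by decide) d)
  have hK : IsPGroup 3 π.ker := IsPGroup.iff_card.2 ⟨_, Nat.eq_prime_pow_of_unique_prime_dvd
    Nat.card_pos.ne' fun {r} hr d => by
      have m := maz (D := S.comap π) (t := 237081600) (e := 8) p17 iso k17
        (by rw [H41.card_comap_of_surjective h.surj, c]) (by decide) (by decide) (by decide) hr d
      rcases pr r hr (om_dvd (dvd_mul_left r 8) m) with rfl | rfl | rfl | rfl | rfl
      exacts [(n16 m).elim, rfl, (n40 m).elim, (n28 (om_dvd (by decide) m)).elim, (k17 d).elim]⟩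
  by_cases k : π.ker = ⊥
  · have o := (orderOf_map_of_coprime π g (by rw [k, card_bot]; simp)).trans hg
    refine .inl ⟨⟨π g, mem_socle (t := 237081600) (e := 8) p17 (iso.mono (om_surj h.surj)) c
      (by decide) (by decide) (by decide) (fun m hm d => ?_) (by rw [o]; decide)⟩,
      (orderOf_mk _ _).trans o⟩
    obtain ⟨i, hi, rfl⟩ := (Nat.dvd_prime_pow Nat.prime_two (m := 4)).1 d
    rcases hi.lt_or_eq with hi | rfl
    · exact pow_dvd_pow 2 (show i ≤ 3 by omega)
    · exact (n16 (om_surj h.surj hm)).elim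
  refine .inr fun x z hx hz cxz nx => by_contra fun nk => ?_
  push Not at nk
  obtain ⟨j, hj⟩ := hK.exists_card_eq
  have cop : Nat.Coprime 7 (Nat.card π.ker) := hj ▸ Nat.Coprime.pow_right j (by decide)
  rw [← orderOf_coe] at hx hz
  obtain ⟨z', -, z1, z2⟩ := lift π (D := ⊤) (y := z) (by obtain ⟨w, e⟩ := h.surj z; exact ⟨w, trivial, e⟩)
    (hz ▸ cop)
  rw [hz] at z2
  obtain ⟨x', x0, x1, x2⟩ := lift_cent h.surj (x := z') (y := x) (z2 ▸ cop) (hx ▸ cop)
    (z1 ▸ congrArg Subtype.val cxz)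
  rw [hx] at x2
  have nx' : x' ∉ zpowers z' := fun ⟨i, e⟩ => nx ⟨i, Subtype.ext (by
    rw [← x1, ← e]; simp [z1])⟩
  have x7 : x' ^ 7 = 1 := x2 ▸ pow_orderOf_eq_one x'
  have z7 : z' ^ 7 = 1 := z2 ▸ pow_orderOf_eq_one z'
  have cb : ∀ k : ℕ, π.ker ⊓ centralizer {x' * z' ^ k} = ⊥ := fun k => by
    obtain ⟨a, b, a2, b2, cab, ca, cb, a1, b1, ne⟩ := nk k
    have e : π (x' * z' ^ k) = (x * z ^ k : S) := by simp [x1, z1]
    exact cent_bot h.surj hK n42 (a := a) (b := b) (orderOf_eq_prime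
      (by rw [(x0.pow_right k).mul_pow, x7, pow_right_comm, z7]; simp) fun e =>
        nx' (by rw [eq_inv_of_mul_eq_one_left e]; exact inv_mem (npow_mem_zpowers z' k)))
      ((orderOf_coe a).trans (orderOf_eq_prime ((pow_two a).trans a2) a1))
      ((orderOf_coe b).trans (orderOf_eq_prime ((pow_two b).trans b2) b1))
      (fun e => ne (Subtype.ext e)) (congrArg Subtype.val cab) (e ▸ congrArg Subtype.val ca)
      (e ▸ congrArg Subtype.val cb)
  obtain ⟨e1, e2, e3⟩ := H99.exists_noncyclic_of_commute z2 x2 x0.symm nx'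
  have l : π.ker ≤ centralizer {z'} := H1.le_of_noncyclic_centralizer_le e3 le_normalizer_of_normal
    (IsPGroup.coprime_card_of_ne 7 3 (by decide) _ _ e1 hK) _ fun b hb b1 w hw => by
      obtain ⟨j, i, rfl⟩ := mem_sup_zp x0.symm hb
      have cw : Commute w (z' ^ j * x' ^ i) := mem_centralizer_singleton_iff.1 hw.2
      by_cases d : 7 ∣ i
      · obtain ⟨i, rfl⟩ := d
        rw [pow_mul, x7, one_pow, mul_one] at cw b1
        obtain ⟨m, e⟩ := mem_zpowers_pow_iff (g := z') (k := j).2 (by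
          rw [z2]
          exact (Nat.prime_seven.coprime_iff_not_dvd.2 fun d => b1 (orderOf_dvd_iff_pow_eq_one.1 (z2 ▸ d))).symm)
        exact mem_centralizer_singleton_iff.2 ((congrArg (Commute w) e).mp (cw.zpow_right m)).eq
      · obtain ⟨m, -, e⟩ := Nat.exists_mul_mod_eq_one_of_coprime
          (Nat.prime_seven.coprime_iff_not_dvd.2 d).symm (by decide)
        have := cw.pow_right m
        rw [(x0.symm.pow_pow j i).eq, (x0.pow_pow i j).mul_pow, ← pow_mul, ← pow_mul, ← pow_mod_orderOf,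
          x2, e, pow_one] at this
        rw [mem_bot.1 ((cb (j * m)).le ⟨hw.1, mem_centralizer_singleton_iff.2 this.eq⟩)]
        exact one_mem _
  have nC := (inferInstance : (centralizer (π.ker : Set G)).Normal).map π h.surj
  have := h.simple
  rcases (nC.subgroupOf S).eq_bot_or_eq_top with e | e
  · rw [mem_bot.1 (e.le (show z ∈ _ from ⟨z', fun w hw => mem_centralizer_singleton_iff.1 (l hw), z1⟩))] at hz
    simp at hz
  · have := Fact.mk p17
    obtain ⟨y, hy⟩ := exists_prime_orderOf_dvd_card' 17 (((by rw [c]; decide : 17 ∣ Nat.card S).trans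
      (card_dvd_of_le (subgroupOf_eq_top.1 e))).trans (card_map_dvd _ _))
    exact k (eq_bot_iff.2 fun w hw => (fpf1 (s := 17) Nat.prime_three (by decide) n51 hK (y := y)
      (by rw [orderOf_coe, hy])).le ⟨hw, mem_centralizer_singleton_iff.2 (y.2 w hw)⟩)

end H11.SP
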