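/- The signalizer functor of a `k`-balanced group in rank at least `k + 2`. -/
import Cfsg.Agent.S0217
import Cfsg.Agent.H14.LocBal3
import Cfsg.Agent.H15.Elem
import Cfsg.Agent.H48.Maschke

set_option autoImplicit false

open Cfsg hiding pRank
open Subgroup H46

namespace H11.SigK

variable {G : Type*} [Group G] [Finite G] {p k : ℕ} [hp : Fact p.Prime] {A : Subgroup G}

/-- `Θ(E)` -/
def Th (p k : ℕ) (A E : Subgroup G) : Subgroup G :=
  ⨆ D : {D : Subgroup G // D ≤ A ∧ Nat.card D = p ^ k}, signalizerDelta p (D : Subgroup G) ⊓ Cent E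

omit [Finite G] hp in
theorem Th_anti {E F : Subgroup G} (h : E ≤ F) : Th p k A F ≤ Th p k A E :=
  iSup_mono fun _ => inf_le_inf_left _ (cent_anti h)

omit [Finite G] hp in
theorem Th_cent (E : Subgroup G) : Th p k A E ≤ Cent E := iSup_le fun _ => inf_le_right

omit [Finite G] hp in
theorem nrm_delta (hA : IsElementaryAbelian p A) {D E : Subgroup G} (hD : D ≤ A) (hE : E ≤ A) :
    A ≤ Nrm (signalizerDelta p D ⊓ Cent E) :=
  nrm_inf ((H15.elem_le_cent hA hD).trans (H14.centralizer_le_normalizer_signalizerDelta D))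
    (nrm_of_le (H15.elem_le_cent hA hE))

omit [Finite G] hp in
theorem nrm_Th (hA : IsElementaryAbelian p A) {E : Subgroup G} (hE : E ≤ A) : A ≤ Nrm (Th p k A E) :=
  H98.le_normalizer_iSup fun D => nrm_delta hA D.2.1 hE

omit [Finite G] in
theorem Th_le (hbal : IsKBalanced p k G) (hA : IsElementaryAbelian p A) {E : Subgroup G} (hE : E ≤ A)
    {e : G} (he : e ∈ E) (h1 : e ≠ 1) : Th p k A E ≤ centralizerPPrimeCore p e :=
  iSup_le fun D => (inf_le_inf_left _ (cent_le_cent1 he)).trans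
    (hbal D.1 (H15.elem_of_le hA D.2.1) D.2.2 e (H15.elem_orderOf hp.out hA (hE he) h1)
      fun a ha => H14.ea_comm hA (D.2.1 ha) (hE he))

theorem isPi_core (e : G) : IsPi {p}ᶜ (centralizerPPrimeCore p e) :=
  (isPi_compl_singleton_iff_coprime hp.out).2 (H14.coprime_card_opp _)

theorem Th_inf (hbal : IsKBalanced p k G) (hA : IsElementaryAbelian p A)
    (hAk : p ^ (k + 2) ≤ Nat.card A)
    (hs : ∀ a ∈ A, a ≠ 1 → Group.IsSolvable (centralizerPPrimeCore p a)) (E : Subgroup G) :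
    E ≤ A → E ≠ ⊥ → ∀ F, E ≤ F → F ≤ A → Th p k A E ⊓ Cent F ≤ Th p k A F := by
  induction E using (wellFounded_gt (α := Subgroup G)).induction with
  | _ E ih =>
  intro hE h1 F hEF hF
  obtain ⟨e, he, e1⟩ := exists_ne_one_of_ne_bot h1
  by_cases hc : p ^ k ≤ Nat.card E
  · obtain ⟨D, hD, hDk⟩ := H14.exists_le_card_eq_pow (H14.ea_isPGroup (H15.elem_of_le hA hE)) hc
    refine le_iSup_of_le ⟨D, hD.trans hE, hDk⟩ (inf_le_inf_right _ ?_)
    exact H14.le_signalizerDelta_iff.2 fun d hd d1 => Th_le hbal hA hE (hD hd) d1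
  rcases hEF.eq_or_lt with rfl | hlt
  · exact inf_le_left
  obtain ⟨W, w1, w2⟩ := H48.exists_compl_of_elemAb hA hE
  have hW : W ≤ A := w2 ▸ le_sup_right
  have eW := H15.elem_of_le hA hW
  have cW : p ^ 3 ≤ Nat.card W := by
    obtain ⟨j, hj⟩ := (isPi_of_elem hp.out (H15.elem_of_le hA hE)).exists_pow hp.out
    have hjk : j + 1 ≤ k := (Nat.pow_lt_pow_iff_right hp.out.one_lt).1 (hj ▸ not_le.1 hc)
    have := card_sup_of_disjoint (hW.trans (nrm_of_comm hA.1 hE)) w1
    rw [w2, hj] at this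
    refine Nat.le_of_mul_le_mul_left ?_ (pow_pos hp.out.pos j)
    rw [← this, ← pow_add]
    exact (Nat.pow_le_pow_right hp.out.pos (by omega)).trans hAk
  have lt : ∀ c ∈ W, c ≠ 1 → E < E ⊔ zpowers c := fun c hc c1 => left_lt_sup.2 fun h => c1 (by
    rw [← mem_bot, ← w1]; exact ⟨h (mem_zpowers c), hc⟩)
  have le : ∀ c ∈ W, E ⊔ zpowers c ≤ A := fun c hc => sup_le hE (zpowers_le.2 (hW hc))
  have ih' : ∀ c ∈ W, c ≠ 1 → ∀ F, E ⊔ zpowers c ≤ F → F ≤ A →
      Th p k A (E ⊔ zpowers c) ⊓ Cent F ≤ Th p k A F := fun c hc c1 =>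
    ih _ (lt c hc c1) (le c hc) (ne_bot_of_le le_sup_left h1)
  have core : ∀ c ∈ W, Th p k A (E ⊔ zpowers c) ≤ centralizerPPrimeCore p e := fun c hc =>
    Th_le hbal hA (le c hc) (mem_sup_left he) e1
  obtain ⟨-, h2⟩ := Cfsg.Agent.S0217.result (p := p) W (fun a ha b hb => H14.ea_comm eW ha hb) eW.2 cW
    (fun c => Th p k A (E ⊔ zpowers c))
    (fun c _ _ => (Th_cent _).trans (cent_le_cent1 (mem_sup_right (mem_zpowers c))))
    (fun c hc _ => (isPi_compl_singleton hp.out).1 ((isPi_core e).of_le (core c hc)))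
    (fun c hc _ b hb x hx => conj_mem_of_mem_nrm (nrm_Th hA (le c hc) (hW hb)) hx)
    (fun c hc _ => sol_of_le (hs e (hE he) e1) (core c hc))
    (fun c hc c1 d hd _ => by
      refine le_trans (le_inf inf_le_left ?_) ((ih' c hc c1 (E ⊔ zpowers c ⊔ zpowers d) le_sup_left
        (sup_le (le c hc) (zpowers_le.2 (hW hd)))).trans (Th_anti (sup_le_sup_right le_sup_left _)))
      rw [cent_sup, cent_zpowers]
      exact inf_le_inf_right _ (Th_cent _))
  have h3 : Th p k A E ≤ ⨆ b : {a : G // a ∈ W ∧ a ≠ 1}, Th p k A (E ⊔ zpowers b.1) := iSup_le fun D =>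
    H15.le_of_cent1 hp.out eW (H15.sq_le_of_cube_le hp.out cW) (hW.trans (nrm_delta hA D.2.1 hE))
      ((isPi_core e).of_le ((le_iSup (fun D : {D : Subgroup G // D ≤ A ∧ Nat.card D = p ^ k} =>
        signalizerDelta p (D : Subgroup G) ⊓ Cent E) D).trans (Th_le hbal hA hE he e1)))
      fun c hc c1 => le_iSup_of_le ⟨c, hc, c1⟩ (le_iSup_of_le D (by
        rw [cent_sup, cent_zpowers, inf_assoc]))
  obtain ⟨c, hc, c1⟩ := exists_ne_one_of_ne_bot (H := W ⊓ F) fun h => hlt.ne (by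
    have := modl (hW.trans (nrm_of_comm hA.1 hE)) hEF
    rwa [w2, h, sup_bot_eq, inf_of_le_right hF, eq_comm] at this)
  refine le_trans (le_inf ?_ inf_le_right) (ih' c hc.1 c1 F (sup_le hEF (zpowers_le.2 hc.2)) hF)
  rw [← h2 c hc.1 c1]
  exact inf_le_inf h3 (cent_le_cent1 hc.2)

theorem s1299 (hbal : IsKBalanced p k G) (hA : IsElementaryAbelian p A)
    (hAk : p ^ (k + 2) ≤ Nat.card A)
    (hs : ∀ a ∈ A, a ≠ 1 → Group.IsSolvable (centralizerPPrimeCore p a)) :
    IsSignalizerFunctor p A fun a => Th p k A (zpowers a) := by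
  refine ⟨fun a _ _ => (Th_cent _).trans (cent_zpowers a).le, fun a ha a1 =>
    (isPi_compl_singleton hp.out).1 ((isPi_core a).of_le (Th_le hbal hA (zpowers_le.2 ha) (mem_zpowers a) a1)),
    fun a ha _ b hb x hx => conj_mem_of_mem_nrm (nrm_Th hA (zpowers_le.2 ha) hb) hx,
    fun a ha a1 b hb _ => ?_⟩
  refine le_trans (le_inf inf_le_left ?_) ((Th_inf hbal hA hAk hs _ (zpowers_le.2 ha) (by simpa using a1)
    (zpowers a ⊔ zpowers b) le_sup_left (sup_le (zpowers_le.2 ha) (zpowers_le.2 hb))).trans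
      (Th_anti le_sup_right))
  rw [cent_sup, cent_zpowers b]
  exact inf_le_inf_right _ (Th_cent _)

end H11.SigK
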